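import Mathlib

set_option autoImplicit false

namespace Cfsg.Agent.Lib.Helper76.GaloisAvg

open Polynomial

/-- AM-GM in the form: nonnegative reals with product at least `1` have sum at least their
number. -/
theorem card_le_sum_of_one_le_prod {ι : Type*} (s : Finset ι) (y : ι → ℝ)
    (h0 : ∀ i ∈ s, 0 ≤ y i) (h1 : 1 ≤ ∏ i ∈ s, y i) : (s.card : ℝ) ≤ ∑ i ∈ s, y i := by
  have hpos : ∀ i ∈ s, 0 < y i := by
    intro i hi
    rcases (h0 i hi).lt_or_eq with h | h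
    · exact h
    · exfalso
      have : ∏ i ∈ s, y i = 0 := Finset.prod_eq_zero hi h.symm
      linarith
  have hlog : 0 ≤ ∑ i ∈ s, Real.log (y i) := by
    rw [← Real.log_prod (fun i hi => (hpos i hi).ne')]
    exact Real.log_nonneg h1
  have h2 : ∑ i ∈ s, (1 + Real.log (y i)) ≤ ∑ i ∈ s, y i := by
    apply Finset.sum_le_sum
    intro i hi
    have := Real.log_le_sub_one_of_pos (hpos i hi)
    linarith
  rw [Finset.sum_add_distrib, Finset.sum_const, nsmul_eq_mul, mul_one] at h2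
  linarith

/-- The product over all Galois conjugates of a nonzero sum of `e`-th roots of unity is a
nonzero integer (version with an explicit cyclotomic field). -/
theorem exists_int_prod_aux (e : ℕ) [NeZero e] (L : Type) [Field L] [Algebra ℚ L]
    [IsCyclotomicExtension {e} ℚ L] (n : ℕ) (μ : Fin n → ℂ) (hμ : ∀ i, μ i ^ e = 1)
    (h0 : ∑ i, μ i ≠ 0) :
    ∃ z : ℤ, z ≠ 0 ∧ ∏ k : (ZMod e)ˣ, ∑ i, μ i ^ (k : ZMod e).val = (z : ℂ) := by
  have he : 0 < e := NeZero.pos e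
  have hζ : IsPrimitiveRoot (Complex.exp (2 * Real.pi * Complex.I / e)) e :=
    Complex.isPrimitiveRoot_exp e he.ne'
  set ζ := Complex.exp (2 * Real.pi * Complex.I / e) with hζdef
  have ha : ∀ i, ∃ a : ℕ, ζ ^ a = μ i := fun i => by
    obtain ⟨a, -, ha⟩ := hζ.eq_pow_of_pow_eq_one (hμ i)
    exact ⟨a, ha⟩
  choose a ha using ha
  have hζL : IsPrimitiveRoot (IsCyclotomicExtension.zeta e ℚ L) e :=
    IsCyclotomicExtension.zeta_spec e ℚ L
  set ζL := IsCyclotomicExtension.zeta e ℚ L with hζLdef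
  have hirr : Irreducible (cyclotomic e ℚ) := cyclotomic.irreducible_rat he
  have : IsGalois ℚ L := IsCyclotomicExtension.isGalois {e} ℚ L
  have : FiniteDimensional ℚ L := IsCyclotomicExtension.finiteDimensional {e} ℚ L
  let x : L := ∑ i, ζL ^ a i
  let φ : L →ₐ[ℚ] ℂ :=
    (hζL.embeddingsEquivPrimitiveRoots ℂ hirr).symm ⟨ζ, (mem_primitiveRoots he).mpr hζ⟩
  have hφ : φ ζL = ζ := by
    have := hζL.embeddingsEquivPrimitiveRoots_apply_coe ℂ hirr φ
    rw [← this]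
    simp [φ]
  have hφx : φ x = ∑ i, μ i := by
    simp [x, map_sum, map_pow, hφ, ha]
  have hx0 : x ≠ 0 := by
    intro h; apply h0; rw [← hφx, h, map_zero]
  have hnorm := Algebra.norm_eq_prod_automorphisms ℚ x
  have hint : IsIntegral ℤ x := IsIntegral.sum _ (fun i _ => (hζL.isIntegral he).pow _)
  have hnint : IsIntegral ℤ (Algebra.norm ℚ x) := Algebra.isIntegral_norm ℚ hint
  obtain ⟨z, hz⟩ := IsIntegrallyClosed.isIntegral_iff.mp hnint
  have hz0 : z ≠ 0 := by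
    rintro rfl
    have : Algebra.norm ℚ x = 0 := by rw [← hz]; simp
    exact hx0 (Algebra.norm_eq_zero_iff.mp this)
  refine ⟨z, hz0, ?_⟩
  have hσ : ∀ σ : L ≃ₐ[ℚ] L, φ (σ x) =
      ∑ i, μ i ^ ((IsCyclotomicExtension.autEquivPow L hirr σ : (ZMod e)ˣ) : ZMod e).val := by
    intro σ
    have h1 : σ ζL =
        ζL ^ ((IsCyclotomicExtension.autEquivPow L hirr σ : (ZMod e)ˣ) : ZMod e).val := by
      rw [IsCyclotomicExtension.autEquivPow_apply]
      exact (hζL.autToPow_spec ℚ σ).symm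
    simp only [x, map_sum, map_pow, h1, hφ]
    apply Finset.sum_congr rfl
    intro i _
    rw [← pow_mul, mul_comm, pow_mul, ha]
  calc ∏ k : (ZMod e)ˣ, ∑ i, μ i ^ (k : ZMod e).val
      = ∏ σ : L ≃ₐ[ℚ] L, ∑ i, μ i ^
          ((IsCyclotomicExtension.autEquivPow L hirr σ : (ZMod e)ˣ) : ZMod e).val :=
        (Equiv.prod_comp (IsCyclotomicExtension.autEquivPow L hirr).toEquiv
          (fun k : (ZMod e)ˣ => ∑ i, μ i ^ (k : ZMod e).val)).symm
    _ = ∏ σ : L ≃ₐ[ℚ] L, φ (σ x) := by simp_rw [hσ]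
    _ = φ (∏ σ : L ≃ₐ[ℚ] L, σ x) := (map_prod φ _ _).symm
    _ = φ (algebraMap ℚ L (Algebra.norm ℚ x)) := by rw [hnorm]
    _ = (z : ℂ) := by rw [← hz]; simp

/-- The product over all Galois conjugates of a nonzero sum of `e`-th roots of unity is a
nonzero integer. -/
theorem exists_int_prod (e : ℕ) [NeZero e] (n : ℕ) (μ : Fin n → ℂ) (hμ : ∀ i, μ i ^ e = 1)
    (h0 : ∑ i, μ i ≠ 0) :
    ∃ z : ℤ, z ≠ 0 ∧ ∏ k : (ZMod e)ˣ, ∑ i, μ i ^ (k : ZMod e).val = (z : ℂ) := by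
  have hne : NeZero ((e : ℕ) : ℚ) := ⟨by exact_mod_cast (NeZero.ne e)⟩
  have hcyc : IsCyclotomicExtension {e} ℚ (CyclotomicField e ℚ) :=
    CyclotomicField.isCyclotomicExtension e ℚ
  exact exists_int_prod_aux e (CyclotomicField e ℚ) n μ hμ h0

/-- Galois averaging: for a nonzero sum of `e`-th roots of unity, the sum over all units
`k` mod `e` of the squared absolute values of the `k`-th power sums is at least `φ(e)`. -/
theorem totient_le_sum_norm_sq (e : ℕ) [NeZero e] (n : ℕ) (μ : Fin n → ℂ)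
    (hμ : ∀ i, μ i ^ e = 1) (h0 : ∑ i, μ i ≠ 0) :
    (Nat.totient e : ℝ) ≤ ∑ k : (ZMod e)ˣ, ‖∑ i, μ i ^ (k : ZMod e).val‖ ^ 2 := by
  obtain ⟨z, hz0, hz⟩ := exists_int_prod e n μ hμ h0
  have h1 : (1 : ℝ) ≤ ∏ k : (ZMod e)ˣ, ‖∑ i, μ i ^ (k : ZMod e).val‖ ^ 2 := by
    rw [Finset.prod_pow, ← norm_prod, hz]
    have h2 : (1 : ℝ) ≤ ‖(z : ℂ)‖ := by
      rw [Complex.norm_intCast]
      exact_mod_cast Int.one_le_abs hz0
    nlinarith [norm_nonneg (z : ℂ)]
  have := card_le_sum_of_one_le_prod Finset.univ _ (fun k _ => sq_nonneg _) h1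
  rwa [Finset.card_univ, ZMod.card_units_eq_totient] at this

end Cfsg.Agent.Lib.Helper76.GaloisAvg
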