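import Cfsg.Agent.Lib.Lead.BrHalfStmt
import Cfsg.Agent.Lib.Lead.BrHalfDStmt
import Cfsg.Agent.Lib.Helper76.BrRBStmt
import Cfsg.Agent.Lib.Helper76.BrRBStmt2
import Cfsg.Agent.Lib.Helper76.BrRBAsm
import Cfsg.Agent.Lib.Helper76.BrRBT1B
import Cfsg.Agent.Lib.Helper76.BrRBR1
import Cfsg.Agent.Lib.Helper60.BrRBP5
import Cfsg.Agent.Lib.Helper2.BrRBNN
import Cfsg.Agent.Lib.Helper2.BrRBPERF
import Cfsg.Agent.Lib.Helper71.BrRBT1T
import Cfsg.Agent.Lib.Helper15.BrRBINJ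
import Cfsg.Agent.Lib.Helper10.BrRBFUS
import Cfsg.Agent.Lib.Helper67.BrRBRES
import Cfsg.Agent.Lib.Helper65.BrRBPHI
import Cfsg.Agent.Lib.Helper93.BrRBB0X
import Cfsg.Agent.Lib.Helper16.BrRBAVB
import Cfsg.Agent.Lib.Helper16.BrRBHA
import Cfsg.Agent.Lib.Helper64.BrRBEX
import Cfsg.Agent.Lib.Helper64.BrRBEY
import Cfsg.Agent.Lib.Helper64.BrRBEO
import Cfsg.Agent.Lib.Helper34.BrRBYTWO
import Cfsg.Agent.Lib.Helper16.BrRBEXC
import Cfsg.Agent.Lib.Helper2.BrRBSUM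
import Cfsg.Agent.Lib.Helper65.BrRBHBF
import Cfsg.Agent.Lib.Helper71.BrRBVZ
import Cfsg.Agent.Lib.Helper60.BrRBHC
import Cfsg.Agent.Lib.Helper16.BrRBNCE
import Cfsg.Agent.Lib.Helper15.BrRBORB

/-!
# S4504, parts R and B: the reduction `Red` (all pieces assembled)
-/

set_option autoImplicit false

namespace Cfsg.Agent.Lib.Helper76.BrRBRed

open Cfsg.Agent.Lib.Helper76.BrRB

universe u

theorem t1b : T1B.{u} := Cfsg.Agent.Lib.Helper76.BrRBT1B.main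

theorem t1t : T1T.{u} := Cfsg.Agent.Lib.Helper71.BrRBT1T.main t1b

theorem nce : NCE.{u} := Cfsg.Agent.Lib.Helper16.BrRBNCE.main

theorem orb : ORB.{u} := Cfsg.Agent.Lib.Helper15.BrRBORB.main t1b t1t nce

theorem inj : INJ.{u} := Cfsg.Agent.Lib.Helper15.BrRBINJ.main

theorem fus : FUS.{u} := Cfsg.Agent.Lib.Helper10.BrRBFUS.main

theorem res : RES.{u} := Cfsg.Agent.Lib.Helper67.BrRBRES.main inj fus

theorem phi : PHI.{u} := Cfsg.Agent.Lib.Helper65.BrRBPHI.main inj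

theorem b0x : B0X.{u} := Cfsg.Agent.Lib.Helper93.BrRBB0X.main

theorem ha : HA.{u} := Cfsg.Agent.Lib.Helper16.BrRBHA.main Cfsg.Agent.Lib.Helper16.BrRBAVB.main

theorem exc : EXC.{u} :=
  Cfsg.Agent.Lib.Helper16.BrRBEXC.main b0x Cfsg.Agent.Lib.Helper34.BrRBYTWO.main
    Cfsg.Agent.Lib.Helper64.BrRBEX.main Cfsg.Agent.Lib.Helper64.BrRBEY.main
    Cfsg.Agent.Lib.Helper64.BrRBEO.main

theorem nn : NN.{u} := Cfsg.Agent.Lib.Helper2.BrRBNN.main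

/-- The reduction of S4504 (lead's interface `Red`). -/
theorem red : Cfsg.Agent.Lib.Lead.BrHalf.Red.{u} :=
  Cfsg.Agent.Lib.Helper76.BrRBAsm.red_of Cfsg.Agent.Lib.Helper60.BrRBP5.main
    Cfsg.Agent.Lib.Helper76.BrRBR1.main nn (Cfsg.Agent.Lib.Helper2.BrRBPERF.main nn)
    orb res phi ha exc Cfsg.Agent.Lib.Helper2.BrRBSUM.main Cfsg.Agent.Lib.Helper65.BrRBHBF.main
    Cfsg.Agent.Lib.Helper71.BrRBVZ.main Cfsg.Agent.Lib.Helper60.BrRBHC.main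

end Cfsg.Agent.Lib.Helper76.BrRBRed

#print axioms Cfsg.Agent.Lib.Helper76.BrRBRed.red
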