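import Mathlib
import Cfsg.Prelude.Def_Characters
import Cfsg.Prelude.Def_OddOrderChar
import Cfsg.Agent.Lib.Helper26.GenChar
import Cfsg.Agent.Lib.CT.Clifford
import Cfsg.Agent.Lib.CT.Orth
import Cfsg.Agent.Lib.CT.Wedderburn
import Cfsg.Agent.Lib.CT.Ops

/-!
# Tools for coherence arguments (Peterfalvi, section 5)

* `bessel`, `bessel_re`, `bessel_eq`: Bessel's identity for a finite orthogonal family whose
  squared norms are positive integers.
* `mem_zspan_finset`: members of the integer span of a finite set are integer combinations.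
* `extension`: a map on a finite orthogonal set of functions with values in the generalized
  characters, preserving inner products, extends to a linear isometry of the integer span.
* `zspanOn_*`: closure properties of `zspanOn`, and additivity of a linear isometry on finite sums.
* `finite_of_orthogonal`: a set of pairwise orthogonal nonzero functions is finite.
-/

set_option autoImplicit false

namespace Cfsg.Agent.Lib.Helper76.Coherence

open Cfsg Cfsg.Agent.Lib.Helper26.GenChar Cfsg.Agent.Lib.CT.Orth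
open scoped ComplexConjugate

universe u v

variable {L : Type u} [Group L] [Fintype L] {G : Type v} [Group G] [Fintype G]

/-- The real part of `classInner f f` is nonnegative. -/
theorem classInner_self_re_nonneg (f : G → ℂ) : 0 ≤ (classInner f f).re := by
  rw [classInner_self, Complex.ofReal_re]
  positivity

/-- `classInner f f` is real. -/
theorem classInner_self_eq_re (f : G → ℂ) : classInner f f = ((classInner f f).re : ℂ) := by
  rw [classInner_self, Complex.ofReal_re]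

/-- Bessel's identity for a finite orthogonal family with squared norms `N i`. -/
theorem bessel {ι : Type*} (s : Finset ι) (w : ι → G → ℂ) (N : ι → ℕ)
    (hN : ∀ i ∈ s, N i ≠ 0)
    (hself : ∀ i ∈ s, classInner (w i) (w i) = (N i : ℂ))
    (horth : ∀ i ∈ s, ∀ j ∈ s, i ≠ j → classInner (w i) (w j) = 0)
    (Θ : G → ℂ) :
    classInner (Θ - ∑ i ∈ s, (classInner Θ (w i) / (N i : ℂ)) • w i)
        (Θ - ∑ i ∈ s, (classInner Θ (w i) / (N i : ℂ)) • w i)
      = classInner Θ Θ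
        - ∑ i ∈ s, classInner Θ (w i) * conj (classInner Θ (w i)) / (N i : ℂ) := by
  classical
  generalize hP : ∑ i ∈ s, (classInner Θ (w i) / (N i : ℂ)) • w i = P
  have h1 : classInner Θ P
      = ∑ i ∈ s, classInner Θ (w i) * conj (classInner Θ (w i)) / (N i : ℂ) := by
    rw [← hP, classInner_sum_right]
    refine Finset.sum_congr rfl fun i _ => ?_
    rw [classInner_smul_right, map_div₀, Complex.conj_natCast]
    ring
  have h2 : classInner P Θ
      = ∑ i ∈ s, classInner Θ (w i) * conj (classInner Θ (w i)) / (N i : ℂ) := by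
    rw [← hP, classInner_sum_left]
    refine Finset.sum_congr rfl fun i _ => ?_
    rw [classInner_smul_left, Cfsg.Agent.Lib.CT.Clifford.classInner_conj_symm (w i) Θ]
    ring
  have h3 : classInner P P
      = ∑ i ∈ s, classInner Θ (w i) * conj (classInner Θ (w i)) / (N i : ℂ) := by
    have e1 : classInner P P
        = classInner (∑ i ∈ s, (classInner Θ (w i) / (N i : ℂ)) • w i) P := by rw [hP]
    rw [e1, classInner_sum_left]
    refine Finset.sum_congr rfl fun i hi => ?_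
    rw [classInner_smul_left, ← hP, classInner_sum_right, Finset.sum_eq_single i]
    · rw [classInner_smul_right, hself i hi, map_div₀, Complex.conj_natCast]
      have hNi : (N i : ℂ) ≠ 0 := Nat.cast_ne_zero.mpr (hN i hi)
      field_simp
    · intro j hj hji
      rw [classInner_smul_right, horth i hi j hj (Ne.symm hji), mul_zero]
    · intro h
      exact absurd hi h
  rw [classInner_sub_left, classInner_sub_right, classInner_sub_right, h1, h2, h3]
  ring

/-- Bessel's identity, real parts. -/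
theorem bessel_re {ι : Type*} (s : Finset ι) (w : ι → G → ℂ) (N : ι → ℕ)
    (hN : ∀ i ∈ s, N i ≠ 0)
    (hself : ∀ i ∈ s, classInner (w i) (w i) = (N i : ℂ))
    (horth : ∀ i ∈ s, ∀ j ∈ s, i ≠ j → classInner (w i) (w j) = 0)
    (Θ : G → ℂ) :
    (classInner (Θ - ∑ i ∈ s, (classInner Θ (w i) / (N i : ℂ)) • w i)
        (Θ - ∑ i ∈ s, (classInner Θ (w i) / (N i : ℂ)) • w i)).re
      = (classInner Θ Θ).re - ∑ i ∈ s, ‖classInner Θ (w i)‖ ^ 2 / (N i : ℝ) := by
  rw [bessel s w N hN hself horth Θ, Complex.sub_re, Complex.re_sum]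
  congr 1
  refine Finset.sum_congr rfl fun i _ => ?_
  have : classInner Θ (w i) * conj (classInner Θ (w i)) / (N i : ℂ)
      = ((‖classInner Θ (w i)‖ ^ 2 / (N i : ℝ) : ℝ) : ℂ) := by
    rw [Complex.mul_conj, Complex.normSq_eq_norm_sq]
    push_cast
    rfl
  rw [this, Complex.ofReal_re]

/-- Bessel's inequality. -/
theorem bessel_le {ι : Type*} (s : Finset ι) (w : ι → G → ℂ) (N : ι → ℕ)
    (hN : ∀ i ∈ s, N i ≠ 0)
    (hself : ∀ i ∈ s, classInner (w i) (w i) = (N i : ℂ))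
    (horth : ∀ i ∈ s, ∀ j ∈ s, i ≠ j → classInner (w i) (w j) = 0)
    (Θ : G → ℂ) :
    ∑ i ∈ s, ‖classInner Θ (w i)‖ ^ 2 / (N i : ℝ) ≤ (classInner Θ Θ).re := by
  have h1 := bessel_re s w N hN hself horth Θ
  have h2 := classInner_self_re_nonneg
    (Θ - ∑ i ∈ s, (classInner Θ (w i) / (N i : ℂ)) • w i)
  linarith

/-- Equality in Bessel's inequality: the function is its own projection. -/
theorem bessel_eq {ι : Type*} (s : Finset ι) (w : ι → G → ℂ) (N : ι → ℕ)
    (hN : ∀ i ∈ s, N i ≠ 0)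
    (hself : ∀ i ∈ s, classInner (w i) (w i) = (N i : ℂ))
    (horth : ∀ i ∈ s, ∀ j ∈ s, i ≠ j → classInner (w i) (w j) = 0)
    (Θ : G → ℂ)
    (heq : (classInner Θ Θ).re ≤ ∑ i ∈ s, ‖classInner Θ (w i)‖ ^ 2 / (N i : ℝ)) :
    Θ = ∑ i ∈ s, (classInner Θ (w i) / (N i : ℂ)) • w i := by
  have h1 := bessel_re s w N hN hself horth Θ
  have h2 := classInner_self_re_nonneg
    (Θ - ∑ i ∈ s, (classInner Θ (w i) / (N i : ℂ)) • w i)
  have h3 : (classInner (Θ - ∑ i ∈ s, (classInner Θ (w i) / (N i : ℂ)) • w i)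
        (Θ - ∑ i ∈ s, (classInner Θ (w i) / (N i : ℂ)) • w i)).re = 0 := by linarith
  have h4 : classInner (Θ - ∑ i ∈ s, (classInner Θ (w i) / (N i : ℂ)) • w i)
        (Θ - ∑ i ∈ s, (classInner Θ (w i) / (N i : ℂ)) • w i) = 0 := by
    rw [classInner_self_eq_re, h3, Complex.ofReal_zero]
  exact sub_eq_zero.mp (eq_zero_of_classInner_self_eq_zero h4)

/-- Members of the integer span of a finite set are integer combinations of it. -/
theorem mem_zspan_finset {X : Type*} (T : Finset (X → ℂ)) {f : X → ℂ}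
    (hf : f ∈ zspan (T : Set (X → ℂ))) : ∃ c : (X → ℂ) → ℤ, f = ∑ φ ∈ T, c φ • φ := by
  have hf' : f ∈ Submodule.span ℤ (T : Set (X → ℂ)) := hf
  obtain ⟨c, -, hc⟩ := Submodule.mem_span_finset.mp hf'
  exact ⟨c, hc.symm⟩

theorem sum_mem_zspan {X : Type*} (T : Finset (X → ℂ)) (S : Set (X → ℂ)) (hT : ↑T ⊆ S)
    (c : (X → ℂ) → ℤ) : ∑ φ ∈ T, c φ • φ ∈ zspan S := by
  have : ∑ φ ∈ T, c φ • φ ∈ Submodule.span ℤ S :=
    Submodule.sum_mem _ fun φ hφ => Submodule.smul_mem _ _ (Submodule.subset_span (hT hφ))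
  exact this

omit [Fintype G] in
theorem isGeneralizedCharacter_sum {ι : Type*} (s : Finset ι) (F : ι → G → ℂ)
    (h : ∀ i ∈ s, IsGeneralizedCharacter G (F i)) : IsGeneralizedCharacter G (∑ i ∈ s, F i) := by
  classical
  induction s using Finset.induction_on with
  | empty => simpa using isGeneralizedCharacter_zero
  | insert a s ha ih =>
    rw [Finset.sum_insert ha]
    exact isGeneralizedCharacter_add (h a (Finset.mem_insert_self a s))
      (ih fun i hi => h i (Finset.mem_insert_of_mem hi))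

/-- A map `U` on a finite orthogonal set `T` (squared norms `n φ ≠ 0`) whose values are
generalized characters with the same inner products extends to a linear isometry on the
integer span of `T`. -/
theorem extension (T : Finset (L → ℂ)) (n : (L → ℂ) → ℕ) (hn : ∀ φ ∈ T, n φ ≠ 0)
    (hself : ∀ φ ∈ T, classInner φ φ = (n φ : ℂ))
    (horth : ∀ φ ∈ T, ∀ ψ ∈ T, φ ≠ ψ → classInner φ ψ = 0)
    (U : (L → ℂ) → (G → ℂ)) (hU : ∀ φ ∈ T, IsGeneralizedCharacter G (U φ))
    (hUorth : ∀ φ ∈ T, ∀ ψ ∈ T, classInner (U φ) (U ψ) = classInner φ ψ) :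
    ∃ τ₁ : (L → ℂ) → (G → ℂ), IsLinearIsometryOn (zspan (T : Set (L → ℂ))) τ₁ ∧
      ∀ c : (L → ℂ) → ℤ, τ₁ (∑ φ ∈ T, c φ • φ) = ∑ φ ∈ T, c φ • U φ := by
  classical
  let τ₁ : (L → ℂ) → (G → ℂ) := fun f => ∑ φ ∈ T, (classInner f φ / (n φ : ℂ)) • U φ
  have hτ₁ : ∀ f, τ₁ f = ∑ φ ∈ T, (classInner f φ / (n φ : ℂ)) • U φ := fun _ => rfl
  have hval : ∀ c : (L → ℂ) → ℤ, τ₁ (∑ φ ∈ T, c φ • φ) = ∑ φ ∈ T, c φ • U φ := by
    intro c
    rw [hτ₁]
    refine Finset.sum_congr rfl fun ψ hψ => ?_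
    rw [classInner_sum_left, Finset.sum_eq_single ψ]
    · rw [classInner_intCast_smul_left, hself ψ hψ]
      have hnψ : (n ψ : ℂ) ≠ 0 := Nat.cast_ne_zero.mpr (hn ψ hψ)
      rw [mul_div_assoc, div_self hnψ, mul_one]
      funext g
      simp
    · intro φ hφ hne
      rw [classInner_intCast_smul_left, horth φ hφ ψ hψ hne, mul_zero]
    · intro h
      exact absurd hψ h
  refine ⟨τ₁, ⟨?_, ?_, ?_, ?_⟩, hval⟩
  · intro α _ β _
    rw [hτ₁, hτ₁, hτ₁, ← Finset.sum_add_distrib]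
    refine Finset.sum_congr rfl fun φ _ => ?_
    rw [classInner_add_left, add_div, add_smul]
  · intro α _ m
    rw [hτ₁, hτ₁, Finset.smul_sum]
    refine Finset.sum_congr rfl fun φ _ => ?_
    rw [classInner_intCast_smul_left, mul_div_assoc, mul_smul]
    funext g
    simp
  · intro α hα β hβ
    obtain ⟨c, rfl⟩ := mem_zspan_finset T hα
    obtain ⟨e, rfl⟩ := mem_zspan_finset T hβ
    rw [hval, hval, classInner_sum_left, classInner_sum_left]
    refine Finset.sum_congr rfl fun φ hφ => ?_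
    rw [classInner_sum_right, classInner_sum_right]
    refine Finset.sum_congr rfl fun ψ hψ => ?_
    rw [classInner_intCast_smul_left, classInner_intCast_smul_right,
      classInner_intCast_smul_left, classInner_intCast_smul_right, hUorth φ hφ ψ hψ]
  · intro α hα
    obtain ⟨c, rfl⟩ := mem_zspan_finset T hα
    rw [hval]
    exact isGeneralizedCharacter_sum T _ fun φ hφ => isGeneralizedCharacter_zsmul (hU φ hφ) _

/-! ### `zspanOn` -/

section ZspanOn

variable {X : Type*} {S : Set (X → ℂ)} {A : Set X}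

theorem zspanOn_zero : (0 : X → ℂ) ∈ zspanOn S A :=
  ⟨(Submodule.span ℤ S).zero_mem, fun _ _ => rfl⟩

theorem zspanOn_add {α β : X → ℂ} (hα : α ∈ zspanOn S A) (hβ : β ∈ zspanOn S A) :
    α + β ∈ zspanOn S A :=
  ⟨(Submodule.span ℤ S).add_mem hα.1 hβ.1, fun x hx => by
    rw [Pi.add_apply, hα.2 x hx, hβ.2 x hx, add_zero]⟩

theorem zspanOn_zsmul {α : X → ℂ} (hα : α ∈ zspanOn S A) (m : ℤ) : m • α ∈ zspanOn S A :=
  ⟨(Submodule.span ℤ S).smul_mem m hα.1, fun x hx => by
    rw [Pi.smul_apply, hα.2 x hx, smul_zero]⟩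

theorem zspanOn_neg {α : X → ℂ} (hα : α ∈ zspanOn S A) : -α ∈ zspanOn S A :=
  ⟨(Submodule.span ℤ S).neg_mem hα.1, fun x hx => by
    rw [Pi.neg_apply, hα.2 x hx, neg_zero]⟩

theorem zspanOn_sub {α β : X → ℂ} (hα : α ∈ zspanOn S A) (hβ : β ∈ zspanOn S A) :
    α - β ∈ zspanOn S A := by
  rw [sub_eq_add_neg]
  exact zspanOn_add hα (zspanOn_neg hβ)

theorem zspanOn_sum {ι : Type*} (s : Finset ι) (f : ι → X → ℂ)
    (hf : ∀ i ∈ s, f i ∈ zspanOn S A) : ∑ i ∈ s, f i ∈ zspanOn S A := by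
  classical
  induction s using Finset.induction_on with
  | empty => simpa using zspanOn_zero
  | insert a s ha ih =>
    rw [Finset.sum_insert ha]
    exact zspanOn_add (hf a (Finset.mem_insert_self a s))
      (ih fun i hi => hf i (Finset.mem_insert_of_mem hi))

theorem zspanOn_mono {S' : Set (X → ℂ)} (h : S ⊆ S') {α : X → ℂ} (hα : α ∈ zspanOn S A) :
    α ∈ zspanOn S' A :=
  ⟨Submodule.span_mono h hα.1, hα.2⟩

/-- The difference of two members of `S` with the same value at `1`-like point. -/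
theorem sub_mem_zspanOn_compl {x₀ : X} {φ ψ : X → ℂ} (hφ : φ ∈ S) (hψ : ψ ∈ S)
    (h : φ x₀ = ψ x₀) : φ - ψ ∈ zspanOn S ({x₀}ᶜ : Set X) := by
  refine ⟨(Submodule.span ℤ S).sub_mem (Submodule.subset_span hφ) (Submodule.subset_span hψ),
    fun x hx => ?_⟩
  have hx' : x = x₀ := by
    by_contra hne
    exact hx hne
  rw [hx', Pi.sub_apply, h, sub_self]

end ZspanOn

section Tau

variable {E : Set (L → ℂ)} {τ : (L → ℂ) → (G → ℂ)}

theorem tau_zero (hτ : IsLinearIsometryOn E τ) (h0 : (0 : L → ℂ) ∈ E) : τ 0 = 0 := by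
  have := hτ.2.1 0 h0 0
  rwa [zero_smul, zero_smul] at this

theorem tau_neg (hτ : IsLinearIsometryOn E τ) {α : L → ℂ} (hα : α ∈ E) : τ (-α) = -τ α := by
  have := hτ.2.1 α hα (-1)
  rwa [neg_one_smul, neg_one_smul] at this

theorem tau_sub (hτ : IsLinearIsometryOn E τ) {α β : L → ℂ} (hα : α ∈ E) (hβ : β ∈ E)
    (hβ' : -β ∈ E) : τ (α - β) = τ α - τ β := by
  rw [sub_eq_add_neg, hτ.1 α hα (-β) hβ', tau_neg hτ hβ, sub_eq_add_neg]

theorem tau_sum {S : Set (L → ℂ)} {A : Set L} (hτ : IsLinearIsometryOn (zspanOn S A) τ)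
    {ι : Type*} (s : Finset ι) (f : ι → L → ℂ) (hf : ∀ i ∈ s, f i ∈ zspanOn S A) :
    τ (∑ i ∈ s, f i) = ∑ i ∈ s, τ (f i) := by
  classical
  induction s using Finset.induction_on with
  | empty => simpa using tau_zero hτ zspanOn_zero
  | insert a s ha ih =>
    rw [Finset.sum_insert ha, Finset.sum_insert ha,
      hτ.1 _ (hf a (Finset.mem_insert_self a s))
        _ (zspanOn_sum s f fun i hi => hf i (Finset.mem_insert_of_mem hi)),
      ih fun i hi => hf i (Finset.mem_insert_of_mem hi)]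

end Tau

/-- A set of pairwise orthogonal nonzero functions on a finite group is finite. -/
theorem finite_of_orthogonal (S : Set (G → ℂ)) (hne : ∀ χ ∈ S, χ ≠ 0)
    (horth : ∀ χ ∈ S, ∀ φ ∈ S, χ ≠ φ → classInner χ φ = 0) : S.Finite := by
  classical
  have hli : LinearIndependent ℂ (fun x : S => (x : G → ℂ)) := by
    rw [linearIndependent_iff']
    intro s g hg i hi
    have h1 : classInner (∑ j ∈ s, g j • (j : G → ℂ)) (i : G → ℂ) = 0 := by
      rw [hg, classInner_zero_left]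
    rw [classInner_sum_left, Finset.sum_eq_single i] at h1
    · rw [classInner_smul_left] at h1
      rcases mul_eq_zero.mp h1 with h | h
      · exact h
      · exact absurd (eq_zero_of_classInner_self_eq_zero h) (hne _ i.2)
    · intro j _ hji
      rw [classInner_smul_left, horth _ j.2 _ i.2 (fun h => hji (Subtype.ext h)), mul_zero]
    · intro h
      exact absurd hi h
  exact hli.set_finite_of_isNoetherian

/-! ### Sums over subsets of orthonormal sets -/

/-- Inner product of the sums over two subsets of an orthonormal set. -/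
theorem classInner_sum_subsets (Γ X X' : Finset (G → ℂ))
    (hself : ∀ α ∈ Γ, classInner α α = 1)
    (hne : ∀ α ∈ Γ, ∀ β ∈ Γ, α ≠ β → classInner α β = 0)
    (hX : X ⊆ Γ) (hX' : X' ⊆ Γ) :
    classInner (∑ α ∈ X, α) (∑ β ∈ X', β) = ((X ∩ X').card : ℂ) := by
  classical
  rw [classInner_sum_left]
  have h1 : ∀ α ∈ X, classInner α (∑ β ∈ X', β) = if α ∈ X' then 1 else 0 := by
    intro α hα
    rw [classInner_sum_right]
    split_ifs with h
    · rw [Finset.sum_eq_single_of_mem α h]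
      · exact hself α (hX hα)
      · intro β hβ hβα
        exact hne α (hX hα) β (hX' hβ) (Ne.symm hβα)
    · refine Finset.sum_eq_zero fun β hβ => hne α (hX hα) β (hX' hβ) ?_
      intro h'
      exact h (h' ▸ hβ)
  rw [Finset.sum_congr rfl h1, Finset.sum_ite, Finset.sum_const_zero, add_zero, Finset.sum_const,
    nsmul_eq_mul, mul_one, Finset.filter_mem_eq_inter]

/-- Sums over subsets of mutually orthogonal sets are orthogonal. -/
theorem classInner_sum_orth (X Y : Finset (G → ℂ))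
    (h : ∀ α ∈ X, ∀ β ∈ Y, classInner α β = 0) :
    classInner (∑ α ∈ X, α) (∑ β ∈ Y, β) = 0 := by
  rw [classInner_sum_left]
  refine Finset.sum_eq_zero fun α hα => ?_
  rw [classInner_sum_right]
  exact Finset.sum_eq_zero fun β hβ => h α hα β hβ

/-- The conjugate of a function has the conjugate inner products. -/
theorem classInner_conjFun' (a b : G → ℂ) :
    classInner (Cfsg.conjFun a) (Cfsg.conjFun b) = conj (classInner a b) := by
  unfold classInner Cfsg.conjFun
  rw [map_mul, map_inv₀, map_natCast, map_sum]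
  congr 1
  apply Finset.sum_congr rfl
  intro g _
  rw [map_mul]

omit [Fintype G] in
/-- A character of degree zero is zero. -/
theorem char_eq_zero_of_apply_one {χ : G → ℂ} (h : IsCharacter G χ) (h1 : χ 1 = 0) : χ = 0 := by
  obtain ⟨n, ρ, rfl⟩ := h
  have hn : n = 0 := by
    have : ρ.character 1 = (n : ℂ) := by simp
    rw [this] at h1
    exact_mod_cast h1
  subst hn
  funext g
  have : ρ g = 0 := Subsingleton.elim _ _
  simp [Representation.character, this]

/-! ### Coherence systems -/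

section System

variable {S : Set (L → ℂ)} {τ : (L → ℂ) → (G → ℂ)} {R : (L → ℂ) → Finset (G → ℂ)}

theorem ne_zero_of_mem (hS : IsCoherenceSystem S τ R) {χ : L → ℂ} (hχ : χ ∈ S) : χ ≠ 0 := by
  intro h
  apply hS.conj_ne χ hχ
  rw [h]
  funext x
  simp [Cfsg.conjFun]

theorem finite_of_system (hS : IsCoherenceSystem S τ R) : S.Finite :=
  finite_of_orthogonal S (fun _ hχ => ne_zero_of_mem hS hχ) hS.orthogonal

theorem exists_norm (hS : IsCoherenceSystem S τ R) {χ : L → ℂ} (hχ : χ ∈ S) :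
    ∃ n : ℕ, n ≠ 0 ∧ classInner χ χ = (n : ℂ) := by
  have hg : IsGeneralizedCharacter L χ :=
    ⟨χ, 0, hS.isCharacter χ hχ, Cfsg.Agent.Lib.CT.Ops.isCharacter_zero, by simp⟩
  obtain ⟨z, hz⟩ := classInner_genChar_int hg hg
  have h0 : 0 ≤ z := by
    have := classInner_self_re_nonneg χ
    rw [hz] at this
    simpa using this
  refine ⟨z.toNat, ?_, ?_⟩
  · intro h
    have hz0 : z = 0 := by omega
    apply ne_zero_of_mem hS hχ
    apply eq_zero_of_classInner_self_eq_zero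
    rw [hz, hz0]
    simp
  · rw [hz]
    have : ((z.toNat : ℤ) : ℂ) = (z : ℂ) := by rw [Int.toNat_of_nonneg h0]
    exact_mod_cast this.symm

theorem exists_deg (hS : IsCoherenceSystem S τ R) {χ : L → ℂ} (hχ : χ ∈ S) :
    ∃ d : ℕ, d ≠ 0 ∧ χ 1 = (d : ℂ) := by
  obtain ⟨d, hd⟩ := Cfsg.Agent.Lib.CT.Wedderburn.char_exists_apply_one (hS.isCharacter χ hχ)
  refine ⟨d, ?_, hd⟩
  intro h
  apply ne_zero_of_mem hS hχ
  apply char_eq_zero_of_apply_one (hS.isCharacter χ hχ)
  rw [hd, h]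
  simp

theorem conj_apply_one (hS : IsCoherenceSystem S τ R) {χ : L → ℂ} (hχ : χ ∈ S) :
    Cfsg.conjFun χ 1 = χ 1 := by
  obtain ⟨d, -, hd⟩ := exists_deg hS hχ
  show (starRingEnd ℂ) (χ 1) = χ 1
  rw [hd, Complex.conj_natCast]

theorem sub_conj_mem (hS : IsCoherenceSystem S τ R) {χ : L → ℂ} (hχ : χ ∈ S) :
    χ - Cfsg.conjFun χ ∈ zspanOn S ({1}ᶜ : Set L) :=
  sub_mem_zspanOn_compl hχ (hS.conj_mem χ hχ) (conj_apply_one hS hχ).symm

theorem sub_conj_ne_zero (hS : IsCoherenceSystem S τ R) {χ : L → ℂ} (hχ : χ ∈ S) :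
    χ - Cfsg.conjFun χ ≠ 0 := fun h => hS.conj_ne χ hχ (sub_eq_zero.mp h).symm

theorem R_self (hS : IsCoherenceSystem S τ R) {χ : L → ℂ} (hχ : χ ∈ S) {α : G → ℂ}
    (hα : α ∈ R χ) : classInner α α = 1 := by
  have := hS.orthonormal χ hχ α hα α hα
  rwa [if_pos rfl] at this

theorem R_ne (hS : IsCoherenceSystem S τ R) {χ : L → ℂ} (hχ : χ ∈ S) {α β : G → ℂ}
    (hα : α ∈ R χ) (hβ : β ∈ R χ) (h : α ≠ β) : classInner α β = 0 := by
  have := hS.orthonormal χ hχ α hα β hβ
  rwa [if_neg h] at this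

theorem R_disj (hS : IsCoherenceSystem S τ R) {χ φ : L → ℂ} (hχ : χ ∈ S) (hφ : φ ∈ S)
    (h1 : φ ≠ χ) (h2 : φ ≠ Cfsg.conjFun χ) {α β : G → ℂ} (hα : α ∈ R φ) (hβ : β ∈ R χ) :
    classInner α β = 0 :=
  hS.disjoint χ hχ φ hφ (hS.orthogonal φ hφ χ hχ h1)
    (hS.orthogonal φ hφ _ (hS.conj_mem χ hχ) h2) α hα β hβ

theorem R_disj' (hS : IsCoherenceSystem S τ R) {χ φ : L → ℂ} (hχ : χ ∈ S) (hφ : φ ∈ S)
    (h1 : φ ≠ χ) (h2 : φ ≠ Cfsg.conjFun χ) {α β : G → ℂ} (hα : α ∈ R φ) (hβ : β ∈ R χ) :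
    classInner β α = 0 := by
  rw [Cfsg.Agent.Lib.CT.Clifford.classInner_conj_symm, R_disj hS hχ hφ h1 h2 hα hβ, map_zero]

theorem conj_norm (χ : L → ℂ) {n : ℕ} (h : classInner χ χ = (n : ℂ)) :
    classInner (Cfsg.conjFun χ) (Cfsg.conjFun χ) = (n : ℂ) := by
  rw [classInner_conjFun', h, Complex.conj_natCast]

/-- `R χ` has `2 ‖χ‖²` elements. -/
theorem card_R (hS : IsCoherenceSystem S τ R) {χ : L → ℂ} (hχ : χ ∈ S) {n : ℕ}
    (hn : classInner χ χ = (n : ℂ)) : (R χ).card = 2 * n := by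
  have hm := sub_conj_mem hS hχ
  have h1 : classInner (τ (χ - Cfsg.conjFun χ)) (τ (χ - Cfsg.conjFun χ))
      = classInner (χ - Cfsg.conjFun χ) (χ - Cfsg.conjFun χ) := hS.isometry.2.2.1 _ hm _ hm
  have h2 : classInner χ (Cfsg.conjFun χ) = 0 :=
    hS.orthogonal χ hχ _ (hS.conj_mem χ hχ) (hS.conj_ne χ hχ).symm
  have h3 : classInner (Cfsg.conjFun χ) χ = 0 :=
    hS.orthogonal _ (hS.conj_mem χ hχ) χ hχ (hS.conj_ne χ hχ)
  rw [hS.sum_eq χ hχ,
    classInner_sum_subsets (R χ) (R χ) (R χ) (fun α hα => R_self hS hχ hα)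
      (fun α hα β hβ h => R_ne hS hχ hα hβ h) (Finset.Subset.refl _) (Finset.Subset.refl _),
    Finset.inter_self, classInner_sub_left, classInner_sub_right, classInner_sub_right, hn,
    conj_norm χ hn, h2, h3] at h1
  have h4 : ((R χ).card : ℂ) = ((2 * n : ℕ) : ℂ) := by
    rw [h1]
    push_cast
    ring
  exact_mod_cast h4

end System

theorem conjFun_conjFun' {X : Type*} (a : X → ℂ) : Cfsg.conjFun (Cfsg.conjFun a) = a := by
  funext x
  simp [Cfsg.conjFun]

/-- An integer equal to its square is `0` or `1`. -/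
theorem int_zero_or_one {z : ℤ} (h : z = z ^ 2) : z = 0 ∨ z = 1 := by
  have h' : z * (z - 1) = 0 := by nlinarith
  rcases mul_eq_zero.mp h' with h | h
  · left; exact h
  · right; omega

/-- If `∑ z ≤ ∑ z²` termwise and the sums agree, every term is `0` or `1`. -/
theorem int_zero_or_one_of_sum {ι : Type*} (s : Finset ι) (z : ι → ℤ)
    (h : ∑ i ∈ s, z i ^ 2 ≤ ∑ i ∈ s, z i) : ∀ i ∈ s, z i = 0 ∨ z i = 1 := by
  have hA : ∀ i ∈ s, z i ≤ z i ^ 2 := fun i _ => by
    nlinarith [sq_nonneg (z i), sq_nonneg (z i - 1)]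
  intro i hi
  apply int_zero_or_one
  by_contra hne
  have hlt : z i < z i ^ 2 := lt_of_le_of_ne (hA i hi) hne
  have := Finset.sum_lt_sum hA ⟨i, hi, hlt⟩
  omega

theorem sum_le_sum_sq {ι : Type*} (s : Finset ι) (z : ι → ℤ) :
    ∑ i ∈ s, z i ≤ ∑ i ∈ s, z i ^ 2 :=
  Finset.sum_le_sum fun i _ => by nlinarith [sq_nonneg (z i), sq_nonneg (z i - 1)]

/-- For `0/1`-valued `z`, the number of `i` with `z i = 1` is `∑ z`. -/
theorem card_filter_eq_one {ι : Type*} [DecidableEq ι] (s : Finset ι) (z : ι → ℤ)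
    (h : ∀ i ∈ s, z i = 0 ∨ z i = 1) :
    (((s.filter fun i => z i = 1).card : ℕ) : ℤ) = ∑ i ∈ s, z i := by
  rw [Finset.card_filter]
  push_cast
  refine Finset.sum_congr rfl fun i hi => ?_
  rcases h i hi with h0 | h1
  · rw [h0]; simp
  · rw [h1]; simp

/-- Peterfalvi (5.5)-type decomposition: for `χ, φ ∈ S` of the same degree with
`φ ∉ {χ, conj χ}`, `τ (χ - φ)` is the sum of `‖χ‖²` members of `R χ` minus the sum of `‖φ‖²`
members of `R φ`. -/
theorem decomp {S : Set (L → ℂ)} {τ : (L → ℂ) → (G → ℂ)} {R : (L → ℂ) → Finset (G → ℂ)}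
    (hS : IsCoherenceSystem S τ R) {χ φ : L → ℂ} (hχ : χ ∈ S) (hφ : φ ∈ S)
    (h1 : φ ≠ χ) (h2 : φ ≠ Cfsg.conjFun χ) (hdeg : χ 1 = φ 1) {n m : ℕ}
    (hn : classInner χ χ = (n : ℂ)) (hm : classInner φ φ = (m : ℂ)) :
    ∃ X Y : Finset (G → ℂ), X ⊆ R χ ∧ Y ⊆ R φ ∧ X.card = n ∧ Y.card = m ∧
      τ (χ - φ) = ∑ α ∈ X, α - ∑ β ∈ Y, β := by
  classical
  have hmem : χ - φ ∈ zspanOn S ({1}ᶜ : Set L) := sub_mem_zspanOn_compl hχ hφ hdeg
  generalize hΘ : τ (χ - φ) = Θ
  have hΘg : IsGeneralizedCharacter G Θ := hΘ ▸ hS.isometry.2.2.2 _ hmem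
  have hχφ : classInner χ φ = 0 := hS.orthogonal χ hχ φ hφ (Ne.symm h1)
  have hφχ : classInner φ χ = 0 := hS.orthogonal φ hφ χ hχ h1
  have hχχ' : classInner χ (Cfsg.conjFun χ) = 0 :=
    hS.orthogonal χ hχ _ (hS.conj_mem χ hχ) (hS.conj_ne χ hχ).symm
  have hφχ' : classInner φ (Cfsg.conjFun χ) = 0 :=
    hS.orthogonal φ hφ _ (hS.conj_mem χ hχ) h2
  have h2' : χ ≠ Cfsg.conjFun φ := by
    intro h
    apply h2
    rw [h, conjFun_conjFun']
  have hχφ' : classInner χ (Cfsg.conjFun φ) = 0 :=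
    hS.orthogonal χ hχ _ (hS.conj_mem φ hφ) h2'
  have hφφ' : classInner φ (Cfsg.conjFun φ) = 0 :=
    hS.orthogonal φ hφ _ (hS.conj_mem φ hφ) (hS.conj_ne φ hφ).symm
  have hint : ∀ α ∈ R χ ∪ R φ, ∃ z : ℤ, classInner Θ α = z := by
    intro α hα
    rcases Finset.mem_union.mp hα with h | h
    · exact classInner_genChar_int hΘg (hS.virtual χ hχ α h)
    · exact classInner_genChar_int hΘg (hS.virtual φ hφ α h)
  choose! z hz using hint
  have hsum1 : ∑ α ∈ R χ, z α = (n : ℤ) := by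
    have e1 : classInner Θ (τ (χ - Cfsg.conjFun χ)) = classInner (χ - φ) (χ - Cfsg.conjFun χ) :=
      hΘ ▸ hS.isometry.2.2.1 _ hmem _ (sub_conj_mem hS hχ)
    rw [hS.sum_eq χ hχ, classInner_sum_right, classInner_sub_left, classInner_sub_right,
      classInner_sub_right, hn, hχχ', hφχ, hφχ',
      Finset.sum_congr rfl (fun α hα => hz α (Finset.mem_union_left _ hα))] at e1
    have : ((∑ α ∈ R χ, z α : ℤ) : ℂ) = ((n : ℤ) : ℂ) := by
      push_cast
      rw [e1]
      ring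
    exact_mod_cast this
  have hsum2 : ∑ β ∈ R φ, z β = -(m : ℤ) := by
    have e1 : classInner Θ (τ (φ - Cfsg.conjFun φ)) = classInner (χ - φ) (φ - Cfsg.conjFun φ) :=
      hΘ ▸ hS.isometry.2.2.1 _ hmem _ (sub_conj_mem hS hφ)
    rw [hS.sum_eq φ hφ, classInner_sum_right, classInner_sub_left, classInner_sub_right,
      classInner_sub_right, hm, hχφ, hχφ', hφφ',
      Finset.sum_congr rfl (fun α hα => hz α (Finset.mem_union_right _ hα))] at e1
    have : ((∑ β ∈ R φ, z β : ℤ) : ℂ) = ((-(m : ℤ) : ℤ) : ℂ) := by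
      push_cast
      rw [e1]
      ring
    exact_mod_cast this
  have hdisj : Disjoint (R χ) (R φ) := by
    rw [Finset.disjoint_left]
    intro α hα hα'
    have h1' := R_self hS hχ hα
    rw [R_disj hS hχ hφ h1 h2 hα' hα] at h1'
    exact zero_ne_one h1'
  have hself : ∀ α ∈ R χ ∪ R φ, classInner (id α) (id α) = (((fun _ => 1 : (G → ℂ) → ℕ) α : ℕ) : ℂ) := by
    intro α hα
    rcases Finset.mem_union.mp hα with h | h
    · simpa using R_self hS hχ h
    · simpa using R_self hS hφ h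
  have horth : ∀ α ∈ R χ ∪ R φ, ∀ β ∈ R χ ∪ R φ, α ≠ β → classInner (id α) (id β) = 0 := by
    intro α hα β hβ hne
    rcases Finset.mem_union.mp hα with h | h <;> rcases Finset.mem_union.mp hβ with h' | h'
    · exact R_ne hS hχ h h' hne
    · exact R_disj' hS hχ hφ h1 h2 h' h
    · exact R_disj hS hχ hφ h1 h2 h h'
    · exact R_ne hS hφ h h' hne
  have hN : ∀ α ∈ R χ ∪ R φ, (fun _ => 1 : (G → ℂ) → ℕ) α ≠ 0 := fun _ _ => one_ne_zero
  have hnorm : classInner Θ Θ = (n : ℂ) + (m : ℂ) := by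
    rw [← hΘ, hS.isometry.2.2.1 _ hmem _ hmem, classInner_sub_left, classInner_sub_right,
      classInner_sub_right, hn, hm, hχφ, hφχ]
    ring
  have hsq : ∑ α ∈ R χ ∪ R φ, ‖classInner Θ (id α)‖ ^ 2 / (((fun _ => 1 : (G → ℂ) → ℕ) α : ℕ) : ℝ)
      = ((∑ α ∈ R χ, z α ^ 2 + ∑ β ∈ R φ, z β ^ 2 : ℤ) : ℝ) := by
    rw [Finset.sum_union hdisj]
    push_cast
    congr 1
    · refine Finset.sum_congr rfl fun α hα => ?_
      rw [id, hz α (Finset.mem_union_left _ hα), Complex.norm_intCast, sq_abs, div_one]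
    · refine Finset.sum_congr rfl fun α hα => ?_
      rw [id, hz α (Finset.mem_union_right _ hα), Complex.norm_intCast, sq_abs, div_one]
  have hbes := bessel_le (R χ ∪ R φ) id (fun _ => 1) hN hself horth Θ
  rw [hsq, hnorm] at hbes
  have hle : ∑ α ∈ R χ, z α ^ 2 + ∑ β ∈ R φ, z β ^ 2 ≤ (n : ℤ) + m := by
    have : (((∑ α ∈ R χ, z α ^ 2 + ∑ β ∈ R φ, z β ^ 2 : ℤ)) : ℝ) ≤ (((n : ℤ) + m : ℤ) : ℝ) := by
      simpa using hbes
    exact_mod_cast this
  have hA' := sum_le_sum_sq (R χ) z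
  have hB' := sum_le_sum_sq (R φ) (fun β => -z β)
  simp only [neg_sq, Finset.sum_neg_distrib] at hB'
  have hA01 : ∀ α ∈ R χ, z α = 0 ∨ z α = 1 :=
    int_zero_or_one_of_sum (R χ) z (by omega)
  have hB01 : ∀ β ∈ R φ, -z β = 0 ∨ -z β = 1 :=
    int_zero_or_one_of_sum (R φ) (fun β => -z β) (by
      simp only [neg_sq, Finset.sum_neg_distrib]
      omega)
  have hge : (classInner Θ Θ).re
      ≤ ∑ α ∈ R χ ∪ R φ, ‖classInner Θ (id α)‖ ^ 2 / (((fun _ => 1 : (G → ℂ) → ℕ) α : ℕ) : ℝ) := by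
    rw [hsq, hnorm]
    have : (n : ℤ) + m ≤ ∑ α ∈ R χ, z α ^ 2 + ∑ β ∈ R φ, z β ^ 2 := by omega
    have h' : (((n : ℤ) + m : ℤ) : ℝ) ≤ ((∑ α ∈ R χ, z α ^ 2 + ∑ β ∈ R φ, z β ^ 2 : ℤ) : ℝ) := by
      exact_mod_cast this
    simpa using h'
  have hΘeq := bessel_eq (R χ ∪ R φ) id (fun _ => 1) hN hself horth Θ hge
  refine ⟨(R χ).filter (fun α => z α = 1), (R φ).filter (fun β => -z β = 1),
    Finset.filter_subset _ _, Finset.filter_subset _ _, ?_, ?_, ?_⟩
  · have := card_filter_eq_one (R χ) z hA01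
    omega
  · have := card_filter_eq_one (R φ) (fun β => -z β) hB01
    simp only [Finset.sum_neg_distrib] at this
    omega
  · rw [hΘeq, Finset.sum_union hdisj, sub_eq_add_neg]
    congr 1
    · rw [Finset.sum_filter]
      refine Finset.sum_congr rfl fun α hα => ?_
      rw [id, hz α (Finset.mem_union_left _ hα)]
      rcases hA01 α hα with h0 | h1'
      · rw [h0]; simp
      · rw [h1']; simp
    · rw [Finset.sum_filter, ← Finset.sum_neg_distrib]
      refine Finset.sum_congr rfl fun β hβ => ?_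
      rw [id, hz β (Finset.mem_union_right _ hβ)]
      rcases hB01 β hβ with h0 | h1'
      · have h0' : z β = 0 := by omega
        rw [h0']; simp
      · have h0' : z β = -1 := by omega
        rw [h0']; simp

end Cfsg.Agent.Lib.Helper76.Coherence
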