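import Mathlib
import Cfsg.Agent.Lib.Helper76.Coherence

/-!
# More tools for coherence arguments

* `zspan_*`: closure properties of `zspan`.
* `tau_lin_comb`: a linear isometry on `zspan S` maps integer combinations to integer combinations.
* `eq_proj_of_sub`: two generalized characters `u, v` of norm `n` whose difference is the sum of
  an orthonormal set `Γ` of `2n` generalized characters: `u` lies in the span of `Γ`.
-/

set_option autoImplicit false

namespace Cfsg.Agent.Lib.Helper76.Coherence2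

open Cfsg Cfsg.Agent.Lib.Helper26.GenChar Cfsg.Agent.Lib.CT.Orth
open Cfsg.Agent.Lib.Helper76.Coherence
open scoped ComplexConjugate

universe u v

variable {L : Type u} [Group L] [Fintype L] {G : Type v} [Group G] [Fintype G]

section Zspan

variable {X : Type*} {S : Set (X → ℂ)}

theorem zspan_subset {φ : X → ℂ} (h : φ ∈ S) : φ ∈ zspan S :=
  (Submodule.subset_span h : φ ∈ Submodule.span ℤ S)

theorem zspan_zero : (0 : X → ℂ) ∈ zspan S := (Submodule.span ℤ S).zero_mem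

theorem zspan_add {α β : X → ℂ} (hα : α ∈ zspan S) (hβ : β ∈ zspan S) : α + β ∈ zspan S :=
  (Submodule.span ℤ S).add_mem hα hβ

theorem zspan_neg {α : X → ℂ} (hα : α ∈ zspan S) : -α ∈ zspan S :=
  (Submodule.span ℤ S).neg_mem hα

theorem zspan_sub {α β : X → ℂ} (hα : α ∈ zspan S) (hβ : β ∈ zspan S) : α - β ∈ zspan S :=
  (Submodule.span ℤ S).sub_mem hα hβ

theorem zspan_zsmul {α : X → ℂ} (hα : α ∈ zspan S) (m : ℤ) : m • α ∈ zspan S :=
  (Submodule.span ℤ S).smul_mem m hα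

theorem zspan_sum {ι : Type*} (s : Finset ι) (f : ι → X → ℂ) (hf : ∀ i ∈ s, f i ∈ zspan S) :
    ∑ i ∈ s, f i ∈ zspan S :=
  (Submodule.span ℤ S).sum_mem hf

theorem zspan_mono {S' : Set (X → ℂ)} (h : S ⊆ S') {α : X → ℂ} (hα : α ∈ zspan S) :
    α ∈ zspan S' :=
  (Submodule.span_mono h hα : α ∈ Submodule.span ℤ S')

end Zspan

/-- A linear isometry on `zspan S` is additive on finite sums of members. -/
theorem tau_sum_zspan {S : Set (L → ℂ)} {τ : (L → ℂ) → (G → ℂ)}
    (hτ : IsLinearIsometryOn (zspan S) τ) {ι : Type*} (s : Finset ι) (f : ι → L → ℂ)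
    (hf : ∀ i ∈ s, f i ∈ zspan S) : τ (∑ i ∈ s, f i) = ∑ i ∈ s, τ (f i) := by
  classical
  induction s using Finset.induction_on with
  | empty => simpa using tau_zero hτ zspan_zero
  | insert a s ha ih =>
    rw [Finset.sum_insert ha, Finset.sum_insert ha,
      hτ.1 _ (hf a (Finset.mem_insert_self a s))
        _ (zspan_sum s f fun i hi => hf i (Finset.mem_insert_of_mem hi)),
      ih fun i hi => hf i (Finset.mem_insert_of_mem hi)]

/-- A linear isometry on `zspan S` maps integer combinations to integer combinations. -/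
theorem tau_lin_comb {S : Set (L → ℂ)} {τ : (L → ℂ) → (G → ℂ)}
    (hτ : IsLinearIsometryOn (zspan S) τ) (T : Finset (L → ℂ)) (hT : ↑T ⊆ S)
    (c : (L → ℂ) → ℤ) : τ (∑ φ ∈ T, c φ • φ) = ∑ φ ∈ T, c φ • τ φ := by
  rw [tau_sum_zspan hτ T _ fun φ hφ => zspan_zsmul (zspan_subset (hT hφ)) _]
  exact Finset.sum_congr rfl fun φ hφ => hτ.2.1 _ (zspan_subset (hT hφ)) _

/-- A function orthogonal to a finite set is orthogonal to its integer span. -/
theorem classInner_zspan_right (T : Finset (L → ℂ)) (χ : L → ℂ)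
    (h : ∀ φ ∈ T, classInner χ φ = 0) {β : L → ℂ} (hβ : β ∈ zspan (T : Set (L → ℂ))) :
    classInner χ β = 0 := by
  obtain ⟨c, rfl⟩ := mem_zspan_finset T hβ
  rw [classInner_sum_right]
  refine Finset.sum_eq_zero fun φ hφ => ?_
  rw [classInner_intCast_smul_right, h φ hφ, mul_zero]

/-- Two generalized characters `u, v` of squared norm `n` whose difference is the sum of an
orthonormal set `Γ` of `2n` generalized characters: `u` is its own projection onto `Γ`. -/
theorem eq_proj_of_sub (Γ : Finset (G → ℂ))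
    (hself : ∀ α ∈ Γ, classInner α α = 1)
    (hne : ∀ α ∈ Γ, ∀ β ∈ Γ, α ≠ β → classInner α β = 0)
    (hΓg : ∀ β ∈ Γ, IsGeneralizedCharacter G β) {u v : G → ℂ}
    (hu : IsGeneralizedCharacter G u) (hv : IsGeneralizedCharacter G v) {n : ℕ}
    (hun : classInner u u = (n : ℂ)) (hvn : classInner v v = (n : ℂ))
    (hsub : u - v = ∑ β ∈ Γ, β) (hcard : Γ.card = 2 * n) :
    u = ∑ β ∈ Γ, classInner u β • β := by
  classical
  have hxint : ∀ β ∈ Γ, ∃ x : ℤ, classInner u β = x := fun β hβ =>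
    classInner_genChar_int hu (hΓg β hβ)
  have hyint : ∀ β ∈ Γ, ∃ y : ℤ, classInner v β = y := fun β hβ =>
    classInner_genChar_int hv (hΓg β hβ)
  choose! x hx using hxint
  choose! y hy using hyint
  have hxy : ∀ β ∈ Γ, x β - y β = 1 := by
    intro β hβ
    have h1 : classInner (u - v) β = 1 := by
      rw [hsub, classInner_sum_left, Finset.sum_eq_single_of_mem β hβ]
      · exact hself β hβ
      · intro γ hγ hγβ
        exact hne γ hγ β hβ hγβ
    rw [classInner_sub_left, hx β hβ, hy β hβ] at h1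
    have : ((x β - y β : ℤ) : ℂ) = ((1 : ℤ) : ℂ) := by
      push_cast
      exact h1
    exact_mod_cast this
  have hN : ∀ β ∈ Γ, (fun _ => 1 : (G → ℂ) → ℕ) β ≠ 0 := fun _ _ => one_ne_zero
  have hself' : ∀ α ∈ Γ, classInner (id α) (id α) = (((fun _ => 1 : (G → ℂ) → ℕ) α : ℕ) : ℂ) := by
    intro α hα
    simpa using hself α hα
  have hne' : ∀ α ∈ Γ, ∀ β ∈ Γ, α ≠ β → classInner (id α) (id β) = 0 := hne
  have hsqx : ∑ β ∈ Γ, ‖classInner u (id β)‖ ^ 2 / (((fun _ => 1 : (G → ℂ) → ℕ) β : ℕ) : ℝ)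
      = ((∑ β ∈ Γ, x β ^ 2 : ℤ) : ℝ) := by
    push_cast
    refine Finset.sum_congr rfl fun β hβ => ?_
    rw [id, hx β hβ, Complex.norm_intCast, sq_abs, div_one]
  have hsqy : ∑ β ∈ Γ, ‖classInner v (id β)‖ ^ 2 / (((fun _ => 1 : (G → ℂ) → ℕ) β : ℕ) : ℝ)
      = ((∑ β ∈ Γ, y β ^ 2 : ℤ) : ℝ) := by
    push_cast
    refine Finset.sum_congr rfl fun β hβ => ?_
    rw [id, hy β hβ, Complex.norm_intCast, sq_abs, div_one]
  have hbx := bessel_le Γ id (fun _ => 1) hN hself' hne' u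
  have hby := bessel_le Γ id (fun _ => 1) hN hself' hne' v
  rw [hsqx, hun] at hbx
  rw [hsqy, hvn] at hby
  have hbx' : ∑ β ∈ Γ, x β ^ 2 ≤ (n : ℤ) := by
    have : ((∑ β ∈ Γ, x β ^ 2 : ℤ) : ℝ) ≤ ((n : ℤ) : ℝ) := by simpa using hbx
    exact_mod_cast this
  have hby' : ∑ β ∈ Γ, y β ^ 2 ≤ (n : ℤ) := by
    have : ((∑ β ∈ Γ, y β ^ 2 : ℤ) : ℝ) ≤ ((n : ℤ) : ℝ) := by simpa using hby
    exact_mod_cast this
  have hsum : (Γ.card : ℤ) ≤ ∑ β ∈ Γ, (x β ^ 2 + y β ^ 2) := by
    have h1 : ∀ β ∈ Γ, (1 : ℤ) ≤ x β ^ 2 + y β ^ 2 := by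
      intro β hβ
      have := hxy β hβ
      have hy' : y β = x β - 1 := by omega
      rw [hy']
      nlinarith [sq_nonneg (x β), sq_nonneg (x β - 1), sq_nonneg (2 * x β - 1)]
    have := Finset.sum_le_sum h1
    simpa using this
  rw [Finset.sum_add_distrib, hcard] at hsum
  have hxge : (n : ℤ) ≤ ∑ β ∈ Γ, x β ^ 2 := by
    push_cast at hsum
    omega
  have hge : (classInner u u).re
      ≤ ∑ β ∈ Γ, ‖classInner u (id β)‖ ^ 2 / (((fun _ => 1 : (G → ℂ) → ℕ) β : ℕ) : ℝ) := by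
    rw [hsqx, hun]
    have : ((n : ℤ) : ℝ) ≤ ((∑ β ∈ Γ, x β ^ 2 : ℤ) : ℝ) := by exact_mod_cast hxge
    simpa using this
  have hueq := bessel_eq Γ id (fun _ => 1) hN hself' hne' u hge
  refine hueq.trans ?_
  refine Finset.sum_congr rfl fun β _ => ?_
  simp

end Cfsg.Agent.Lib.Helper76.Coherence2
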