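import Mathlib
import Cfsg.Agent.Lib.Helper76.Coherence
import Cfsg.Agent.Lib.Helper76.Coherence2
import Cfsg.Agent.Lib.CT.FrobRec
import Cfsg.Agent.Lib.CT.Ops
import Cfsg.Agent.Lib.CT.LinChar
import Cfsg.Agent.Lib.CT.Kernel
import Cfsg.Agent.Lib.CT.Orth
import Cfsg.Agent.Lib.Helper80.PrimeCod
import Cfsg.Agent.S1486

/-!
# Coherence set-up for characters induced from a normal subgroup (Peterfalvi, section 6)

`K ⊴ L`, `S = inducedIrrAbove K ⊥` (functions induced from non-principal irreducible characters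
of `K`), `S(A) = inducedIrrAbove K A`.

* `isIrr_conjFun`, `conjFun_indFun`, `mem_bot_of_mem`, `conj_mem`: closure properties.
* `sum_sq_ker`: `∑ ψ(1)²` over the irreducible characters with `N` in the kernel is `[H : N]`.
* `exists_linear`: a nonprincipal linear character of a solvable `K` trivial on `A < K`.
* `inner_ind`, `restrict_eq`: in a coherence system on `S`, the restriction to `K` of `φ ∈ S`
  is `‖φ‖²` times the sum of the irreducible characters of `K` inducing `φ`.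
* `index_mul_sum_sq`, `sum_ge`: `∑_{φ ∈ S(A)} φ(1)² / ‖φ‖² ≥ [L:K] ([K:A] - 1)`.
-/

set_option autoImplicit false

namespace Cfsg.Agent.Lib.Helper76.CohInd

open Cfsg Cfsg.Agent.Lib.Helper26.GenChar Cfsg.Agent.Lib.CT.Orth Cfsg.Agent.Lib.CT.Wedderburn
open Cfsg.Agent.Lib.Helper76.Coherence Cfsg.Agent.Lib.Helper76.Coherence2
open scoped ComplexConjugate

universe u v

theorem isIrr_conjFun {H : Type u} [Group H] [Finite H] {χ : H → ℂ} (hχ : IsIrrCharacter H χ) :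
    IsIrrCharacter H (Cfsg.conjFun χ) := by
  have h := Cfsg.Agent.Lib.CT.Ops.isIrrCharacter_inv_arg hχ
  have e : Cfsg.conjFun χ = fun g => χ g⁻¹ := by
    funext g
    rw [char_apply_inv (isCharacter_of_irr hχ)]
    rfl
  rw [e]
  exact h

/-- The sum of `ψ(1)²` over the irreducible characters with `N` in the kernel is `[H : N]`. -/
theorem sum_sq_ker {H : Type u} [Group H] [Fintype H] (N : Subgroup H) [N.Normal]
    [Fintype (IrrCharacter H)] [DecidablePred fun ψ : IrrCharacter H =>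
      ∀ u ∈ N, (ψ : H → ℂ) u = (ψ : H → ℂ) 1] :
    ∑ ψ ∈ Finset.univ.filter (fun ψ : IrrCharacter H => ∀ u ∈ N, (ψ : H → ℂ) u = (ψ : H → ℂ) 1),
      (ψ : H → ℂ) 1 ^ 2 = (N.index : ℂ) := by
  classical
  have : Fintype (H ⧸ N) := Fintype.ofFinite _
  have : Finite (IrrCharacter (H ⧸ N)) := finite_irrCharacter _
  have : Fintype (IrrCharacter (H ⧸ N)) := Fintype.ofFinite _
  let infl : IrrCharacter (H ⧸ N) → IrrCharacter H := fun μ =>
    ⟨fun g : H => (μ : H ⧸ N → ℂ) (g : H ⧸ N),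
      Cfsg.Agent.Lib.CT.Kernel.isIrrCharacter_inflation N μ.2⟩
  have hinj : Function.Injective infl := by
    intro μ μ' h
    apply Subtype.ext
    funext x
    obtain ⟨g, rfl⟩ := QuotientGroup.mk_surjective x
    exact congrFun (congrArg Subtype.val h) g
  have himg : Finset.univ.filter
      (fun ψ : IrrCharacter H => ∀ u ∈ N, (ψ : H → ℂ) u = (ψ : H → ℂ) 1)
      = Finset.univ.image infl := by
    ext ψ
    simp only [Finset.mem_filter, Finset.mem_univ, true_and, Finset.mem_image]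
    constructor
    · intro h
      obtain ⟨χbar, hirr, hχ⟩ := Cfsg.Agent.Lib.CT.Kernel.exists_quotient_irr N ψ.2 h
      refine ⟨⟨χbar, hirr⟩, ?_⟩
      apply Subtype.ext
      funext g
      exact hχ g
    · rintro ⟨μ, rfl⟩ u hu
      show (μ : H ⧸ N → ℂ) (u : H ⧸ N) = (μ : H ⧸ N → ℂ) ((1 : H) : H ⧸ N)
      rw [(QuotientGroup.eq_one_iff u).mpr hu, QuotientGroup.mk_one]
  rw [himg, Finset.sum_image (fun a _ b _ h => hinj h)]
  have h1 : ∀ μ : IrrCharacter (H ⧸ N), ((infl μ : IrrCharacter H) : H → ℂ) 1 ^ 2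
      = (μ : H ⧸ N → ℂ) 1 ^ 2 := fun μ => rfl
  rw [Finset.sum_congr rfl fun μ _ => h1 μ, sum_apply_one_sq_sum]
  rfl

/-- A solvable group `K` with a proper normal subgroup `N` has a nonprincipal linear character
trivial on `N`. -/
theorem exists_linear {H : Type u} [Group H] [Finite H] (hsolv : Group.IsSolvable H)
    (N : Subgroup H) [N.Normal] (hN : N ≠ ⊤) :
    ∃ ψ : H → ℂ, IsIrrCharacter H ψ ∧ ψ ≠ (fun _ => 1) ∧ ψ 1 = 1 ∧ ∀ u ∈ N, ψ u = ψ 1 := by
  have hnt : Nontrivial (H ⧸ N) := by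
    rw [← not_subsingleton_iff_nontrivial]
    intro hsub
    apply hN
    rw [eq_top_iff]
    intro x _
    have : (x : H ⧸ N) = 1 := Subsingleton.elim _ _
    exact (QuotientGroup.eq_one_iff x).mp this
  have hsolvq : Group.IsSolvable (H ⧸ N) :=
    Group.isSolvable_of_surjective (f := QuotientGroup.mk' N) (QuotientGroup.mk'_surjective N)
  have hcomm : commutator (H ⧸ N) ≠ ⊤ :=
    (Group.IsSolvable.commutator_lt_top_of_nontrivial (H ⧸ N)).ne
  obtain ⟨p, f, hp, hf⟩ := Cfsg.Agent.Lib.Helper80.PrimeCod.exists_hom_ker_index_prime hcomm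
  have hirr := Cfsg.Agent.Lib.CT.Kernel.isIrrCharacter_inflation N
    (Cfsg.Agent.Lib.CT.LinChar.isIrrCharacter_of_hom f)
  refine ⟨_, hirr, ?_, ?_, ?_⟩
  · intro h
    have hker : f.ker = ⊤ := by
      rw [eq_top_iff]
      intro q _
      obtain ⟨g, rfl⟩ := QuotientGroup.mk_surjective q
      have h1 := congrFun h g
      rw [MonoidHom.mem_ker]
      exact Units.ext h1
    rw [hker, Subgroup.index_top] at hf
    exact hp.one_lt.ne' hf.symm
  · show ((f (((1 : H) : H ⧸ N)) : ℂˣ) : ℂ) = 1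
    rw [QuotientGroup.mk_one, map_one, Units.val_one]
  · intro u hu
    show ((f ((u : H) : H ⧸ N) : ℂˣ) : ℂ) = ((f (((1 : H) : H ⧸ N)) : ℂˣ) : ℂ)
    rw [(QuotientGroup.eq_one_iff u).mpr hu, QuotientGroup.mk_one]

section Ind

variable {L : Type u} [Group L] [Fintype L] (K : Subgroup L)

theorem conjFun_indFun (θ : K → ℂ) : Cfsg.conjFun (indFun K θ) = indFun K (Cfsg.conjFun θ) :=
  (Cfsg.Agent.Lib.CT.FrobRec.indFun_conj K θ).symm

theorem mem_bot_of_mem {A : Subgroup L} {φ : L → ℂ} (h : φ ∈ inducedIrrAbove K A) :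
    φ ∈ inducedIrrAbove K ⊥ := by
  obtain ⟨θ, hθ, h1, -, rfl⟩ := h
  refine ⟨θ, hθ, h1, fun a ha => ?_, rfl⟩
  have : a = 1 := Subtype.ext (Subgroup.mem_bot.mp ha)
  rw [this]

theorem conj_mem {A : Subgroup L} {φ : L → ℂ} (h : φ ∈ inducedIrrAbove K A) :
    Cfsg.conjFun φ ∈ inducedIrrAbove K A := by
  obtain ⟨θ, hθ, h1, hA, rfl⟩ := h
  refine ⟨Cfsg.conjFun θ, isIrr_conjFun hθ, ?_, ?_, conjFun_indFun K θ⟩
  · intro h
    apply h1
    have := congrArg Cfsg.conjFun h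
    rw [conjFun_conjFun'] at this
    rw [this]
    funext x
    simp [Cfsg.conjFun]
  · intro a ha
    show conj (θ a) = conj (θ 1)
    rw [hA a ha]

variable [hK : K.Normal] {G : Type v} [Group G] [Fintype G] {τ : (L → ℂ) → (G → ℂ)}
  {R : (L → ℂ) → Finset (G → ℂ)}

/-- In a coherence system on the induced characters, the inner product of a member `φ` with the
function induced from an irreducible character of `K`. -/
theorem inner_ind (hS : IsCoherenceSystem (inducedIrrAbove K ⊥) τ R) {φ : L → ℂ}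
    (hφ : φ ∈ inducedIrrAbove K ⊥) {n : ℕ} (hn : classInner φ φ = (n : ℂ))
    (ψ : IrrCharacter K) [Decidable (indFun K (ψ : K → ℂ) = φ)] :
    classInner φ (indFun K (ψ : K → ℂ)) = if indFun K (ψ : K → ℂ) = φ then (n : ℂ) else 0 := by
  split_ifs with h
  · rw [h, hn]
  · by_cases h1 : (ψ : K → ℂ) = fun _ => 1
    · obtain ⟨θ, hθ, hθ1, -, rfl⟩ := hφ
      have := (Cfsg.Agent.S1486.result K (fun _ => 1) θ
        Cfsg.Agent.Lib.CT.Ops.isIrrCharacter_one hθ).2 (by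
          rintro ⟨g, hg⟩
          exact hθ1 hg)
      rw [h1]
      exact this
    · exact hS.orthogonal φ hφ _ ⟨ψ, ψ.2, h1, fun a ha => by
        have : a = 1 := Subtype.ext (Subgroup.mem_bot.mp ha)
        rw [this], rfl⟩ (Ne.symm h)

/-- The restriction to `K` of a member `φ` of a coherence system on the induced characters is
`‖φ‖²` times the sum of the irreducible characters of `K` inducing `φ`. -/
theorem restrict_eq (hS : IsCoherenceSystem (inducedIrrAbove K ⊥) τ R) {φ : L → ℂ}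
    (hφ : φ ∈ inducedIrrAbove K ⊥) {n : ℕ} (hn : classInner φ φ = (n : ℂ))
    [Fintype K] [Fintype (IrrCharacter K)]
    [DecidablePred fun ψ : IrrCharacter K => indFun K (ψ : K → ℂ) = φ] (k : K) :
    φ k = (n : ℂ) * ∑ ψ ∈ Finset.univ.filter
      (fun ψ : IrrCharacter K => indFun K (ψ : K → ℂ) = φ), (ψ : K → ℂ) k := by
  have hφcl : IsClassFunction L φ := char_isClassFunction (hS.isCharacter φ hφ)
  have hcl : IsClassFunction K (fun k : K => φ k) := by
    intro g h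
    show φ ((h * g * h⁻¹ : K) : L) = φ g
    rw [Subgroup.coe_mul, Subgroup.coe_mul, Subgroup.coe_inv]
    exact hφcl _ _
  have h1 := classFunction_expand_sum (fun k : K => φ k) hcl k
  rw [Finset.mul_sum, Finset.sum_filter]
  refine h1.trans (Finset.sum_congr rfl fun ψ _ => ?_)
  rw [← Cfsg.Agent.Lib.CT.FrobRec.frobenius_reciprocity' K (ψ : K → ℂ) φ hφcl,
    inner_ind K hS hφ hn ψ]
  split_ifs
  · rfl
  · rw [zero_mul]

/-- `[L:K] · ∑ ψ(1)²` over the irreducible characters of `K` inducing `φ` is `φ(1)² / ‖φ‖²`. -/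
theorem index_mul_sum_sq (hS : IsCoherenceSystem (inducedIrrAbove K ⊥) τ R) {φ : L → ℂ}
    (hφ : φ ∈ inducedIrrAbove K ⊥) {n d : ℕ} (hn : classInner φ φ = (n : ℂ)) (hn0 : n ≠ 0)
    (hd : φ 1 = (d : ℂ)) [Fintype K] [Fintype (IrrCharacter K)]
    [DecidablePred fun ψ : IrrCharacter K => indFun K (ψ : K → ℂ) = φ] :
    (K.index : ℂ) * ∑ ψ ∈ Finset.univ.filter
      (fun ψ : IrrCharacter K => indFun K (ψ : K → ℂ) = φ), (ψ : K → ℂ) 1 ^ 2
      = (d : ℂ) ^ 2 / (n : ℂ) := by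
  have h1 := restrict_eq K hS hφ hn (1 : K)
  rw [Subgroup.coe_one, hd] at h1
  have h2 : ∀ ψ ∈ Finset.univ.filter (fun ψ : IrrCharacter K => indFun K (ψ : K → ℂ) = φ),
      (K.index : ℂ) * (ψ : K → ℂ) 1 ^ 2 = (d : ℂ) * (ψ : K → ℂ) 1 := by
    intro ψ hψ
    have h3 : indFun K (ψ : K → ℂ) = φ := (Finset.mem_filter.mp hψ).2
    have h4 := Cfsg.Agent.Lib.CT.FrobRec.indFun_one K (ψ : K → ℂ)
    rw [h3, hd] at h4
    rw [h4]
    ring
  rw [Finset.mul_sum, Finset.sum_congr rfl h2, ← Finset.mul_sum]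
  have hn0' : (n : ℂ) ≠ 0 := Nat.cast_ne_zero.mpr hn0
  rw [h1]
  field_simp

/-- An irreducible character of `K` inducing a member of `S(A)` is nonprincipal with `A` in its
kernel. -/
theorem fiber_subset (A : Subgroup L) [hA : A.Normal] {φ : L → ℂ}
    (hφ : φ ∈ inducedIrrAbove K A) (hφ0 : classInner φ φ ≠ 0) {ψ : K → ℂ}
    (hψ : IsIrrCharacter K ψ) (h : indFun K ψ = φ) :
    ψ ≠ (fun _ => 1) ∧ ∀ a : K, (a : L) ∈ A → ψ a = ψ 1 := by
  obtain ⟨θ, hθ, hθ1, hθA, rfl⟩ := hφ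
  have hconj : ∃ g : L, ψ = fun h : K => θ ⟨g * h * g⁻¹, hK.conj_mem h h.2 g⟩ := by
    by_contra hcon
    have := (Cfsg.Agent.S1486.result K θ ψ hθ hψ).2 hcon
    rw [h] at this
    exact hφ0 this
  obtain ⟨g, rfl⟩ := hconj
  constructor
  · intro h1
    apply hθ1
    funext k
    have h2 := congrFun h1 ⟨g⁻¹ * k * g, by
      have := hK.conj_mem k k.2 g⁻¹
      rwa [inv_inv] at this⟩
    have e : (⟨g * (g⁻¹ * (k : L) * g) * g⁻¹, hK.conj_mem _ (by
      have := hK.conj_mem k k.2 g⁻¹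
      rwa [inv_inv] at this) g⟩ : K) = k := Subtype.ext (by group)
    simp only at h2
    rw [e] at h2
    exact h2
  · intro a ha
    have e1 : (⟨g * ((1 : K) : L) * g⁻¹, hK.conj_mem _ (1 : K).2 g⟩ : K) = 1 :=
      Subtype.ext (by simp)
    show θ ⟨g * a * g⁻¹, _⟩ = θ ⟨g * ((1 : K) : L) * g⁻¹, _⟩
    rw [e1]
    exact hθA _ (hA.conj_mem a ha g)

/-- `∑_{φ ∈ S(A)} φ(1)² / ‖φ‖² = [L:K] ([K:A] - 1)`. -/
theorem sum_sq_div (hS : IsCoherenceSystem (inducedIrrAbove K ⊥) τ R) (A : Subgroup L)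
    [hA : A.Normal] (T : Finset (L → ℂ)) (hT : ∀ φ, φ ∈ T ↔ φ ∈ inducedIrrAbove K A)
    (d n : (L → ℂ) → ℕ) (hd : ∀ φ ∈ T, φ 1 = (d φ : ℂ))
    (hn : ∀ φ ∈ T, classInner φ φ = (n φ : ℂ)) (hn0 : ∀ φ ∈ T, n φ ≠ 0) :
    ∑ φ ∈ T, (d φ : ℝ) ^ 2 / (n φ : ℝ) = (K.index : ℝ) * ((A.relIndex K : ℝ) - 1) := by
  classical
  have : Fintype K := Fintype.ofFinite K
  have : Finite (IrrCharacter K) := finite_irrCharacter _
  have : Fintype (IrrCharacter K) := Fintype.ofFinite _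
  have hC : ∑ φ ∈ T, (d φ : ℂ) ^ 2 / (n φ : ℂ) = (K.index : ℂ) * ((A.relIndex K : ℂ) - 1) := by
    obtain ⟨Θ, hΘ⟩ : ∃ Θ : Finset (IrrCharacter K), Θ = Finset.univ.filter
      (fun ψ : IrrCharacter K => (ψ : K → ℂ) ≠ (fun _ => 1) ∧
        ∀ a : K, (a : L) ∈ A → (ψ : K → ℂ) a = (ψ : K → ℂ) 1) := ⟨_, rfl⟩
    have hmaps : ∀ ψ ∈ Θ, indFun K (ψ : K → ℂ) ∈ T := by
      intro ψ hψ
      rw [hΘ, Finset.mem_filter] at hψ
      exact (hT _).mpr ⟨ψ, ψ.2, hψ.2.1, hψ.2.2, rfl⟩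
    have hfib : ∀ φ ∈ T, Θ.filter (fun ψ : IrrCharacter K => indFun K (ψ : K → ℂ) = φ)
        = Finset.univ.filter (fun ψ : IrrCharacter K => indFun K (ψ : K → ℂ) = φ) := by
      intro φ hφ
      ext ψ
      simp only [Finset.mem_filter, Finset.mem_univ, true_and, hΘ]
      constructor
      · exact fun h => h.2
      · intro h
        refine ⟨fiber_subset K A ((hT φ).mp hφ) ?_ ψ.2 h, h⟩
        rw [hn φ hφ]
        exact Nat.cast_ne_zero.mpr (hn0 φ hφ)
    have h1 : ∑ φ ∈ T, (d φ : ℂ) ^ 2 / (n φ : ℂ)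
        = ∑ φ ∈ T, ∑ ψ ∈ Θ.filter (fun ψ : IrrCharacter K => indFun K (ψ : K → ℂ) = φ),
          (K.index : ℂ) * (ψ : K → ℂ) 1 ^ 2 := by
      refine Finset.sum_congr rfl fun φ hφ => ?_
      rw [hfib φ hφ, ← Finset.mul_sum]
      exact (index_mul_sum_sq K hS (mem_bot_of_mem K ((hT φ).mp hφ)) (hn φ hφ) (hn0 φ hφ)
        (hd φ hφ)).symm
    rw [h1, Finset.sum_fiberwise_of_maps_to hmaps, ← Finset.mul_sum]
    congr 1
    have h2 := sum_sq_ker (A.subgroupOf K)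
    let one : IrrCharacter K := ⟨fun _ => 1, Cfsg.Agent.Lib.CT.Ops.isIrrCharacter_one⟩
    have hone : one ∈ Finset.univ.filter (fun ψ : IrrCharacter K =>
        ∀ u ∈ A.subgroupOf K, (ψ : K → ℂ) u = (ψ : K → ℂ) 1) := by
      rw [Finset.mem_filter]
      exact ⟨Finset.mem_univ _, fun u _ => rfl⟩
    have hΘ' : Θ = (Finset.univ.filter (fun ψ : IrrCharacter K =>
        ∀ u ∈ A.subgroupOf K, (ψ : K → ℂ) u = (ψ : K → ℂ) 1)).erase one := by
      ext ψ
      rw [hΘ, Finset.mem_erase, Finset.mem_filter, Finset.mem_filter]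
      constructor
      · rintro ⟨-, h3, h4⟩
        refine ⟨fun h5 => h3 (congrArg Subtype.val h5), Finset.mem_univ _, fun u hu => ?_⟩
        exact h4 u (Subgroup.mem_subgroupOf.mp hu)
      · rintro ⟨h3, -, h4⟩
        refine ⟨Finset.mem_univ _, fun h5 => h3 (Subtype.ext h5), fun a ha => ?_⟩
        exact h4 a (Subgroup.mem_subgroupOf.mpr ha)
    rw [hΘ', Finset.sum_erase_eq_sub hone, h2]
    have : ((one : IrrCharacter K) : K → ℂ) 1 ^ 2 = 1 := by
      show (1 : ℂ) ^ 2 = 1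
      norm_num
    rw [this]
    rfl
  have hR : ((∑ φ ∈ T, (d φ : ℝ) ^ 2 / (n φ : ℝ) : ℝ) : ℂ)
      = (((K.index : ℝ) * ((A.relIndex K : ℝ) - 1) : ℝ) : ℂ) := by
    push_cast
    exact hC
  exact Complex.ofReal_injective hR

end Ind

end Cfsg.Agent.Lib.Helper76.CohInd
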