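import Mathlib
import Cfsg.Agent.Lib.Helper76.Coherence
import Cfsg.Agent.Lib.Helper76.Coherence2
import Cfsg.Agent.S1516

/-!
# Coherence: subsets and chains

* `isCoherent_of_subset`: a subset of a coherent set is coherent as soon as it carries a nonzero
  integer combination vanishing off `A`.
* `coherent_chain`: iterating the extension criterion (statement S1516): starting from a coherent
  conjugation-closed finite `S₀`, a conjugation-closed finite `T ⊇ S₀` is coherent if every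
  `χ ∈ T ∖ S₀` satisfies the numerical condition of the criterion relative to `S₀`.
-/

set_option autoImplicit false

namespace Cfsg.Agent.Lib.Helper76.Coherence3

open Cfsg Cfsg.Agent.Lib.Helper26.GenChar Cfsg.Agent.Lib.CT.Orth
open Cfsg.Agent.Lib.Helper76.Coherence Cfsg.Agent.Lib.Helper76.Coherence2
open scoped ComplexConjugate

universe u v

variable {L : Type u} [Group L] [Fintype L] {G : Type v} [Group G] [Fintype G]

theorem isCoherent_of_subset {S' S : Set (L → ℂ)} {A : Set L} {τ : (L → ℂ) → (G → ℂ)}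
    (h : IsCoherent S A τ) (hsub : S' ⊆ S) (hne : ∃ α ∈ zspanOn S' A, α ≠ 0) :
    IsCoherent S' A τ := by
  obtain ⟨-, τ₁, hτ₁, hag⟩ := h
  refine ⟨hne, τ₁, ⟨fun α hα β hβ => hτ₁.1 α (zspan_mono hsub hα) β (zspan_mono hsub hβ),
    fun α hα m => hτ₁.2.1 α (zspan_mono hsub hα) m,
    fun α hα β hβ => hτ₁.2.2.1 α (zspan_mono hsub hα) β (zspan_mono hsub hβ),
    fun α hα => hτ₁.2.2.2 α (zspan_mono hsub hα)⟩,
    fun α hα => hag α (zspanOn_mono hsub hα)⟩

theorem coherent_chain {S : Set (L → ℂ)} {τ : (L → ℂ) → (G → ℂ)}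
    {R : (L → ℂ) → Finset (G → ℂ)} (hS : IsCoherenceSystem S τ R) (d n : (L → ℂ) → ℕ)
    (hd : ∀ φ ∈ S, φ 1 = (d φ : ℂ)) (hn : ∀ φ ∈ S, classInner φ φ = (n φ : ℂ))
    (S₀ : Finset (L → ℂ)) (_hS₀ : ↑S₀ ⊆ S) (hS₀c : ∀ φ ∈ S₀, Cfsg.conjFun φ ∈ S₀)
    (hcoh : IsCoherent (↑S₀ : Set (L → ℂ)) {1}ᶜ τ) (χ₁ : L → ℂ) (hχ₁ : χ₁ ∈ S₀)
    (T : Finset (L → ℂ)) (hT : ↑T ⊆ S) (hTc : ∀ φ ∈ T, Cfsg.conjFun φ ∈ T) (hS₀T : S₀ ⊆ T)
    (hstep : ∀ χ ∈ T, χ ∉ S₀ → d χ₁ ∣ d χ ∧
      (2 * d χ * d χ₁ : ℝ) < ∑ φ ∈ S₀, ((d φ : ℝ) ^ 2 / (n φ : ℝ))) :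
    IsCoherent (↑T : Set (L → ℂ)) {1}ᶜ τ := by
  classical
  induction hk : (T \ S₀).card using Nat.strong_induction_on generalizing T with
  | _ k ih =>
    by_cases hTS : T ⊆ S₀
    · have : T = S₀ := Finset.Subset.antisymm hTS hS₀T
      rw [this]
      exact hcoh
    · obtain ⟨χ, hχT, hχS₀⟩ := Finset.not_subset.mp hTS
      have hχS : χ ∈ S := hT hχT
      have hcc : Cfsg.conjFun (Cfsg.conjFun χ) = χ := conjFun_conjFun' χ
      have hχcS₀ : Cfsg.conjFun χ ∉ S₀ := by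
        intro h
        apply hχS₀
        have := hS₀c _ h
        rwa [hcc] at this
      have hχcT : Cfsg.conjFun χ ∈ T := hTc χ hχT
      obtain ⟨T', hT'⟩ : ∃ T', T' = (T.erase χ).erase (Cfsg.conjFun χ) := ⟨_, rfl⟩
      have hmem' : ∀ φ, φ ∈ T' ↔ φ ≠ Cfsg.conjFun χ ∧ φ ≠ χ ∧ φ ∈ T := by
        intro φ
        rw [hT', Finset.mem_erase, Finset.mem_erase]
      have hT'T : T' ⊆ T := fun φ hφ => ((hmem' φ).mp hφ).2.2
      have hS₀T' : S₀ ⊆ T' := by
        intro φ hφ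
        rw [hmem']
        exact ⟨fun h => hχcS₀ (h ▸ hφ), fun h => hχS₀ (h ▸ hφ), hS₀T hφ⟩
      have hT'c : ∀ φ ∈ T', Cfsg.conjFun φ ∈ T' := by
        intro φ hφ
        obtain ⟨h1, h2, h3⟩ := (hmem' φ).mp hφ
        rw [hmem']
        refine ⟨fun h => h2 ?_, fun h => h1 ?_, hTc φ h3⟩
        · have := congrArg Cfsg.conjFun h
          rwa [conjFun_conjFun', conjFun_conjFun'] at this
        · have := congrArg Cfsg.conjFun h
          rwa [conjFun_conjFun'] at this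
      have hcard : (T' \ S₀).card < k := by
        rw [← hk]
        apply Finset.card_lt_card
        rw [Finset.ssubset_iff_of_subset (Finset.sdiff_subset_sdiff hT'T (Finset.Subset.refl _))]
        refine ⟨χ, Finset.mem_sdiff.mpr ⟨hχT, hχS₀⟩, ?_⟩
        intro h
        exact ((hmem' χ).mp (Finset.mem_sdiff.mp h).1).2.1 rfl
      have hcoh' : IsCoherent (↑T' : Set (L → ℂ)) {1}ᶜ τ :=
        ih _ hcard T' (fun φ hφ => hT (hT'T hφ)) hT'c hS₀T'
          (fun φ hφ hφS₀ => hstep φ (hT'T hφ) hφS₀) rfl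
      obtain ⟨hdvd, hlt⟩ := hstep χ hχT hχS₀
      have hle : ∑ φ ∈ S₀, ((d φ : ℝ) ^ 2 / (n φ : ℝ)) ≤ ∑ φ ∈ T', ((d φ : ℝ) ^ 2 / (n φ : ℝ)) :=
        Finset.sum_le_sum_of_subset_of_nonneg hS₀T' fun φ _ _ => by positivity
      have hres := Cfsg.Agent.S1516.result S τ R hS d n hd hn T'
        (fun φ hφ => hT (hT'T hφ)) hT'c hcoh' χ hχS
        (fun h => ((hmem' χ).mp h).2.1 rfl) (fun h => ((hmem' _).mp h).1 rfl)
        χ₁ (hS₀T' hχ₁) hdvd (lt_of_lt_of_le hlt hle)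
      have hset : (↑T' ∪ {χ, Cfsg.conjFun χ} : Set (L → ℂ)) = ↑T := by
        ext φ
        simp only [Set.mem_union, Finset.mem_coe, Set.mem_insert_iff, Set.mem_singleton_iff,
          hmem']
        constructor
        · rintro (⟨-, -, h⟩ | h | h)
          · exact h
          · rw [h]; exact hχT
          · rw [h]; exact hχcT
        · intro h
          by_cases h1 : φ = χ
          · exact Or.inr (Or.inl h1)
          · by_cases h2 : φ = Cfsg.conjFun χ
            · exact Or.inr (Or.inr h2)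
            · exact Or.inl ⟨h2, h1, h⟩
      rw [hset] at hres
      exact hres

end Cfsg.Agent.Lib.Helper76.Coherence3
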