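import Mathlib
import Cfsg.Agent.Lib.Helper76.CohInd
import Cfsg.Agent.Lib.Helper76.Coherence3
import Cfsg.Agent.H41.AbRestr
import Cfsg.Agent.S1517

/-!
# Coherence of the characters induced from an abelian section (Peterfalvi (6.3), first step)

* `subsystem`: a nonempty conjugation-closed subset of a coherence system is a coherence system.
* `linear_of_comm_le`: an irreducible character of `K` with `K' ≤ H₁` in its kernel is linear.
* `coherent_of_comm`: if `K' ≤ H₁ < K` then `S(H₁)` is coherent.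
-/

set_option autoImplicit false

namespace Cfsg.Agent.Lib.Helper76.CohFrob

open Cfsg Cfsg.Agent.Lib.Helper76.Coherence Cfsg.Agent.Lib.Helper76.CohInd
open scoped commutatorElement

universe u v

theorem subsystem {L : Type u} [Group L] [Fintype L] {G : Type v} [Group G] [Fintype G]
    {S S' : Set (L → ℂ)} {τ : (L → ℂ) → (G → ℂ)} {R : (L → ℂ) → Finset (G → ℂ)}
    (hS : IsCoherenceSystem S τ R) (hsub : S' ⊆ S) (hne : S'.Nonempty)
    (hconj : ∀ χ ∈ S', Cfsg.conjFun χ ∈ S') : IsCoherenceSystem S' τ R where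
  nonempty := hne
  isCharacter := fun χ hχ => hS.isCharacter χ (hsub hχ)
  conj_mem := hconj
  conj_ne := fun χ hχ => hS.conj_ne χ (hsub hχ)
  isometry := ⟨fun α hα β hβ => hS.isometry.1 α (zspanOn_mono hsub hα) β (zspanOn_mono hsub hβ),
    fun α hα m => hS.isometry.2.1 α (zspanOn_mono hsub hα) m,
    fun α hα β hβ => hS.isometry.2.2.1 α (zspanOn_mono hsub hα) β (zspanOn_mono hsub hβ),
    fun α hα => hS.isometry.2.2.2 α (zspanOn_mono hsub hα)⟩
  map_one := fun α hα => hS.map_one α (zspanOn_mono hsub hα)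
  orthogonal := fun χ hχ φ hφ => hS.orthogonal χ (hsub hχ) φ (hsub hφ)
  orthonormal := fun χ hχ => hS.orthonormal χ (hsub hχ)
  virtual := fun χ hχ => hS.virtual χ (hsub hχ)
  sum_eq := fun χ hχ => hS.sum_eq χ (hsub hχ)
  disjoint := fun χ hχ φ hφ => hS.disjoint χ (hsub hχ) φ (hsub hφ)

/-- An irreducible character of `K` whose kernel contains `H₁ ≥ K'` is linear. -/
theorem linear_of_comm_le {L : Type u} [Group L] [Finite L] (K H₁ : Subgroup L)
    [hH₁ : H₁.Normal] (hcomm : ⁅K, K⁆ ≤ H₁) {θ : K → ℂ} (hθ : IsIrrCharacter K θ)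
    (hker : ∀ a : K, (a : L) ∈ H₁ → θ a = θ 1) : θ 1 = 1 := by
  obtain ⟨χbar, hirr, hχ⟩ := Cfsg.Agent.Lib.CT.Kernel.exists_quotient_irr (H₁.subgroupOf K) hθ
    (fun u hu => hker u (Subgroup.mem_subgroupOf.mp hu))
  have hab : ∀ a b : ↥K ⧸ H₁.subgroupOf K, a * b = b * a := by
    intro a b
    obtain ⟨a, rfl⟩ := QuotientGroup.mk_surjective a
    obtain ⟨b, rfl⟩ := QuotientGroup.mk_surjective b
    rw [← QuotientGroup.mk_mul, ← QuotientGroup.mk_mul]
    apply (QuotientGroup.eq).mpr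
    rw [Subgroup.mem_subgroupOf]
    apply hcomm
    have := Subgroup.commutator_mem_commutator (K.inv_mem b.2) (K.inv_mem a.2)
    rw [commutatorElement_def] at this
    have e : (((a * b)⁻¹ * (b * a) : K) : L) = (b : L)⁻¹ * (a : L)⁻¹ * (b : L)⁻¹⁻¹ * (a : L)⁻¹⁻¹ := by
      push_cast
      group
    rw [e]
    exact this
  have h1 := Cfsg.Agent.H41.irr_linear_of_comm hab hirr
  rw [← hχ 1, QuotientGroup.mk_one]
  exact h1

/-- If `K' ≤ H₁ < K` then `S(H₁)` is coherent: all its members have degree `[L : K]`. -/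
theorem coherent_of_comm {L : Type u} [Group L] [Fintype L] {G : Type v} [Group G] [Fintype G]
    (K : Subgroup L) [K.Normal] (hsolv : Group.IsSolvable K) {τ : (L → ℂ) → (G → ℂ)}
    {R : (L → ℂ) → Finset (G → ℂ)} (hS : IsCoherenceSystem (inducedIrrAbove K ⊥) τ R)
    (H₁ : Subgroup L) [hH₁ : H₁.Normal] (hcomm : ⁅K, K⁆ ≤ H₁) (hH₁K : H₁ < K) :
    IsCoherent (inducedIrrAbove K H₁) {1}ᶜ τ := by
  have hsub : inducedIrrAbove K H₁ ⊆ inducedIrrAbove K ⊥ := fun φ h => mem_bot_of_mem K h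
  have htop : H₁.subgroupOf K ≠ ⊤ := fun h => (not_le_of_gt hH₁K) (Subgroup.subgroupOf_eq_top.mp h)
  obtain ⟨mu, hmu, hmu1, -, hmuB⟩ := exists_linear hsolv (H₁.subgroupOf K) htop
  have hne : (inducedIrrAbove K H₁).Nonempty :=
    ⟨indFun K mu, mu, hmu, hmu1, fun a ha => hmuB a (Subgroup.mem_subgroupOf.mpr ha), rfl⟩
  have hsys := subsystem hS hsub hne (fun χ hχ => conj_mem K hχ)
  refine Cfsg.Agent.S1517.result _ τ R hsys ?_
  have hdeg : ∀ φ ∈ inducedIrrAbove K H₁, φ 1 = (K.index : ℂ) := by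
    rintro φ ⟨θ, hθ, -, hker, rfl⟩
    rw [Cfsg.Agent.Lib.CT.FrobRec.indFun_one, linear_of_comm_le K H₁ hcomm hθ hker, mul_one]
  intro φ hφ ψ hψ
  rw [hdeg φ hφ, hdeg ψ hψ]

end Cfsg.Agent.Lib.Helper76.CohFrob
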