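import Mathlib
import Cfsg.Agent.Lib.Helper76.CohInd
import Cfsg.Agent.Lib.Helper76.CohFrob
import Cfsg.Agent.Lib.Helper80.Integrality
import Cfsg.Agent.S1492

/-!
# Characters induced from `K` that are nontrivial on a central subgroup `Z` (Peterfalvi (6.4))

* `sum_sq_ker_nat`, `deg_sq_le_index_central`, `charDegree_ind`: degree facts in `ℕ`.
* `ind_mem_diff_iff`: `Ind ψ ∈ S ∖ S(Z)` iff `ψ` is nontrivial on `Z`.
* `sum_fiber_nat`: `∑_{φ ∈ T} φ(1)² = [L:K] ∑_{Ind ψ ∈ T} ψ(1)²` for irreducible members.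
* `trivial_of_constituent`, `exists_constituent_ne`, `exists_irr_ne`: restriction to `K`.
-/

set_option autoImplicit false

namespace Cfsg.Agent.Lib.Helper76.CohZ

open Cfsg Cfsg.Agent.Lib.CT.Wedderburn Cfsg.Agent.Lib.CT.Orth
open Cfsg.Agent.Lib.Helper76.Coherence Cfsg.Agent.Lib.Helper76.CohInd
open scoped ComplexConjugate

universe u v

section General

variable {H : Type u} [Group H]

/-- `∑ ψ(1)²` over the irreducible characters with `N` in the kernel is `[H : N]` (in `ℕ`). -/
theorem sum_sq_ker_nat [Fintype H] (N : Subgroup H) [N.Normal] [Fintype (IrrCharacter H)]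
    [DecidablePred fun ψ : IrrCharacter H => ∀ u ∈ N, (ψ : H → ℂ) u = (ψ : H → ℂ) 1] :
    ∑ ψ ∈ Finset.univ.filter (fun ψ : IrrCharacter H => ∀ u ∈ N, (ψ : H → ℂ) u = (ψ : H → ℂ) 1),
      charDegree (ψ : H → ℂ) ^ 2 = N.index := by
  have h := sum_sq_ker N
  apply Nat.cast_injective (R := ℂ)
  rw [← h]
  push_cast
  exact Finset.sum_congr rfl fun ψ _ => by
    rw [char_natCast_charDegree (isCharacter_of_irr ψ.2)]

/-- The square of the degree of an irreducible character is at most the index of a central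
subgroup. -/
theorem deg_sq_le_index_central [Finite H] {θ : H → ℂ} (hθ : IsIrrCharacter H θ)
    (Zc : Subgroup H) (hZc : ∀ z ∈ Zc, ∀ h : H, z * h = h * z) :
    charDegree θ ^ 2 ≤ Zc.index := by
  have h := Cfsg.Agent.S1492.result θ hθ ⊥ ⊤ Zc bot_le le_top (by
      intro c _ b hb
      rw [Subgroup.mem_bot] at hb ⊢
      rw [hb]
      group) (by
      intro d hd c _
      rw [Subgroup.mem_bot, hZc d hd c]
      group) (by
      intro b hb
      rw [Subgroup.mem_bot] at hb
      rw [hb])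
  rw [← char_natCast_charDegree (isCharacter_of_irr hθ), Complex.norm_natCast,
    Subgroup.card_top] at h
  have h2 : Zc.index * Nat.card Zc = Nat.card H := Zc.index_mul_card
  have h3 : charDegree θ ^ 2 * Nat.card H * Nat.card Zc ≤ Nat.card H ^ 2 := by
    exact_mod_cast h
  have hH : 0 < Nat.card H := Nat.card_pos
  have hZ : 0 < Nat.card Zc := Nat.card_pos
  refine Nat.le_of_mul_le_mul_right (c := Nat.card H * Nat.card Zc) ?_ (Nat.mul_pos hH hZ)
  calc charDegree θ ^ 2 * (Nat.card H * Nat.card Zc)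
      = charDegree θ ^ 2 * Nat.card H * Nat.card Zc := by ring
    _ ≤ Nat.card H ^ 2 := h3
    _ = Zc.index * (Nat.card H * Nat.card Zc) := by
      rw [← h2]
      ring

/-- A non-identity element is not in the kernel of some irreducible character. -/
theorem exists_irr_ne [Finite H] {z : H} (hz : z ≠ 1) :
    ∃ ψ : H → ℂ, IsIrrCharacter H ψ ∧ ψ z ≠ ψ 1 := by
  classical
  have : Fintype H := Fintype.ofFinite H
  have : Finite (IrrCharacter H) := finite_irrCharacter _
  have : Fintype (IrrCharacter H) := Fintype.ofFinite _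
  by_contra hcon
  have hall : ∀ ψ : IrrCharacter H, (ψ : H → ℂ) z = (ψ : H → ℂ) 1 := by
    intro ψ
    by_contra h
    exact hcon ⟨ψ, ψ.2, h⟩
  have h1 := second_orthogonality_sum_of_not_isConj z 1 (by
    intro h
    exact hz (isConj_one_left.mp h))
  have h2 : ∑ χ : IrrCharacter H, (χ : H → ℂ) z * conj ((χ : H → ℂ) 1)
      = ∑ χ : IrrCharacter H, (χ : H → ℂ) 1 ^ 2 := by
    refine Finset.sum_congr rfl fun χ _ => ?_
    obtain ⟨n, hn⟩ := char_exists_apply_one (isCharacter_of_irr χ.2)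
    rw [hall χ, hn, Complex.conj_natCast]
    ring
  rw [h2, sum_apply_one_sq_sum] at h1
  exact (Nat.cast_ne_zero.mpr Nat.card_pos.ne') h1

end General

section Ind

variable {L : Type u} [Group L] [Fintype L] (K : Subgroup L)

theorem charDegree_ind {ψ : K → ℂ} (hψ : IsCharacter K ψ) :
    charDegree (indFun K ψ) = K.index * charDegree ψ := by
  apply charDegree_eq_of_apply_one
  rw [Cfsg.Agent.Lib.CT.FrobRec.indFun_one, ← char_natCast_charDegree hψ]
  push_cast
  rfl

/-- If a character `χ` of `L` has the central element `z` of `K` in its kernel, so does every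
irreducible constituent of its restriction to `K`. -/
theorem trivial_of_constituent [Fintype K] {χ : L → ℂ} (hχ : IsCharacter L χ) {θ : K → ℂ}
    (hθ : IsIrrCharacter K θ) (hne : classInner (fun k : K => χ k) θ ≠ 0) {z : K}
    (hzc : z ∈ Subgroup.center K) (hz : χ (z : L) = χ 1) : θ z = θ 1 := by
  have hn := Cfsg.Agent.Lib.CT.Kernel.norm_eq_of_mem_center hθ hzc
  obtain ⟨ω, h1, -, h3⟩ :=
    Cfsg.Agent.Lib.CT.Kernel.exists_scalar_of_norm_eq (isCharacter_of_irr hθ) hn
  have hsum : ∑ g : K, χ (g : L) * conj (θ g) = conj ω * ∑ g : K, χ (g : L) * conj (θ g) := by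
    have e : ∑ g : K, χ (g : L) * conj (θ g)
        = ∑ g : K, χ ((z * g : K) : L) * conj (θ (z * g)) :=
      (Equiv.sum_comp (Equiv.mulLeft z) (fun g : K => χ (g : L) * conj (θ g))).symm
    have e2 : ∀ g : K, χ ((z * g : K) : L) * conj (θ (z * g))
        = conj ω * (χ (g : L) * conj (θ g)) := by
      intro g
      rw [Subgroup.coe_mul, Cfsg.Agent.Lib.CT.Kernel.apply_mul_of_eq hχ hz, h1, map_mul]
      ring
    rw [Finset.mul_sum, ← Finset.sum_congr rfl fun g _ => e2 g]
    exact e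
  have key : classInner (fun k : K => χ k) θ = conj ω * classInner (fun k : K => χ k) θ := by
    unfold classInner
    rw [mul_left_comm, ← hsum]
  have hω : conj ω = 1 := by
    have h4 : (1 - conj ω) * classInner (fun k : K => χ k) θ = 0 := by
      rw [sub_mul, one_mul, ← key, sub_self]
    rcases mul_eq_zero.mp h4 with h | h
    · exact (sub_eq_zero.mp h).symm
    · exact absurd h hne
  have hω' : ω = 1 := by
    have := congrArg conj hω
    rwa [Complex.conj_conj, map_one] at this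
  rw [h3, hω', one_mul]

/-- If a class function `χ` of `L` is not trivial at `z ∈ K`, some irreducible constituent of
its restriction to `K` is not trivial at `z`. -/
theorem exists_constituent_ne [Fintype K] {χ : L → ℂ} (hχ : IsClassFunction L χ) {z : K}
    (hz : χ (z : L) ≠ χ 1) :
    ∃ ψ : K → ℂ, IsIrrCharacter K ψ ∧ classInner (fun k : K => χ k) ψ ≠ 0 ∧ ψ z ≠ ψ 1 := by
  classical
  have : Finite (IrrCharacter K) := finite_irrCharacter _
  have : Fintype (IrrCharacter K) := Fintype.ofFinite _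
  have hcl : IsClassFunction K (fun k : K => χ k) := by
    intro g h
    show χ ((h * g * h⁻¹ : K) : L) = χ g
    rw [Subgroup.coe_mul, Subgroup.coe_mul, Subgroup.coe_inv]
    exact hχ _ _
  by_contra hcon
  have hall : ∀ ψ : IrrCharacter K, classInner (fun k : K => χ k) (ψ : K → ℂ) * (ψ : K → ℂ) z
      = classInner (fun k : K => χ k) (ψ : K → ℂ) * (ψ : K → ℂ) 1 := by
    intro ψ
    by_cases h0 : classInner (fun k : K => χ k) (ψ : K → ℂ) = 0
    · rw [h0, zero_mul, zero_mul]
    · by_contra h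
      exact hcon ⟨ψ, ψ.2, h0, fun h' => h (by rw [h'])⟩
  have h1 := classFunction_expand_sum (fun k : K => χ k) hcl z
  have h2 := classFunction_expand_sum (fun k : K => χ k) hcl 1
  rw [Finset.sum_congr rfl fun ψ _ => hall ψ, ← h2] at h1
  exact hz h1

variable [hK : K.Normal] {G : Type v} [Group G] [Fintype G] {τ : (L → ℂ) → (G → ℂ)}
  {R : (L → ℂ) → Finset (G → ℂ)}

/-- `Ind ψ` lies in `S ∖ S(Z)` iff `ψ` is nontrivial on `Z`. -/
theorem ind_mem_diff_iff (hS : IsCoherenceSystem (inducedIrrAbove K ⊥) τ R) (Z : Subgroup L)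
    [Z.Normal] {ψ : K → ℂ} (hψ : IsIrrCharacter K ψ) :
    indFun K ψ ∈ inducedIrrAbove K ⊥ \ inducedIrrAbove K Z ↔
      ∃ a : K, (a : L) ∈ Z ∧ ψ a ≠ ψ 1 := by
  constructor
  · rintro ⟨hmem, hnot⟩
    by_contra hcon
    have hcon' : ∀ a : K, (a : L) ∈ Z → ψ a = ψ 1 := by
      intro a ha
      by_contra h
      exact hcon ⟨a, ha, h⟩
    obtain ⟨n, hn0, hn⟩ := exists_norm hS hmem
    have h1 := (fiber_subset K ⊥ hmem (by
      rw [hn]
      exact Nat.cast_ne_zero.mpr hn0) hψ rfl).1
    exact hnot ⟨ψ, hψ, h1, hcon', rfl⟩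
  · rintro ⟨a, haZ, ha⟩
    have h1 : ψ ≠ fun _ => 1 := by
      intro h
      apply ha
      rw [h]
    have hmem : indFun K ψ ∈ inducedIrrAbove K ⊥ := ⟨ψ, hψ, h1, fun a ha => by
      have : a = 1 := Subtype.ext (Subgroup.mem_bot.mp ha)
      rw [this], rfl⟩
    refine ⟨hmem, fun hZ => ?_⟩
    obtain ⟨n, hn0, hn⟩ := exists_norm hS hmem
    have h2 := (fiber_subset K Z hZ (by
      rw [hn]
      exact Nat.cast_ne_zero.mpr hn0) hψ rfl).2
    exact ha (h2 a haZ)

/-- `∑_{φ ∈ T} φ(1)² = [L:K] ∑_{Ind ψ ∈ T} ψ(1)²` when the members of `T` have norm `1`. -/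
theorem sum_fiber_nat (hS : IsCoherenceSystem (inducedIrrAbove K ⊥) τ R) (T : Finset (L → ℂ))
    (hT : ∀ φ ∈ T, φ ∈ inducedIrrAbove K ⊥) (hnorm : ∀ φ ∈ T, classInner φ φ = 1)
    [Fintype (IrrCharacter K)]
    [DecidablePred fun ψ : IrrCharacter K => indFun K (ψ : K → ℂ) ∈ T] :
    ∑ φ ∈ T, charDegree φ ^ 2 = K.index * ∑ ψ ∈ Finset.univ.filter
      (fun ψ : IrrCharacter K => indFun K (ψ : K → ℂ) ∈ T), charDegree (ψ : K → ℂ) ^ 2 := by
  classical
  have : Fintype K := Fintype.ofFinite K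
  apply Nat.cast_injective (R := ℂ)
  push_cast
  rw [← Finset.sum_fiberwise_of_maps_to
    (g := fun ψ : IrrCharacter K => indFun K (ψ : K → ℂ)) (t := T)
    (fun ψ hψ => (Finset.mem_filter.mp hψ).2), Finset.mul_sum]
  refine Finset.sum_congr rfl fun φ hφ => ?_
  have hfib : (Finset.univ.filter (fun ψ : IrrCharacter K => indFun K (ψ : K → ℂ) ∈ T)).filter
      (fun ψ : IrrCharacter K => indFun K (ψ : K → ℂ) = φ)
      = Finset.univ.filter (fun ψ : IrrCharacter K => indFun K (ψ : K → ℂ) = φ) := by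
    ext ψ
    simp only [Finset.mem_filter, Finset.mem_univ, true_and]
    exact ⟨fun h => h.2, fun h => ⟨h ▸ hφ, h⟩⟩
  rw [hfib]
  have h1 := index_mul_sum_sq K hS (hT φ hφ) (n := 1) (d := charDegree φ) (by
    rw [hnorm φ hφ]
    norm_num) one_ne_zero (char_natCast_charDegree (hS.isCharacter φ (hT φ hφ))).symm
  rw [Nat.cast_one, div_one] at h1
  rw [← h1]
  congr 1
  exact Finset.sum_congr rfl fun ψ _ => by
    rw [char_natCast_charDegree (isCharacter_of_irr ψ.2)]

end Ind

end Cfsg.Agent.Lib.Helper76.CohZ
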