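import Cfsg.Agent.S1536
import Cfsg.Agent.S0161
import Cfsg.Agent.S1514
import Cfsg.Agent.Lib.Helper25.CliffordCorr
import Cfsg.Agent.Lib.Helper25.TIInd
import Cfsg.Agent.Lib.Helper76.CohZ
import Cfsg.Agent.Lib.CT.IndChar
import Mathlib

/-!
Frobenius-type normal subgroups `K ⊴ L` (every non-identity element of `K` has its centraliser
inside `K`) and induction from a TI situation.

* `comm_inj`, `frob_quot`: the Frobenius property passes to quotients `K / M`.
* `odd_card`: if moreover `|K|` is odd and `K` is not abelian then `|L|` is odd.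
* `ind_irr`: the characters induced from non-principal irreducible characters of `K` are
  irreducible (when `K` is a Hall subgroup).
* `conj_ne`: in a group of odd order an irreducible character vanishing off a proper subgroup
  is not real.
* `zspan_props`, `ind_genChar`, `genChar_classFunction`.
* `exists_system`: the characters of `N` induced from `K` form a coherence system for the
  induction map to `G` when `K \ {1}` is (contained in) a TI set with Dade hypothesis.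
-/

set_option autoImplicit false

namespace Cfsg.Agent.Lib.Helper76.FrobTI

open Cfsg Cfsg.Agent.Lib.Helper26.GenChar Cfsg.Agent.Lib.CT.Orth Cfsg.Agent.Lib.CT.Wedderburn
open Cfsg.Agent.Lib.CT.FrobRec
open Cfsg.Agent.Lib.Helper76.Coherence

universe u v

section Frob

variable {L : Type u} [Group L] (K : Subgroup L)

theorem comm_inj (hF : ∀ k ∈ K, k ≠ 1 → ∀ x : L, x * k = k * x → x ∈ K) {x : L} (hx : x ∉ K)
    {y y' : L} (hy : y ∈ K) (hy' : y' ∈ K)
    (h : x * y * x⁻¹ * y⁻¹ = x * y' * x⁻¹ * y'⁻¹) : y = y' := by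
  by_contra hne
  have hk1 : y'⁻¹ * y ≠ 1 := fun h1 => hne (inv_mul_eq_one.mp h1).symm
  have h2 : y'⁻¹ * y * x⁻¹ = x⁻¹ * (y'⁻¹ * y) := by
    calc y'⁻¹ * y * x⁻¹ = y'⁻¹ * (x⁻¹ * (x * y * x⁻¹ * y⁻¹)) * y := by group
      _ = y'⁻¹ * (x⁻¹ * (x * y' * x⁻¹ * y'⁻¹)) * y := by rw [h]
      _ = x⁻¹ * (y'⁻¹ * y) := by group
  have e : x * (y'⁻¹ * y) = (y'⁻¹ * y) * x := by
    calc x * (y'⁻¹ * y) = x * (y'⁻¹ * y * x⁻¹) * x := by group
      _ = x * (x⁻¹ * (y'⁻¹ * y)) * x := by rw [h2]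
      _ = (y'⁻¹ * y) * x := by group
  exact hx (hF _ (K.mul_mem (K.inv_mem hy') hy) hk1 x e)

theorem frob_quot [Finite L] (M : Subgroup L) [hM : M.Normal] (hMK : M ≤ K)
    (hF : ∀ k ∈ K, k ≠ 1 → ∀ x : L, x * k = k * x → x ∈ K) :
    ∀ k ∈ K, k ∉ M → ∀ x : L, x * k * x⁻¹ * k⁻¹ ∈ M → x ∈ K := by
  intro k hk hkM x hxk
  by_contra hx
  let f : M → M := fun m =>
    ⟨x * m * x⁻¹ * (m : L)⁻¹, M.mul_mem (hM.conj_mem m m.2 x) (M.inv_mem m.2)⟩
  have hinj : Function.Injective f := by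
    intro a b hab
    have := congrArg Subtype.val hab
    exact Subtype.ext (comm_inj K hF hx (hMK a.2) (hMK b.2) this)
  have hsurj := Finite.surjective_of_injective hinj
  obtain ⟨m, hm⟩ := hsurj ⟨_, hxk⟩
  have := congrArg Subtype.val hm
  have e := comm_inj K hF hx (hMK m.2) hk this
  exact hkM (e ▸ m.2)

theorem odd_card [Finite L] [hK : K.Normal]
    (hF : ∀ k ∈ K, k ≠ 1 → ∀ x : L, x * k = k * x → x ∈ K)
    (hodd : Odd (Nat.card K)) (hna : ¬ ∀ a ∈ K, ∀ b ∈ K, a * b = b * a) : Odd (Nat.card L) := by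
  by_contra hcon
  rw [Nat.not_odd_iff_even] at hcon
  have h2 : 2 ∣ Nat.card L := hcon.two_dvd
  have : Fact (Nat.Prime 2) := ⟨Nat.prime_two⟩
  obtain ⟨t, ht⟩ := exists_prime_orderOf_dvd_card' 2 h2
  have htK : t ∉ K := by
    intro htK
    have h3 : orderOf (⟨t, htK⟩ : K) ∣ Nat.card K := orderOf_dvd_natCard _
    rw [Subgroup.orderOf_mk, ht] at h3
    exact (Nat.not_even_iff_odd.mpr hodd) (even_iff_two_dvd.mpr h3)
  have htt : t * t = 1 := by
    have := pow_orderOf_eq_one t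
    rw [ht, pow_two] at this
    exact this
  have hti : t⁻¹ = t := inv_eq_of_mul_eq_one_left htt
  have hfpf : MonoidHom.FixedPointFree (MulAut.conjNormal t : MulAut K) := by
    intro k hk
    by_contra hk1
    have h4 : t * (k : L) * t⁻¹ = k := by
      have := congrArg Subtype.val hk
      rwa [MulAut.conjNormal_apply] at this
    apply htK
    apply hF k k.2 (fun h => hk1 (Subtype.ext h)) t
    calc t * k = t * k * t⁻¹ * t := by group
      _ = k * t := by rw [h4]
  have hinv : Function.Involutive (MulAut.conjNormal t : MulAut K) := by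
    intro k
    apply Subtype.ext
    rw [MulAut.conjNormal_apply, MulAut.conjNormal_apply, hti]
    calc t * (t * (k : L) * t) * t = (t * t) * k * (t * t) := by group
      _ = k := by rw [htt]; group
  apply hna
  intro a ha b hb
  have := hfpf.commute_all_of_involutive hinv ⟨a, ha⟩ ⟨b, hb⟩
  exact congrArg Subtype.val this.eq

end Frob

section Irr

variable {L : Type u} [Group L] [Fintype L] (K : Subgroup L) [hK : K.Normal]

theorem ind_irr (hcop : Nat.Coprime (Nat.card K) K.index)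
    (hF : ∀ k ∈ K, k ≠ 1 → ∀ x : L, x * k = k * x → x ∈ K)
    {θ : K → ℂ} (hθ : IsIrrCharacter K θ) (h1 : θ ≠ fun _ => 1) :
    IsIrrCharacter L (indFun K θ) := by
  classical
  have hT : ∀ g : L, g ∈ K ↔ ∀ h : K, θ ⟨g * h * g⁻¹, hK.conj_mem h h.2 g⟩ = θ h := by
    intro g
    constructor
    · intro hg h
      have hc := char_isClassFunction (isCharacter_of_irr hθ)
      exact hc h ⟨g, hg⟩
    · intro hinv
      obtain ⟨h, hh, hh1, hcomm⟩ :=
        (Cfsg.Agent.S1536.result K hcop g).mp ⟨θ, hθ, h1, funext hinv⟩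
      exact hF h hh hh1 g hcomm
  have h2 := (Cfsg.Agent.Lib.Helper25.CliffordCorr.ind_irr_inj K K le_rfl θ hθ hT).1 θ hθ
  apply h2
  have h3 := irr_orthonormal (⟨θ, hθ⟩ : IrrCharacter K) ⟨θ, hθ⟩
  rw [if_pos rfl] at h3
  show classInner θ θ ≠ 0
  rw [h3]
  exact one_ne_zero

omit hK in
theorem conj_ne (hKL : K < ⊤) (hodd : Odd (Nat.card L)) {χ : L → ℂ}
    (hχ : IsIrrCharacter L χ) (hχ0 : ∀ x, x ∉ K → χ x = 0) : Cfsg.conjFun χ ≠ χ := by
  intro h
  have hreal : ∀ g : L, (χ g).im = 0 := by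
    intro g
    have := congrFun h g
    exact Complex.conj_eq_iff_im.mp this
  have h1 := Cfsg.Agent.S0161.result hodd ⟨χ, hχ⟩ hreal
  obtain ⟨x, -, hx⟩ := SetLike.exists_of_lt hKL
  have h2 := congrFun h1 x
  simp only at h2
  rw [hχ0 x hx] at h2
  exact zero_ne_one h2

theorem zspan_props {α : L → ℂ} (hα : α ∈ zspan (inducedIrrAbove K ⊥)) :
    IsGeneralizedCharacter L α ∧ ∀ x, x ∉ K → α x = 0 := by
  refine Submodule.span_induction
    (p := fun α _ => IsGeneralizedCharacter L α ∧ ∀ x, x ∉ K → α x = 0) ?_ ?_ ?_ ?_ hα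
  · rintro φ ⟨θ, hθ, -, -, rfl⟩
    exact ⟨⟨_, 0, Cfsg.Agent.Lib.CT.IndChar.isCharacter_indFun K θ (isCharacter_of_irr hθ),
      Cfsg.Agent.Lib.CT.Ops.isCharacter_zero, by simp⟩,
      fun x hx => indFun_eq_zero_of_normal K θ x hx⟩
  · exact ⟨isGeneralizedCharacter_zero, fun _ _ => rfl⟩
  · rintro a b - - ⟨ha, ha0⟩ ⟨hb, hb0⟩
    exact ⟨isGeneralizedCharacter_add ha hb,
      fun x hx => by rw [Pi.add_apply, ha0 x hx, hb0 x hx, add_zero]⟩
  · rintro n a - ⟨ha, ha0⟩
    exact ⟨isGeneralizedCharacter_zsmul ha n,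
      fun x hx => by rw [Pi.smul_apply, ha0 x hx, smul_zero]⟩

end Irr

theorem genChar_classFunction {L : Type u} [Group L] {α : L → ℂ}
    (hα : IsGeneralizedCharacter L α) : IsClassFunction L α := by
  obtain ⟨a, b, ha, hb, rfl⟩ := hα
  exact isClassFunction_sub (char_isClassFunction ha) (char_isClassFunction hb)

theorem ind_genChar {L : Type u} [Group L] [Fintype L] (K : Subgroup L) {α : K → ℂ}
    (hα : IsGeneralizedCharacter K α) : IsGeneralizedCharacter L (indFun K α) := by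
  obtain ⟨a, b, ha, hb, rfl⟩ := hα
  exact ⟨_, _, Cfsg.Agent.Lib.CT.IndChar.isCharacter_indFun K a ha,
    Cfsg.Agent.Lib.CT.IndChar.isCharacter_indFun K b hb, indFun_sub K a b⟩

section System

variable {G : Type u} [Group G] [Fintype G] (N : Subgroup G) [Fintype N] (K : Subgroup N)
  [hK : K.Normal]

theorem exists_system (A : Set G) (hD : DadeHypothesis A N (fun _ => (⊥ : Subgroup G)))
    (hA : ∀ x : N, (x : G) ∉ A → x ∉ K ∨ x = 1)
    (hcop : Nat.Coprime (Nat.card K) K.index)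
    (hF : ∀ k ∈ K, k ≠ 1 → ∀ x : N, x * k = k * x → x ∈ K)
    (hK1 : K ≠ ⊥) (hKL : K < ⊤) (hodd : Odd (Nat.card N)) :
    ∃ R : (N → ℂ) → Finset (G → ℂ),
      IsCoherenceSystem (inducedIrrAbove K ⊥) (fun α => indFun N α) R := by
  classical
  have hirr : ∀ χ ∈ inducedIrrAbove K ⊥, IsIrrCharacter N χ := by
    rintro χ ⟨θ, hθ, h1, -, rfl⟩
    exact ind_irr K hcop hF hθ h1
  have hne : (inducedIrrAbove K ⊥).Nonempty := by
    obtain ⟨k, hk, hk1⟩ : ∃ k ∈ K, k ≠ 1 := by
      by_contra hcon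
      apply hK1
      rw [Subgroup.eq_bot_iff_forall]
      intro k hk
      by_contra hk1
      exact hcon ⟨k, hk, hk1⟩
    obtain ⟨ψ, hψ, hψk⟩ := Cfsg.Agent.Lib.Helper76.CohZ.exists_irr_ne (H := K) (z := ⟨k, hk⟩)
      (fun h => hk1 (congrArg Subtype.val h))
    refine ⟨indFun K ψ, ψ, hψ, ?_, ?_, rfl⟩
    · intro h
      apply hψk
      rw [h]
    · intro a ha
      have : a = 1 := Subtype.ext (Subgroup.mem_bot.mp ha)
      rw [this]
  have hconj : ∀ χ ∈ inducedIrrAbove K ⊥,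
      Cfsg.conjFun χ ∈ inducedIrrAbove K ⊥ ∧ Cfsg.conjFun χ ≠ χ := by
    intro χ hχ
    refine ⟨Cfsg.Agent.Lib.Helper76.CohInd.conj_mem K hχ, conj_ne K hKL hodd (hirr χ hχ) ?_⟩
    obtain ⟨θ, -, -, -, rfl⟩ := hχ
    exact fun x hx => indFun_eq_zero_of_normal K θ x hx
  have hprops : ∀ α ∈ zspanOn (inducedIrrAbove K ⊥) {1}ᶜ,
      IsGeneralizedCharacter N α ∧ ∀ x : N, (x : G) ∉ A → α x = 0 := by
    intro α hα
    obtain ⟨hg, h0⟩ := zspan_props K hα.1
    refine ⟨hg, fun x hx => ?_⟩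
    rcases hA x hx with h | h
    · exact h0 x h
    · rw [h]
      exact hα.2 1 (by simp)
  have hτ : IsLinearIsometryOn (zspanOn (inducedIrrAbove K ⊥) {1}ᶜ)
      (fun α : N → ℂ => indFun N α) := by
    refine ⟨fun α _ β _ => indFun_add N α β, fun α _ n => ?_, fun α hα β hβ => ?_,
      fun α hα => ind_genChar N (hprops α hα).1⟩
    · show indFun N (n • α) = n • indFun N α
      rw [← Int.cast_smul_eq_zsmul ℂ n α, indFun_smul, Int.cast_smul_eq_zsmul]
    · exact Cfsg.Agent.Lib.Helper25.TIInd.ind_isometry A N hD α β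
        (genChar_classFunction (hprops α hα).1) (hprops α hα).2
        (genChar_classFunction (hprops β hβ).1) (hprops β hβ).2
  have hτ1 : ∀ α ∈ zspanOn (inducedIrrAbove K ⊥) {1}ᶜ, indFun N α 1 = 0 := by
    intro α hα
    rw [indFun_one, hα.2 1 (by simp), mul_zero]
  exact Cfsg.Agent.S1514.result _ hne hirr hconj _ hτ hτ1

end System

end Cfsg.Agent.Lib.Helper76.FrobTI
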