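import Mathlib
import Cfsg.Agent.S1520

/-!
# Group-theoretic lemmas for Peterfalvi (6.3)

* `conj_class_card`, `card_normal_sub_one_dvd`: if the centraliser of every non-identity element
  of a normal subgroup `N'` is `K'`, then `[Q : K']` divides `|N'| - 1`.
* `frob_dvd`: the same for sections `N / H₁` of a group `L` with `L / H₁` Frobenius-like.
* `lcs_le_of_nilpotent`: nilpotency of `H / M` in terms of the lower central series of `H`.
* `frattini_step`: if `K / M` is nilpotent, `M ≤ P ≤ K` and `K = P K'` then `K = P`.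
* `comm_le_of_prime_index`: if `K / M` is nilpotent and `[K : K' M]` is prime then `K' ≤ M`.
-/

set_option autoImplicit false

namespace Cfsg.Agent.Lib.Helper76.NilFrob

open scoped commutatorElement

theorem conj_class_card {Q : Type*} [Group Q] [Fintype Q] [DecidableEq Q] (K' : Subgroup Q)
    (y : Q) (h : ∀ q : Q, q * y * q⁻¹ = y ↔ q ∈ K') [DecidablePred fun a : Q => IsConj y a]
    [DecidablePred fun a : Q => a ∈ K'] :
    (Finset.univ.filter (fun a : Q => IsConj y a)).card = K'.index := by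
  have hmaps : ((Finset.univ : Finset Q) : Set Q).MapsTo (fun q : Q => q * y * q⁻¹)
      (Finset.univ.filter (fun a : Q => IsConj y a)) := by
    intro q _
    rw [Finset.mem_coe, Finset.mem_filter]
    exact ⟨Finset.mem_univ _, isConj_iff.mpr ⟨q, rfl⟩⟩
  have h1 := Finset.card_eq_sum_card_fiberwise hmaps
  have h2 : ∀ b ∈ Finset.univ.filter (fun a : Q => IsConj y a),
      (Finset.univ.filter (fun a : Q => a * y * a⁻¹ = b)).card = Nat.card K' := by
    intro b hb
    obtain ⟨q₀, hq₀⟩ := isConj_iff.mp (Finset.mem_filter.mp hb).2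
    have e : Finset.univ.filter (fun a : Q => a * y * a⁻¹ = b)
        = (Finset.univ.filter (fun a : Q => a ∈ K')).image (fun k => q₀ * k) := by
      ext a
      simp only [Finset.mem_filter, Finset.mem_univ, true_and, Finset.mem_image]
      constructor
      · intro ha
        refine ⟨q₀⁻¹ * a, (h _).mp ?_, by group⟩
        have : q₀⁻¹ * a * y * (q₀⁻¹ * a)⁻¹ = q₀⁻¹ * (a * y * a⁻¹) * q₀ := by group
        rw [this, ha, ← hq₀]
        group
      · rintro ⟨k, hk, rfl⟩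
        have : q₀ * k * y * (q₀ * k)⁻¹ = q₀ * (k * y * k⁻¹) * q₀⁻¹ := by group
        rw [this, (h k).mpr hk, hq₀]
    rw [e, Finset.card_image_of_injective _ (mul_right_injective q₀), Nat.card_eq_fintype_card,
      Fintype.card_subtype]
  rw [Finset.sum_congr rfl h2, Finset.sum_const, smul_eq_mul, Finset.card_univ] at h1
  have h3 := K'.index_mul_card
  rw [Nat.card_eq_fintype_card (α := Q), h1] at h3
  have hpos : 0 < Nat.card K' := Nat.card_pos
  exact (Nat.eq_of_mul_eq_mul_right hpos h3).symm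

theorem card_normal_sub_one_dvd {Q : Type*} [Group Q] [Finite Q] (K' N' : Subgroup Q)
    [hN : N'.Normal] (h : ∀ y ∈ N', y ≠ 1 → ∀ q : Q, q * y * q⁻¹ = y ↔ q ∈ K') :
    K'.index ∣ Nat.card N' - 1 := by
  classical
  have : Fintype Q := Fintype.ofFinite Q
  obtain ⟨X, hX⟩ : ∃ X : Finset Q, X = Finset.univ.filter (fun y => y ∈ N' ∧ y ≠ 1) := ⟨_, rfl⟩
  have hXcard : X.card = Nat.card N' - 1 := by
    have h1 : X = (Finset.univ.filter (fun y => y ∈ N')).erase 1 := by
      ext y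
      simp [hX, and_comm]
    rw [h1, Finset.card_erase_of_mem (by simp [N'.one_mem]), Nat.card_eq_fintype_card,
      Fintype.card_subtype]
  rw [← hXcard, Finset.card_eq_sum_card_image (fun y => ConjClasses.mk y) X]
  apply Finset.dvd_sum
  intro c hc
  obtain ⟨y, hy, rfl⟩ := Finset.mem_image.mp hc
  have hy' : y ∈ N' ∧ y ≠ 1 := by
    rw [hX] at hy
    exact (Finset.mem_filter.mp hy).2
  have e : X.filter (fun a => ConjClasses.mk a = ConjClasses.mk y)
      = Finset.univ.filter (fun a => IsConj y a) := by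
    ext a
    simp only [Finset.mem_filter, Finset.mem_univ, true_and, hX,
      ConjClasses.mk_eq_mk_iff_isConj]
    constructor
    · rintro ⟨-, h1⟩
      exact h1.symm
    · intro h1
      obtain ⟨c, hc⟩ := isConj_iff.mp h1
      refine ⟨⟨?_, ?_⟩, h1.symm⟩
      · rw [← hc]
        exact hN.conj_mem y hy'.1 c
      · rintro rfl
        apply hy'.2
        have : y = c⁻¹ * (c * y * c⁻¹) * c := by group
        rw [this, hc]
        group
  rw [e, conj_class_card K' y (h y hy'.1 hy'.2)]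

/-- If `L / H₁` is Frobenius-like with abelian kernel `K / H₁` and `H₁ ≤ N ≤ K` with `N` normal,
then `[L : K]` divides `[N : H₁] - 1`. -/
theorem frob_dvd {L : Type*} [Group L] [Finite L] (K H₁ N : Subgroup L) [hH₁ : H₁.Normal]
    [hN : N.Normal] (hH₁K : H₁ ≤ K) (hNK : N ≤ K) (hcomm : ⁅K, K⁆ ≤ H₁)
    (hfrob : ∀ k ∈ K, k ∉ H₁ → ∀ x : L, x * k * x⁻¹ * k⁻¹ ∈ H₁ → x ∈ K) :
    K.index ∣ H₁.relIndex N - 1 := by
  have hsurj := QuotientGroup.mk'_surjective H₁
  have : (N.map (QuotientGroup.mk' H₁)).Normal := hN.map _ hsurj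
  have key : ∀ y ∈ N.map (QuotientGroup.mk' H₁), y ≠ 1 → ∀ q : L ⧸ H₁,
      q * y * q⁻¹ = y ↔ q ∈ K.map (QuotientGroup.mk' H₁) := by
    rintro y ⟨k, hk, rfl⟩ hy q
    have hkH : k ∉ H₁ := fun hk' => hy ((QuotientGroup.eq_one_iff k).mpr hk')
    constructor
    · obtain ⟨x, rfl⟩ := hsurj q
      intro hq
      refine ⟨x, hfrob k (hNK hk) hkH x ?_, rfl⟩
      have h1 : ((x * k * x⁻¹ * k⁻¹ : L) : L ⧸ H₁) = 1 := by
        have : ((x * k * x⁻¹ * k⁻¹ : L) : L ⧸ H₁)
            = (QuotientGroup.mk' H₁ x) * (QuotientGroup.mk' H₁ k) * (QuotientGroup.mk' H₁ x)⁻¹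
              * (QuotientGroup.mk' H₁ k)⁻¹ := rfl
        rw [this, hq, mul_inv_cancel]
      exact (QuotientGroup.eq_one_iff _).mp h1
    · rintro ⟨x, hx, rfl⟩
      have h1 : x * k * x⁻¹ * k⁻¹ ∈ H₁ := by
        apply hcomm
        have := Subgroup.commutator_mem_commutator hx (hNK hk)
        rwa [commutatorElement_def] at this
      have h2 : ((x * k * x⁻¹ * k⁻¹ : L) : L ⧸ H₁) = 1 := (QuotientGroup.eq_one_iff _).mpr h1
      have h3 : ((x * k * x⁻¹ * k⁻¹ : L) : L ⧸ H₁)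
          = (QuotientGroup.mk' H₁ x) * (QuotientGroup.mk' H₁ k) * (QuotientGroup.mk' H₁ x)⁻¹
            * (QuotientGroup.mk' H₁ k)⁻¹ := rfl
      rw [h3] at h2
      exact mul_inv_eq_one.mp h2
  have h1 := card_normal_sub_one_dvd _ _ key
  have hker : (QuotientGroup.mk' H₁).ker = H₁ := QuotientGroup.ker_mk' H₁
  rw [Subgroup.index_map_eq _ hsurj (by rw [hker]; exact hH₁K)] at h1
  have h2 : Nat.card (N.map (QuotientGroup.mk' H₁)) = H₁.relIndex N := by
    rw [← Subgroup.relIndex_bot_left, ← Subgroup.relIndex_comap, MonoidHom.comap_bot, hker]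
  rwa [h2] at h1

/-- Nilpotency of `H / M` in terms of the lower central series of `H`. -/
theorem lcs_le_of_nilpotent {L : Type*} [Group L] (M H : Subgroup L) [(M.subgroupOf H).Normal]
    (hnil : Group.IsNilpotent (↥H ⧸ M.subgroupOf H)) : ∃ n, H.lowerCentralSeries n ≤ M := by
  obtain ⟨n, hn⟩ := Subgroup.nilpotent_iff_lowerCentralSeries.mp hnil
  refine ⟨n, ?_⟩
  have h1 : ((⊤ : Subgroup H).lowerCentralSeries n).map (QuotientGroup.mk' (M.subgroupOf H))
      = ⊥ := by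
    rw [Subgroup.map_lowerCentralSeries,
      Subgroup.map_top_of_surjective _ (QuotientGroup.mk'_surjective _), hn]
  have h2 : (⊤ : Subgroup H).lowerCentralSeries n ≤ M.subgroupOf H := by
    rw [← QuotientGroup.ker_mk' (M.subgroupOf H)]
    exact (Subgroup.map_eq_bot_iff _).mp h1
  rw [← Subgroup.top_subtype_lowerCentralSeries]
  intro x hx
  obtain ⟨y, hy, rfl⟩ := hx
  exact Subgroup.mem_subgroupOf.mp (h2 hy)

/-- A Frattini-type argument: if `K / M` is nilpotent, `M ≤ P ≤ K` and `K = P K'`, then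
`K = P`. -/
theorem frattini_step {L : Type*} [Group L] (K M P : Subgroup L) [hK : K.Normal]
    (hMP : M ≤ P) (hPK : P ≤ K) (hgen : K ≤ P ⊔ ⁅K, K⁆) {n : ℕ}
    (hn : K.lowerCentralSeries n ≤ M) : K ≤ P := by
  have key : ∀ i, K ≤ P ⊔ K.lowerCentralSeries (i + 1) := by
    intro i
    induction i with
    | zero => exact hgen
    | succ i ih =>
      refine hgen.trans (sup_le le_sup_left ?_)
      rw [Subgroup.commutator_le]
      intro a ha b hb
      have ha' := ih ha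
      have hb' := ih hb
      rw [← SetLike.mem_coe, Subgroup.mul_normal] at ha' hb'
      obtain ⟨u, hu, c, hc, rfl⟩ := ha'
      obtain ⟨v, hv, c', hc', rfl⟩ := hb'
      have hnorm : (K.lowerCentralSeries (i + 1 + 1)).Normal := inferInstance
      have e : ⁅u * c, v * c'⁆ = u * ⁅c, v * c'⁆ * u⁻¹ * ⁅u, v⁆ * (v * ⁅c', u⁆⁻¹ * v⁻¹) := by
        simp only [commutatorElement_def]
        group
      rw [e]
      have h1 : ⁅c, v * c'⁆ ∈ K.lowerCentralSeries (i + 1 + 1) :=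
        Subgroup.commutator_mem_commutator hc hb
      have h2 : ⁅c', u⁆ ∈ K.lowerCentralSeries (i + 1 + 1) :=
        Subgroup.commutator_mem_commutator hc' (hPK hu)
      have h3 : ⁅u, v⁆ ∈ P := by
        rw [commutatorElement_def]
        exact P.mul_mem (P.mul_mem (P.mul_mem hu hv) (P.inv_mem hu)) (P.inv_mem hv)
      refine Subgroup.mul_mem _ (Subgroup.mul_mem _ ?_ (Subgroup.mem_sup_left h3)) ?_
      · exact Subgroup.mem_sup_right (hnorm.conj_mem _ h1 u)
      · exact Subgroup.mem_sup_right (hnorm.conj_mem _ (Subgroup.inv_mem _ h2) v)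
  rcases n with _ | n
  · rw [Subgroup.lowerCentralSeries_zero] at hn
    exact hn.trans hMP
  · exact (key n).trans (sup_le le_rfl (hn.trans hMP))

/-- If `K / M` is nilpotent and `[K : K' M]` is a prime, then `K / M` is abelian. -/
theorem comm_le_of_prime_index {L : Type*} [Group L] (K M : Subgroup L) [hK : K.Normal]
    [hM : M.Normal] (hMK : M ≤ K) {n : ℕ} (hn : K.lowerCentralSeries n ≤ M)
    (hp : ((⁅K, K⁆ ⊔ M).relIndex K).Prime) : ⁅K, K⁆ ≤ M := by
  have hcK : ⁅K, K⁆ ≤ K := Subgroup.commutator_le_right K K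
  have hH₁K : ⁅K, K⁆ ⊔ M ≤ K := sup_le hcK hMK
  have hne : ¬ K ≤ ⁅K, K⁆ ⊔ M := fun h => hp.ne_one (Subgroup.relIndex_eq_one.mpr h)
  obtain ⟨x, hxK, hx⟩ := SetLike.not_le_iff_exists.mp hne
  have hPK : Subgroup.zpowers x ⊔ M ≤ K := sup_le ((Subgroup.zpowers_le).mpr hxK) hMK
  have hgen : K ≤ (Subgroup.zpowers x ⊔ M) ⊔ ⁅K, K⁆ := by
    have hJK : Subgroup.zpowers x ⊔ (⁅K, K⁆ ⊔ M) ≤ K :=
      sup_le ((Subgroup.zpowers_le).mpr hxK) hH₁K
    have h1 := Subgroup.relIndex_mul_relIndex (⁅K, K⁆ ⊔ M)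
      (Subgroup.zpowers x ⊔ (⁅K, K⁆ ⊔ M)) K le_sup_right hJK
    have h2 : (⁅K, K⁆ ⊔ M).relIndex (Subgroup.zpowers x ⊔ (⁅K, K⁆ ⊔ M)) ≠ 1 := by
      intro h
      exact hx (Subgroup.relIndex_eq_one.mp h (Subgroup.mem_sup_left (Subgroup.mem_zpowers x)))
    have h3 : (⁅K, K⁆ ⊔ M).relIndex (Subgroup.zpowers x ⊔ (⁅K, K⁆ ⊔ M))
        = (⁅K, K⁆ ⊔ M).relIndex K :=
      (hp.eq_one_or_self_of_dvd _ (Dvd.intro _ h1)).resolve_left h2
    rw [h3] at h1
    have h4 : (Subgroup.zpowers x ⊔ (⁅K, K⁆ ⊔ M)).relIndex K = 1 := by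
      have := hp.pos
      exact Nat.eq_of_mul_eq_mul_left this (by rw [h1, mul_one])
    refine (Subgroup.relIndex_eq_one.mp h4).trans (sup_le ?_ (sup_le le_sup_right ?_))
    · exact le_sup_left.trans le_sup_left
    · exact le_sup_right.trans le_sup_left
  have hKP : K ≤ Subgroup.zpowers x ⊔ M := frattini_step K M _ le_sup_right hPK hgen hn
  obtain ⟨Z, hZ⟩ := Cfsg.Agent.S1520.exists_centMod (Subgroup.zpowers x) M
  have hmemM : ∀ (H : Subgroup L) (m : L), m ∈ M → ∀ y ∈ H, m * y * m⁻¹ * y⁻¹ ∈ M := by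
    intro H m hm y _
    have e : m * y * m⁻¹ * y⁻¹ = m * (y * m⁻¹ * y⁻¹) := by group
    rw [e]
    exact M.mul_mem hm (hM.conj_mem _ (M.inv_mem hm) y)
  have hPZ : Subgroup.zpowers x ⊔ M ≤ Z := by
    refine sup_le ((Subgroup.zpowers_le).mpr ?_) fun m hm => (hZ m).mpr (hmemM _ m hm)
    rw [hZ]
    intro y hy
    obtain ⟨j, rfl⟩ := Subgroup.mem_zpowers_iff.mp hy
    have : x * x ^ j * x⁻¹ * (x ^ j)⁻¹ = 1 := by group
    rw [this]
    exact M.one_mem
  obtain ⟨Z₂, hZ₂⟩ := Cfsg.Agent.S1520.exists_centMod K M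
  have hPZ₂ : Subgroup.zpowers x ⊔ M ≤ Z₂ := by
    refine sup_le ((Subgroup.zpowers_le).mpr ?_) fun m hm => (hZ₂ m).mpr (hmemM _ m hm)
    rw [hZ₂]
    intro a ha
    have h1 := (hZ a).mp (hPZ (hKP ha)) x (Subgroup.mem_zpowers x)
    have e : x * a * x⁻¹ * a⁻¹ = (a * x * a⁻¹ * x⁻¹)⁻¹ := by group
    rw [e]
    exact M.inv_mem h1
  rw [Subgroup.commutator_le]
  intro a ha b hb
  rw [commutatorElement_def]
  exact (hZ₂ a).mp (hPZ₂ (hKP ha)) b hb

/-- If `K / M` is nilpotent and `[K : K' M]` is a power of `p`, then so is `[K : M]`. -/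
theorem prime_pow_of_abelianization {L : Type*} [Group L] [Finite L] (K M : Subgroup L)
    [hK : K.Normal] [hM : M.Normal] (hMK : M ≤ K) {n : ℕ} (hn : K.lowerCentralSeries n ≤ M)
    {p j : ℕ} (hp : p.Prime) (hj : (⁅K, K⁆ ⊔ M).relIndex K = p ^ j) :
    ∃ m, M.relIndex K = p ^ m := by
  have : Fact p.Prime := ⟨hp⟩
  obtain ⟨S⟩ : Nonempty (Sylow p ↥K) := inferInstance
  have hcK : ⁅K, K⁆ ≤ K := Subgroup.commutator_le_right K K
  have hH₁K : ⁅K, K⁆ ⊔ M ≤ K := sup_le hcK hMK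
  have hS'K : (S : Subgroup ↥K).map K.subtype ≤ K := by
    rintro _ ⟨y, -, rfl⟩
    exact y.2
  have hS'idx : ((S : Subgroup ↥K).map K.subtype).relIndex K = (S : Subgroup ↥K).index := by
    show (((S : Subgroup ↥K).map K.subtype).comap K.subtype).index = _
    rw [Subgroup.comap_map_eq_self_of_injective K.subtype_injective]
  have hndvd : ¬ p ∣ ((S : Subgroup ↥K).map K.subtype).relIndex K := by
    rw [hS'idx]
    exact S.not_dvd_index
  have hPK : (S : Subgroup ↥K).map K.subtype ⊔ M ≤ K := sup_le hS'K hMK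
  have hgen : K ≤ ((S : Subgroup ↥K).map K.subtype ⊔ M) ⊔ ⁅K, K⁆ := by
    have hJK : (S : Subgroup ↥K).map K.subtype ⊔ (⁅K, K⁆ ⊔ M) ≤ K := sup_le hS'K hH₁K
    have h1 : ((S : Subgroup ↥K).map K.subtype ⊔ (⁅K, K⁆ ⊔ M)).relIndex K
        ∣ ((S : Subgroup ↥K).map K.subtype).relIndex K :=
      Subgroup.relIndex_dvd_of_le_left K le_sup_left
    have h2 : ((S : Subgroup ↥K).map K.subtype ⊔ (⁅K, K⁆ ⊔ M)).relIndex K ∣ p ^ j := by
      rw [← hj]
      exact Subgroup.relIndex_dvd_of_le_left K le_sup_right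
    obtain ⟨i, -, hi⟩ := (Nat.dvd_prime_pow hp).mp h2
    have hi0 : i = 0 := by
      by_contra h0
      apply hndvd
      refine dvd_trans ?_ h1
      rw [hi]
      exact dvd_pow_self p h0
    rw [hi0, pow_zero] at hi
    refine (Subgroup.relIndex_eq_one.mp hi).trans (sup_le ?_ (sup_le le_sup_right ?_))
    · exact le_sup_left.trans le_sup_left
    · exact le_sup_right.trans le_sup_left
  have hKP : K ≤ (S : Subgroup ↥K).map K.subtype ⊔ M :=
    frattini_step K M _ le_sup_right hPK hgen hn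
  have hKeq : K = (S : Subgroup ↥K).map K.subtype ⊔ M := le_antisymm hKP hPK
  have h3 : M.relIndex K = M.relIndex ((S : Subgroup ↥K).map K.subtype) := by
    conv_lhs => rw [hKeq]
    exact Subgroup.relIndex_sup_right _ _
  have h4 : M.relIndex ((S : Subgroup ↥K).map K.subtype)
      ∣ Nat.card ((S : Subgroup ↥K).map K.subtype) := Subgroup.relIndex_dvd_card _ _
  rw [Subgroup.card_map_of_injective K.subtype_injective] at h4
  obtain ⟨a, ha⟩ := (IsPGroup.iff_card (p := p)).mp S.isPGroup'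
  rw [ha] at h4
  obtain ⟨m, -, hm⟩ := (Nat.dvd_prime_pow hp).mp h4
  exact ⟨m, h3.trans hm⟩

/-- If `K / H₁` is abelian and its order has two distinct prime divisors, there is a normal
subgroup strictly between `H₁` and `K`. -/
theorem exists_normal_between {L : Type*} [Group L] [Finite L] (K H₁ : Subgroup L)
    [hK : K.Normal] [hH₁ : H₁.Normal] (hH₁K : H₁ ≤ K) (hcomm : ⁅K, K⁆ ≤ H₁) {p q : ℕ}
    (hp : p.Prime) (hq : q.Prime) (hpq : p ≠ q) (hpd : p ∣ H₁.relIndex K)
    (hqd : q ∣ H₁.relIndex K) : ∃ N : Subgroup L, N.Normal ∧ H₁ < N ∧ N < K := by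
  have : Fact p.Prime := ⟨hp⟩
  have : Fact q.Prime := ⟨hq⟩
  have hpow : ∀ k : L, k ^ p ∈ H₁ ↔ (QuotientGroup.mk' H₁ k) ^ p = 1 := by
    intro k
    rw [← map_pow]
    exact (QuotientGroup.eq_one_iff _).symm
  let N : Subgroup L :=
    { carrier := {k | k ∈ K ∧ k ^ p ∈ H₁}
      mul_mem' := by
        rintro a b ⟨ha, ha'⟩ ⟨hb, hb'⟩
        refine ⟨K.mul_mem ha hb, ?_⟩
        rw [hpow] at ha' hb' ⊢
        have hc : Commute (QuotientGroup.mk' H₁ a) (QuotientGroup.mk' H₁ b) := by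
          show QuotientGroup.mk' H₁ a * QuotientGroup.mk' H₁ b
            = QuotientGroup.mk' H₁ b * QuotientGroup.mk' H₁ a
          rw [← map_mul, ← map_mul]
          apply (QuotientGroup.eq).mpr
          apply hcomm
          have := Subgroup.commutator_mem_commutator (K.inv_mem hb) (K.inv_mem ha)
          rw [commutatorElement_def] at this
          have e : (a * b)⁻¹ * (b * a) = b⁻¹ * a⁻¹ * b⁻¹⁻¹ * a⁻¹⁻¹ := by group
          rw [e]
          exact this
        rw [map_mul, hc.mul_pow, ha', hb', one_mul]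
      one_mem' := ⟨K.one_mem, by rw [one_pow]; exact H₁.one_mem⟩
      inv_mem' := by
        rintro a ⟨ha, ha'⟩
        refine ⟨K.inv_mem ha, ?_⟩
        rw [inv_pow]
        exact H₁.inv_mem ha' }
  have hNmem : ∀ k, k ∈ N ↔ k ∈ K ∧ k ^ p ∈ H₁ := fun k => Iff.rfl
  have hcard : Nat.card (↥K ⧸ H₁.subgroupOf K) = H₁.relIndex K := rfl
  have hmk : ∀ (k : ↥K) (r : ℕ), (QuotientGroup.mk k : ↥K ⧸ H₁.subgroupOf K) ^ r = 1
      ↔ (k : L) ^ r ∈ H₁ := by
    intro k r
    rw [← QuotientGroup.mk_pow, QuotientGroup.eq_one_iff, Subgroup.mem_subgroupOf]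
    rfl
  refine ⟨N, ⟨?_⟩, ?_, ?_⟩
  · rintro k ⟨hk, hk'⟩ g
    refine ⟨hK.conj_mem k hk g, ?_⟩
    rw [conj_pow]
    exact hH₁.conj_mem _ hk' g
  · refine lt_of_le_not_ge (fun h hh => ⟨hH₁K hh, H₁.pow_mem hh p⟩) ?_
    intro hle
    obtain ⟨x, hx⟩ := exists_prime_orderOf_dvd_card' (G := ↥K ⧸ H₁.subgroupOf K) p
      (by rw [hcard]; exact hpd)
    obtain ⟨k, rfl⟩ := QuotientGroup.mk_surjective x
    have h1 : (k : L) ^ p ∈ H₁ := by
      rw [← hmk, ← hx]
      exact pow_orderOf_eq_one _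
    have h2 : (k : L) ∈ H₁ := hle ⟨k.2, h1⟩
    have h3 : (QuotientGroup.mk k : ↥K ⧸ H₁.subgroupOf K) = 1 :=
      (QuotientGroup.eq_one_iff k).mpr (Subgroup.mem_subgroupOf.mpr h2)
    rw [h3, orderOf_one] at hx
    exact hp.ne_one hx.symm
  · refine lt_of_le_not_ge (fun k hk => hk.1) ?_
    intro hle
    obtain ⟨x, hx⟩ := exists_prime_orderOf_dvd_card' (G := ↥K ⧸ H₁.subgroupOf K) q
      (by rw [hcard]; exact hqd)
    obtain ⟨k, rfl⟩ := QuotientGroup.mk_surjective x
    have h1 : (k : L) ^ p ∈ H₁ := (hle k.2).2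
    have h2 : (QuotientGroup.mk k : ↥K ⧸ H₁.subgroupOf K) ^ p = 1 := (hmk k p).mpr h1
    have h3 : q ∣ p := by
      rw [← hx]
      exact orderOf_dvd_of_pow_eq_one h2
    exact hpq ((Nat.prime_dvd_prime_iff_eq hq hp).mp h3).symm

theorem arith3 (e a c : ℕ) (he : Odd e) (ha : Odd a) (hc : Odd c) (ha1 : 1 < a) (hc1 : 1 < c)
    (h1 : e ∣ a - 1) (h2 : e ∣ a * c - 1) : 4 * e ^ 2 + 1 < a * c := by
  obtain ⟨j, hj⟩ := h1
  have haj : a = e * j + 1 := by omega
  have h3 : e ∣ c - 1 := by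
    have h4 : a * c - 1 = e * (j * c) + (c - 1) := by
      rw [haj]
      have : 1 ≤ c := by omega
      have e1 : (e * j + 1) * c = e * (j * c) + c := by ring
      rw [e1]
      omega
    rw [h4] at h2
    exact (Nat.dvd_add_right (Dvd.intro _ rfl)).mp h2
  obtain ⟨l, hl⟩ := h3
  have hcl : c = e * l + 1 := by omega
  have key : ∀ t : ℕ, Odd (e * t + 1) → 1 < e * t + 1 → 2 ≤ t := by
    intro t ht ht1
    have ht0 : t ≠ 0 := by
      rintro rfl
      simp at ht1
    have hev : Even (e * t) := by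
      rcases Nat.even_or_odd (e * t) with h | h
      · exact h
      · exact absurd (Odd.add_odd h odd_one) (Nat.not_even_iff_odd.mpr ht)
    have hte : Even t := by
      rcases Nat.even_mul.mp hev with h | h
      · exact absurd h (Nat.not_even_iff_odd.mpr he)
      · exact h
    obtain ⟨r, hr⟩ := hte
    omega
  have hj2 := key j (haj ▸ ha) (haj ▸ ha1)
  have hl2 := key l (hcl ▸ hc) (hcl ▸ hc1)
  have he1 : 1 ≤ e := he.pos
  have h5 : 2 * e + 1 ≤ a := by
    rw [haj]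
    nlinarith
  have h6 : 2 * e + 1 ≤ c := by
    rw [hcl]
    nlinarith
  nlinarith [Nat.mul_le_mul h5 h6]

end Cfsg.Agent.Lib.Helper76.NilFrob
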