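import Mathlib
import Cfsg.Agent.Lib.Helper45.S8Stmt

/-!
# S3589: glue lemmas for block sums of isometries

* `hasOrd_iff`: `HasOrd Q N` iff some linear automorphism `X` of `ι → F` preserves `Q` and has
  order `N`.
* `glue`: if `T : (ι₁ → F) × (ι₂ → F) ≃ₗ (ι → F)` satisfies `Q (T (u, w)) = Q₁ u + Q₂ w`, then
  `HasOrd Q₁ N₁ → HasOrd Q₂ N₂ → HasOrd Q (lcm N₁ N₂)`.
-/

set_option autoImplicit false

namespace Cfsg.Agent.Lib.Helper76.S8Glue

open Cfsg.Agent.Lib.Helper45.S8Stmt Matrix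

universe u

variable {F : Type u} [Field F]

/-- the multiplicative equivalence between `GL ι F` and the linear automorphisms of `ι → F` -/
noncomputable def glEquiv (ι : Type) [Fintype ι] [DecidableEq ι] :
    GL ι F ≃* ((ι → F) ≃ₗ[F] (ι → F)) :=
  Matrix.GeneralLinearGroup.toLin.trans
    (LinearMap.GeneralLinearGroup.generalLinearEquiv F (ι → F))

theorem glEquiv_apply {ι : Type} [Fintype ι] [DecidableEq ι] (g : GL ι F) (v : ι → F) :
    glEquiv (F := F) ι g v = (g : Matrix ι ι F) *ᵥ v := by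
  simp [glEquiv]

theorem mem_iso {ι : Type} [Fintype ι] [DecidableEq ι] (Q : (ι → F) → F) (g : GL ι F) :
    g ∈ Cfsg.isometryGroup F Q ↔ ∀ u : ι → F, Q ((g : Matrix ι ι F) *ᵥ u) = Q u := by
  constructor
  · intro h u
    exact h u u
  · intro h u _
    exact h u

theorem hasOrd_iff {ι : Type} [Fintype ι] [DecidableEq ι] (Q : (ι → F) → F) (N : ℕ) :
    HasOrd Q N ↔ ∃ X : (ι → F) ≃ₗ[F] (ι → F), (∀ v, Q (X v) = Q v) ∧ orderOf X = N := by
  constructor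
  · rintro ⟨g, hg⟩
    refine ⟨glEquiv ι g.1, ?_, ?_⟩
    · intro v
      rw [glEquiv_apply]
      exact (mem_iso Q g.1).1 g.2 v
    · rw [MulEquiv.orderOf_eq, ← hg, Subgroup.orderOf_coe]
  · rintro ⟨X, hX, hN⟩
    have hmem : (glEquiv ι).symm X ∈ Cfsg.isometryGroup F Q := by
      rw [mem_iso]
      intro u
      rw [← glEquiv_apply, MulEquiv.apply_symm_apply]
      exact hX u
    refine ⟨⟨(glEquiv ι).symm X, hmem⟩, ?_⟩
    rw [← Subgroup.orderOf_coe, ← hN]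
    exact MulEquiv.orderOf_eq (glEquiv ι).symm X

theorem glue {ι₁ ι₂ ι : Type} [Fintype ι₁] [DecidableEq ι₁] [Fintype ι₂] [DecidableEq ι₂]
    [Fintype ι] [DecidableEq ι]
    (Q₁ : (ι₁ → F) → F) (Q₂ : (ι₂ → F) → F) (Q : (ι → F) → F)
    (T : ((ι₁ → F) × (ι₂ → F)) ≃ₗ[F] (ι → F))
    (hT : ∀ u w, Q (T (u, w)) = Q₁ u + Q₂ w) (N₁ N₂ : ℕ)
    (h₁ : HasOrd Q₁ N₁) (h₂ : HasOrd Q₂ N₂) : HasOrd Q (Nat.lcm N₁ N₂) := by
  rw [hasOrd_iff] at h₁ h₂ ⊢
  obtain ⟨X₁, hX₁, rfl⟩ := h₁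
  obtain ⟨X₂, hX₂, rfl⟩ := h₂
  let φ : ((ι₁ → F) ≃ₗ[F] (ι₁ → F)) × ((ι₂ → F) ≃ₗ[F] (ι₂ → F)) →*
      ((ι → F) ≃ₗ[F] (ι → F)) :=
    { toFun := fun p => T.symm.trans ((p.1.prodCongr p.2).trans T)
      map_one' := by
        apply LinearEquiv.ext
        intro v
        simp
      map_mul' := by
        intro p q
        apply LinearEquiv.ext
        intro v
        simp }
  have hφapp : ∀ (p : ((ι₁ → F) ≃ₗ[F] (ι₁ → F)) × ((ι₂ → F) ≃ₗ[F] (ι₂ → F))) (v : ι → F),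
      φ p v = T (p.1 (T.symm v).1, p.2 (T.symm v).2) := fun p v => rfl
  have hφ : Function.Injective φ := by
    intro p q hpq
    have h : ∀ x : (ι₁ → F) × (ι₂ → F), (p.1 x.1, p.2 x.2) = (q.1 x.1, q.2 x.2) := by
      intro x
      have h1 := congrArg (fun Y : (ι → F) ≃ₗ[F] (ι → F) => Y (T x)) hpq
      simp only [hφapp, LinearEquiv.symm_apply_apply] at h1
      exact T.injective h1
    apply Prod.ext
    · apply LinearEquiv.ext
      intro u
      exact (Prod.ext_iff.1 (h (u, 0))).1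
    · apply LinearEquiv.ext
      intro w
      exact (Prod.ext_iff.1 (h (0, w))).2
  refine ⟨φ (X₁, X₂), ?_, ?_⟩
  · intro v
    rw [hφapp, hT, hX₁, hX₂, ← hT]
    simp
  · rw [orderOf_injective φ hφ, Prod.orderOf]

end Cfsg.Agent.Lib.Helper76.S8Glue
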