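import Mathlib
import Cfsg.Agent.Lib.Helper17.KleinA5
import Cfsg.Agent.Lib.Helper17.KleinA5b
import Cfsg.Agent.Lib.Helper17.KleinFS
import Cfsg.Agent.Lib.Helper17.KleinG0
import Cfsg.Agent.Lib.Helper80.Deg2p
import Cfsg.Agent.Lib.Helper80.Integrality
import Cfsg.Agent.Lib.CT.Knorr
import Cfsg.Agent.Lib.Helper76.KleinArith
import Cfsg.Agent.S3277
import Cfsg.Agent.S4466
import Cfsg.Agent.S0144

/-!
Simple groups of order `4 p^a q^b` are isomorphic to `A₅` (Brauer–Tuan), via Brauer's theory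
of groups with a Klein four Sylow `2`-subgroup.
-/

set_option autoImplicit false

namespace Cfsg.Agent.Lib.Helper76.KleinDeg3

open Cfsg

/-- Eigenvalue data of a character of a perfect group at the powers of an element. -/
theorem eigen_data {G : Type*} [Group G] [Finite G] (hperf : commutator G = ⊤) (χ : G → ℂ)
    (hχ : IsCharacter G χ) (g : G) :
    ∃ (d : ℕ) (μ : Fin d → ℂ), (∀ i, μ i ^ orderOf g = 1) ∧
      (∀ k : ℕ, χ (g ^ k) = ∑ i, μ i ^ k) ∧ ∀ k : ℕ, ∏ i, μ i ^ k = 1 := by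
  classical
  obtain ⟨n, ρ, rfl⟩ := hχ
  obtain ⟨b, μ, hb, hμ⟩ := Cfsg.Agent.Lib.Helper3.Spectral.exists_eigenbasis ρ g
  have hk : ∀ (k : ℕ) (i), ρ (g ^ k) (b i) = μ i ^ k • b i := by
    intro k i
    induction k with
    | zero => simp
    | succ k ih =>
      rw [pow_succ, map_mul, Module.End.mul_apply, hb i, map_smul, ih, smul_smul, pow_succ]
      congr 1
      ring
  refine ⟨_, μ, hμ, fun k => ?_, fun k => ?_⟩
  · exact Cfsg.Agent.Lib.Helper3.Spectral.trace_eq_sum_of_eigenbasis b (ρ (g ^ k))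
      (fun i => μ i ^ k) (hk k)
  · rw [← Cfsg.Agent.Lib.Helper80.Deg2p.det_eq_prod_of_eigenbasis b (ρ (g ^ k))
      (fun i => μ i ^ k) (hk k)]
    exact Cfsg.Agent.Lib.Helper80.Deg2p.det_eq_one_of_perfect hperf ρ (g ^ k)

theorem tri (a b c : ℂ) (n : ℕ) (hn : Odd n) (h1 : a - b - c = -1)
    (h2 : a ^ 2 - b ^ 2 - c ^ 2 = -1) (h3 : a * b * c = 1) (ha : a ^ n = 1) :
    a + b + c = 3 := by
  have hbc : b * c = a := by
    have : 2 * (b * c) = 2 * a := by linear_combination h2 - (b + c + a + 1) * h1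
    exact mul_left_cancel₀ (two_ne_zero) this
  have haa : a ^ 2 = 1 := by rw [← h3, ← hbc]; ring
  have ha1 : a = 1 := by
    rcases mul_self_eq_one_iff.mp (by rw [← haa]; ring : a * a = 1) with h | h
    · exact h
    · exfalso
      rw [h, hn.neg_one_pow] at ha
      norm_num at ha
  subst ha1
  have hb : (b - 1) ^ 2 = 0 := by linear_combination (-b) * h1 - hbc
  have hb1 : b = 1 := by
    have := pow_eq_zero_iff (two_ne_zero) |>.mp hb
    linear_combination this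
  subst hb1
  linear_combination (-1 : ℂ) * h1

/-- A character of degree `3` of a perfect group which takes the value `-1` on `J * k ^ i`
(`J` an involution, `k` of odd order commuting with `J`) has `k` in its kernel. -/
theorem deg3_key {G : Type*} [Group G] [Finite G] (hperf : commutator G = ⊤)
    (χ : G → ℂ) (hχ : IsCharacter G χ) (hdeg : χ 1 = 3) (J k : G) (hJ : orderOf J = 2)
    (hcomm : Commute J k) (hk : ¬ 2 ∣ orderOf k) (hval : ∀ i : ℕ, χ (J * k ^ i) = -1) :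
    χ k = 3 := by
  classical
  obtain ⟨d, μ, hμ, hsum, hprod⟩ := eigen_data hperf χ hχ (J * k)
  have hd : d = 3 := by
    have h0 := hsum 0
    simp only [pow_zero, Finset.sum_const, Finset.card_univ, Fintype.card_fin, nsmul_eq_mul,
      mul_one] at h0
    rw [hdeg] at h0
    exact_mod_cast h0.symm
  subst hd
  have hkpos : 0 < orderOf k := orderOf_pos k
  obtain ⟨m, hm⟩ : ∃ m, orderOf k = 2 * m + 1 := ⟨orderOf k / 2, by omega⟩
  have hJ2 : J ^ 2 = 1 := by rw [← hJ]; exact pow_orderOf_eq_one J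
  have hkn : k ^ (2 * m + 1) = 1 := by rw [← hm]; exact pow_orderOf_eq_one k
  have hgn : (J * k) ^ (2 * m + 1) = J := by
    rw [hcomm.mul_pow, hkn, mul_one, pow_succ, pow_mul, hJ2, one_pow, one_mul]
  have hgn1 : (J * k) ^ (2 * m + 2) = k := by
    have e : 2 * m + 2 = 2 * (m + 1) := by ring
    rw [hcomm.mul_pow]
    nth_rewrite 1 [e]
    rw [pow_mul, hJ2, one_pow, one_mul, pow_succ, hkn, one_mul]
  have hg2n : (J * k) ^ (2 * (2 * m + 1)) = 1 := by
    rw [mul_comm, pow_mul, hgn, hJ2]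
  have hμ2n : ∀ i, μ i ^ (2 * (2 * m + 1)) = 1 := by
    intro i
    obtain ⟨c, hc⟩ := orderOf_dvd_of_pow_eq_one hg2n
    rw [hc, pow_mul, hμ i, one_pow]
  have hs : ∀ i, μ i ^ (2 * m + 1) = 1 ∨ μ i ^ (2 * m + 1) = -1 := by
    intro i
    apply mul_self_eq_one_iff.mp
    rw [← pow_add, ← two_mul]; exact hμ2n i
  have ht : ∀ i, (μ i ^ (2 * m + 2)) ^ (2 * m + 1) = 1 := by
    intro i
    rw [← pow_mul]
    have : (2 * m + 2) * (2 * m + 1) = (2 * (2 * m + 1)) * (m + 1) := by ring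
    rw [this, pow_mul, hμ2n i, one_pow]
  have hv : ∀ i : ℕ, ∑ j, μ j ^ (2 * m + 1) * (μ j ^ (2 * m + 2)) ^ i = -1 := by
    intro i
    have h1 : (J * k) ^ ((2 * m + 1) + (2 * m + 2) * i) = J * k ^ i := by
      rw [pow_add, pow_mul, hgn, hgn1]
    have h2 := hsum ((2 * m + 1) + (2 * m + 2) * i)
    rw [h1, hval i] at h2
    rw [h2]
    refine Finset.sum_congr rfl fun j _ => ?_
    ring
  have hp := hprod (2 * m + 2)
  have hχk : χ k = ∑ j, μ j ^ (2 * m + 2) := by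
    have := hsum (2 * m + 2)
    rw [hgn1] at this
    exact this
  have hv0 := hv 0
  have hv1 := hv 1
  have hv2 := hv 2
  rw [hχk]
  simp only [Fin.sum_univ_three, Fin.prod_univ_three, pow_zero, mul_one, pow_one]
    at hv0 hv1 hv2 hp ⊢
  have hodd : Odd (2 * m + 1) := ⟨m, rfl⟩
  rcases hs 0 with h0 | h0 <;> rcases hs 1 with h1 | h1 <;> rcases hs 2 with h2 | h2 <;>
    rw [h0, h1, h2] at hv0 hv1 hv2
  · exfalso; norm_num at hv0
  · exfalso; norm_num at hv0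
  · exfalso; norm_num at hv0
  · have e1 : μ 0 ^ (2 * m + 2) - μ 1 ^ (2 * m + 2) - μ 2 ^ (2 * m + 2) = -1 := by
      linear_combination hv1
    have e2 : (μ 0 ^ (2 * m + 2)) ^ 2 - (μ 1 ^ (2 * m + 2)) ^ 2 - (μ 2 ^ (2 * m + 2)) ^ 2 = -1 := by
      linear_combination hv2
    exact tri _ _ _ (2 * m + 1) hodd e1 e2 hp (ht 0)
  · exfalso; norm_num at hv0
  · have e1 : μ 1 ^ (2 * m + 2) - μ 0 ^ (2 * m + 2) - μ 2 ^ (2 * m + 2) = -1 := by
      linear_combination hv1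
    have e2 : (μ 1 ^ (2 * m + 2)) ^ 2 - (μ 0 ^ (2 * m + 2)) ^ 2 - (μ 2 ^ (2 * m + 2)) ^ 2 = -1 := by
      linear_combination hv2
    have e3 : μ 1 ^ (2 * m + 2) * μ 0 ^ (2 * m + 2) * μ 2 ^ (2 * m + 2) = 1 := by
      linear_combination hp
    linear_combination tri _ _ _ (2 * m + 1) hodd e1 e2 e3 (ht 1)
  · have e1 : μ 2 ^ (2 * m + 2) - μ 0 ^ (2 * m + 2) - μ 1 ^ (2 * m + 2) = -1 := by
      linear_combination hv1
    have e2 : (μ 2 ^ (2 * m + 2)) ^ 2 - (μ 0 ^ (2 * m + 2)) ^ 2 - (μ 1 ^ (2 * m + 2)) ^ 2 = -1 := by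
      linear_combination hv2
    have e3 : μ 2 ^ (2 * m + 2) * μ 0 ^ (2 * m + 2) * μ 1 ^ (2 * m + 2) = 1 := by
      linear_combination hp
    linear_combination tri _ _ _ (2 * m + 1) hodd e1 e2 e3 (ht 2)
  · exfalso; norm_num at hv0

open Cfsg.Agent.Lib.Helper17.KleinA5 Cfsg.Agent.Lib.Helper17.KleinA5b in
/-- **Brauer–Tuan**: a non-abelian simple group of order `4 p^a q^b` is isomorphic to `A₅`. -/
theorem part_one {G : Type*} [Group G] [Finite G] [IsSimpleGroup G]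
    (hna : ∃ x y : G, x * y ≠ y * x) (p q a b : ℕ) (hp : p.Prime) (hq : q.Prime) (hpq : p ≠ q)
    (hG : Nat.card G = 4 * p ^ a * q ^ b) : Nonempty (G ≃* alternatingGroup (Fin 5)) := by
  classical
  have : Fact (Nat.Prime 2) := ⟨Nat.prime_two⟩
  have hnc' : ¬ ∀ a b : G, a * b = b * a := by
    obtain ⟨x, y, hxy⟩ := hna
    exact fun h => hxy (h x y)
  have hns : ¬ Group.IsSolvable G := fun h => hnc' (IsSimpleGroup.comm_iff_isSolvable.mpr h)
  have hp2 : p ≠ 2 := by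
    rintro rfl
    exact hns (Cfsg.Agent.S0144.result 2 q (a + 2) b Nat.prime_two hq (by rw [hG]; ring))
  have hq2 : q ≠ 2 := by
    rintro rfl
    exact hns (Cfsg.Agent.S0144.result p 2 a (b + 2) hp Nat.prime_two (by rw [hG]; ring))
  have hperf : commutator G = ⊤ := by
    rcases (inferInstance : (commutator G).Normal).eq_bot_or_eq_top with h | h
    · exfalso
      have hc := (commutator_eq_bot_iff G).mp h
      exact hnc' (fun a b => mul_comm' a b)
    · exact h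
  have hG4 : Nat.card G ≠ 4 := card_ne_four
  have hg₀ : Odd (p ^ a * q ^ b) :=
    ((hp.odd_of_ne_two hp2).pow).mul ((hq.odd_of_ne_two hq2).pow)
  have hG' : Nat.card G = 4 * (p ^ a * q ^ b) := by rw [hG]; ring
  have hnc0 : ¬ ∃ N : Subgroup G, N.Normal ∧ Nat.card N = p ^ a * q ^ b := by
    rintro ⟨N, hN, hcard⟩
    rcases hN.eq_bot_or_eq_top with h | h
    · rw [h, Subgroup.card_bot] at hcard
      exact hG4 (by rw [hG', ← hcard])
    · rw [h, Subgroup.card_top] at hcard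
      have : 0 < Nat.card G := Nat.card_pos
      omega
  let P : Sylow 2 G := default
  have h2P : 2 ∣ Nat.card (P : Subgroup G) :=
    P.dvd_card_of_dvd_card (by rw [hG']; exact Dvd.dvd.mul_right (by norm_num) _)
  obtain ⟨J0, hJ0⟩ := exists_prime_orderOf_dvd_card' 2 h2P
  obtain ⟨J, hJ, hJ2⟩ : ∃ J : G, J ∈ (P : Subgroup G) ∧ orderOf J = 2 :=
    ⟨(J0 : G), J0.2, by rw [Subgroup.orderOf_coe]; exact hJ0⟩
  obtain ⟨hP, hexp, hone⟩ :=
    Cfsg.Agent.Lib.Helper17.KleinG0.klein_of_no_complement _ hg₀ hG' hnc0 P J hJ hJ2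
  obtain ⟨M, hM⟩ := Cfsg.Agent.Lib.CT.Knorr.exists_isPModular 2 Nat.prime_two
  obtain ⟨ζ₂, ζ₃, ζ₄, ε, hε, h2, h3, h23, h24, h34, hB, hvals, d2, d3, d4, hrel⟩ :=
    Cfsg.Agent.Lib.Helper75.KleinFour3.principal_structure M hM P hP hexp hone
  obtain ⟨v2, v3, v4⟩ := hvals J hJ2
  have h4 : (ζ₄ : G → ℂ) ≠ (fun _ => 1) := by
    intro h
    have h5 := congrFun h J
    rw [v4] at h5
    norm_num at h5
  have hdist : (ζ₂ : G → ℂ) ≠ (fun _ => 1) ∧ (ζ₃ : G → ℂ) ≠ (fun _ => 1) ∧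
      (ζ₄ : G → ℂ) ≠ (fun _ => 1) ∧ ζ₂ ≠ ζ₃ ∧ ζ₂ ≠ ζ₄ ∧ ζ₃ ≠ ζ₄ := ⟨h2, h3, h4, h23, h24, h34⟩
  have hε' : ((1 : ℤ) = 1 ∨ (1 : ℤ) = -1) ∧ (ε = 1 ∨ ε = -1) ∧ ((-1 : ℤ) = 1 ∨ (-1 : ℤ) = -1) :=
    ⟨Or.inl rfl, hε, Or.inr rfl⟩
  have hval : (ζ₂ : G → ℂ) J = ((1 : ℤ) : ℂ) ∧ (ζ₃ : G → ℂ) J = ((ε : ℤ) : ℂ) ∧
      (ζ₄ : G → ℂ) J = (((-1 : ℤ) : ℤ) : ℂ) :=
    ⟨by rw [v2]; norm_num, v3, by rw [v4]; norm_num⟩
  have key := order_formula_prod M hM P hP hexp hone J hJ hJ2 ζ₂ ζ₃ ζ₄ 1 ε (-1) hB hdist hε' hval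
  have hc2 := Cfsg.Agent.Lib.CT.Wedderburn.char_natCast_charDegree
    (Cfsg.Agent.Lib.CT.Wedderburn.isCharacter_of_irr ζ₂.2)
  have hc3 := Cfsg.Agent.Lib.CT.Wedderburn.char_natCast_charDegree
    (Cfsg.Agent.Lib.CT.Wedderburn.isCharacter_of_irr ζ₃.2)
  have hc4 := Cfsg.Agent.Lib.CT.Wedderburn.char_natCast_charDegree
    (Cfsg.Agent.Lib.CT.Wedderburn.isCharacter_of_irr ζ₄.2)
  have hdegeq : (1 : ℤ) + (charDegree (ζ₂ : G → ℂ) : ℤ) + ε * (charDegree (ζ₃ : G → ℂ) : ℤ)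
      - (charDegree (ζ₄ : G → ℂ) : ℤ) = 0 := by
    have h1 := hrel 1 (by rw [orderOf_one]; exact odd_one)
    rw [← hc2, ← hc3, ← hc4] at h1
    exact_mod_cast h1
  have harith := Cfsg.Agent.Lib.Helper76.KleinArith.klein_arith p q a b hp hq hpq hp2 hq2
    (Nat.card G) (Nat.card (Subgroup.centralizer ((P : Subgroup G) : Set G)))
    (Nat.card (Subgroup.centralizer ({J} : Set G)))
    (charDegree (ζ₂ : G → ℂ)) (charDegree (ζ₃ : G → ℂ)) (charDegree (ζ₄ : G → ℂ)) ε hε hG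
    (Subgroup.card_subgroup_dvd_card _)
    (Cfsg.Agent.Lib.Helper80.Integrality.charDegree_dvd_card ζ₂)
    (Cfsg.Agent.Lib.Helper80.Integrality.charDegree_dvd_card ζ₃)
    (Cfsg.Agent.Lib.Helper80.Integrality.charDegree_dvd_card ζ₄)
    (Cfsg.Agent.S4466.faithful_of_ne hnc' ζ₂ h2).2
    (Cfsg.Agent.S4466.faithful_of_ne hnc' ζ₄ h4).2
    d2 d3 d4 hdegeq key
    (fun hε1 => Cfsg.Agent.Lib.Helper17.KleinFS.degrees_eq M hM P hP hexp hone J hJ2 ζ₂ ζ₃ ζ₄
      1 ε (-1) hB hdist hval rfl hε1 rfl)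
  obtain ⟨-, -, -, hx4⟩ := harith
  have hdeg4 : (ζ₄ : G → ℂ) 1 = 3 := by rw [← hc4, hx4]; norm_num
  have hζ₄mem : ζ₄ ∈ principalBlock M G := by
    rw [hB]
    exact Or.inr (Or.inr (Or.inr rfl))
  -- the normal `2`-complement of `C(J)` is trivial
  obtain ⟨K, hKn, hK, hKi⟩ :=
    Cfsg.Agent.Lib.Helper17.KleinLocal.exists_complement P hP hexp J hJ2
  have := hKn
  have hK1 : ∀ c : ↥(Subgroup.centralizer ({J} : Set G)), c ∈ K → (c : G) = 1 := by
    intro c hc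
    have hcG : ¬ 2 ∣ orderOf (c : G) := by
      rw [Subgroup.orderOf_coe]
      exact Cfsg.Agent.Lib.Helper17.KleinLocal.odd_of_mem K hK c hc
    have hcomm : Commute J (c : G) := by
      have := c.2
      rw [Subgroup.mem_centralizer_singleton_iff] at this
      exact this.symm
    have hval' : ∀ i : ℕ, (ζ₄ : G → ℂ) (J * (c : G) ^ i) = -1 := by
      intro i
      have hci : c ^ i ∈ K := pow_mem hc i
      have h := Cfsg.Agent.Lib.Helper75.KleinFour2.secRes_eq M hM J hJ2 K hK hKi ζ₄ hζ₄mem (c ^ i)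
      rw [if_pos hci] at h
      have hreg : ¬ 2 ∣ orderOf (c ^ i) :=
        Cfsg.Agent.Lib.Helper17.KleinLocal.odd_of_mem K hK _ hci
      unfold Cfsg.Agent.Lib.Helper75.Section.secRes at h
      rw [Cfsg.Agent.Lib.Helper75.Section.pRegularPart_of_regular 2 _ hreg, v4] at h
      simpa using h
    have h3' := deg3_key hperf (ζ₄ : G → ℂ) (Cfsg.Agent.Lib.CT.Wedderburn.isCharacter_of_irr ζ₄.2)
      hdeg4 J (c : G) hJ2 hcomm hcG hval'
    exact (Cfsg.Agent.S4466.faithful_of_ne hnc' ζ₄ h4).1 (c : G) (by rw [h3', hdeg4])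
  have hKbot : K = ⊥ := by
    rw [Subgroup.eq_bot_iff_forall]
    intro c hc
    exact Subtype.ext (hK1 c hc)
  have hC4 : Nat.card ↥(Subgroup.centralizer ({J} : Set G)) = 4 := by
    have := K.card_mul_index
    rw [hKi, hKbot, Subgroup.card_bot] at this
    omega
  have hPle : (P : Subgroup G) ≤ Subgroup.centralizer ({J} : Set G) :=
    Cfsg.Agent.Lib.Helper17.KleinCount2.sylow_le_centralizer P hexp J hJ
  have hPeq : (P : Subgroup G) = Subgroup.centralizer ({J} : Set G) :=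
    Subgroup.eq_of_le_of_card_ge hPle (by rw [hP, hC4])
  have hCe : ∀ c ∈ Subgroup.centralizer ({J} : Set G), c ^ 2 = 1 := by
    intro c hc
    rw [← hPeq] at hc
    rw [pow_two]
    exact hexp c hc
  have hdvd4 : 4 ∣ Nat.card G := by
    rw [← hP]
    exact Subgroup.card_subgroup_dvd_card _
  have hnc : ¬ Cfsg.HasNormalPComplement 2 G := by
    rintro ⟨Q, N, hN, hcomp⟩
    have hmul := hcomp.card_mul_card
    have hQ4 : Nat.card (Q : Subgroup G) = 4 := by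
      rw [Sylow.card_eq_multiplicity Q, ← Sylow.card_eq_multiplicity P, hP]
    rw [hQ4] at hmul
    rcases hN.eq_bot_or_eq_top with h | h
    · rw [h, Subgroup.card_bot] at hmul
      exact hG4 (by omega)
    · rw [h, Subgroup.card_top] at hmul
      have : 0 < Nat.card G := Nat.card_pos
      omega
  have hne : ∀ E : Subgroup G, E.Normal → Cfsg.IsElementaryAbelian 2 E →
      Nat.card ↥E ≠ 2 ∧ Nat.card ↥E ≠ 4 := by
    intro E hE _
    rcases hE.eq_bot_or_eq_top with h | h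
    · rw [h, Subgroup.card_bot]
      exact ⟨by norm_num, by norm_num⟩
    · rw [h, Subgroup.card_top]
      refine ⟨?_, hG4⟩
      intro h2
      rw [h2] at hdvd4
      norm_num at hdvd4
  exact Cfsg.Agent.S3277.result J hJ2 hC4 hCe hnc hne

end Cfsg.Agent.Lib.Helper76.KleinDeg3
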