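import Mathlib
import Cfsg.Agent.Lib.Helper68.M11UStmt
import Cfsg.Agent.Lib.Helper92.M11Base
import Cfsg.Agent.Lib.Helper92.M11Asm4
import Cfsg.Agent.Lib.Helper92.M11EX
import Cfsg.Agent.Lib.Helper69.M11R11
import Cfsg.Agent.Lib.Helper69.M11R5
import Cfsg.Agent.Lib.Helper33.M11DIV
import Cfsg.Agent.Lib.Helper3.M11M4
import Cfsg.Agent.Lib.Helper59.M11I3
import Cfsg.Agent.Lib.CT.Orth

/-!
# S0420 (helper68 blueprint): shared lemmas for the character-value pieces
-/

set_option autoImplicit false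
set_option linter.unusedSectionVars false

namespace Cfsg.Agent.Lib.Helper76.MUChar

open Cfsg Cfsg.Agent.Lib.Helper68.M11UStmt Cfsg.Agent.Lib.Helper92.M11Stmt

universe u

variable {G : Type u} [Group G] [Finite G]

/-- sum over a cyclic subgroup -/
theorem sum_zpowers (x : G) (F : G → ℂ) :
    ∑ᶠ h : Subgroup.zpowers x, F (h : G) = ∑ k ∈ Finset.range (orderOf x), F (x ^ k) := by
  have hx : IsOfFinOrder x := isOfFinOrder_of_finite x
  rw [← finsum_comp_equiv (finEquivZPowers hx), finsum_eq_sum_of_fintype]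
  simp only [finEquivZPowers_apply]
  exact Fin.sum_univ_eq_sum_range (fun k => F (x ^ k)) (orderOf x)

/-- irreducible characters are class functions -/
theorem irr_conj (ψ : IrrCharacter G) (g x : G) :
    (ψ : G → ℂ) (g * x * g⁻¹) = (ψ : G → ℂ) x :=
  ((Cfsg.Agent.Lib.CT.Orth.isConj_iff_irr_eq (g * x * g⁻¹) x).1
    (isConj_iff.2 ⟨g⁻¹, by group⟩)) ψ

/-- sum over a subgroup on whose non-trivial elements the function is constant -/
theorem sum_const_sub (H : Subgroup G) (χ : G → ℂ) (c : ℂ) (h : ∀ x ∈ H, x ≠ 1 → χ x = c) :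
    ∑ᶠ y : H, χ (y : G) = χ 1 + ((Nat.card H : ℂ) - 1) * c := by
  classical
  have : Fintype H := Fintype.ofFinite H
  rw [finsum_eq_sum_of_fintype, ← Finset.add_sum_erase Finset.univ _ (Finset.mem_univ (1 : H))]
  have h1 : ∀ y ∈ Finset.univ.erase (1 : H), χ (y : G) = c := by
    intro y hy
    apply h y y.2
    intro hy1
    exact (Finset.mem_erase.1 hy).1 (Subtype.ext hy1)
  rw [Finset.sum_congr rfl h1, Finset.sum_const, Finset.card_erase_of_mem (Finset.mem_univ _),
    Finset.card_univ, Nat.card_eq_fintype_card, Subgroup.coe_one, nsmul_eq_mul]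
  have hpos : 1 ≤ Fintype.card H := Fintype.card_pos
  rw [Nat.cast_sub hpos]
  push_cast
  ring

section M11
variable [IsSimpleGroup G]

theorem card_syl3 (hG : Nat.card G = 7920) (P : Sylow 3 G) : Nat.card (P : Subgroup G) = 9 := by
  have : Fact (Nat.Prime 3) := ⟨Nat.prime_three⟩
  exact Cfsg.Agent.Lib.Helper17.Sylow.card_sylow_subgroup (p := 3) (k := 2) (m := 880)
    (by rw [hG]; norm_num) (by norm_num) P

theorem deg_a (D : Chars G) (i : Fin 3) : (D.a i : G → ℂ) 1 = 10 := by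
  rw [Cfsg.Agent.Lib.Helper17.ExcCor.deg_eq, D.ha]; norm_num

theorem cent3_le (hG : Nat.card G = 7920) (z : G) (hz : orderOf z = 3) :
    Nat.card (Subgroup.centralizer ({z} : Set G)) ≤ 18 := by
  have hz1 : z ≠ 1 := by
    rintro rfl
    rw [orderOf_one] at hz
    omega
  have h1 := Cfsg.Agent.Lib.Helper33.M11DIV.main G hG z hz1 (by rw [hz]; norm_num)
    (by rw [hz]; norm_num)
  have h2 := Cfsg.Agent.Lib.Helper92.M11Asm4.cent_three Cfsg.Agent.Lib.Helper92.M11EX.main
    Cfsg.Agent.Lib.Helper69.M11R11.main Cfsg.Agent.Lib.Helper69.M11R5.main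
    Cfsg.Agent.Lib.Helper33.M11DIV.main Cfsg.Agent.Lib.Helper3.M11M4.main
    Cfsg.Agent.Lib.Helper59.M11I3.main hG z hz
  have h3 := Nat.le_of_dvd (by norm_num) h1
  generalize Nat.card (Subgroup.centralizer ({z} : Set G)) = d at h1 h2 h3 ⊢
  interval_cases d <;> omega

/-- the value of a character of degree 10 is bounded by the centralizer order -/
theorem normSq_a_le (D : Chars G) (i : Fin 3) (z : G) :
    Complex.normSq ((D.a i : G → ℂ) z) ≤
      (Nat.card (Subgroup.centralizer ({z} : Set G)) : ℝ) - 1 := by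
  have horth := Cfsg.Agent.Lib.Helper92.M11Base.orth_self D z
  have h0 : ∀ w : ℂ, 0 ≤ Complex.normSq w := Complex.normSq_nonneg
  have key : Complex.normSq ((D.a i : G → ℂ) z) ≤ Complex.normSq ((D.a 0 : G → ℂ) z) +
      Complex.normSq ((D.a 1 : G → ℂ) z) + Complex.normSq ((D.a 2 : G → ℂ) z) := by
    fin_cases i
    · show Complex.normSq ((D.a 0 : G → ℂ) z) ≤ _
      linarith [h0 ((D.a 1 : G → ℂ) z), h0 ((D.a 2 : G → ℂ) z)]
    · show Complex.normSq ((D.a 1 : G → ℂ) z) ≤ _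
      linarith [h0 ((D.a 0 : G → ℂ) z), h0 ((D.a 2 : G → ℂ) z)]
    · show Complex.normSq ((D.a 2 : G → ℂ) z) ≤ _
      linarith [h0 ((D.a 0 : G → ℂ) z), h0 ((D.a 1 : G → ℂ) z)]
  rw [horth]
  linarith [h0 ((D.b : G → ℂ) z), h0 ((D.th 0 : G → ℂ) z), h0 ((D.th 1 : G → ℂ) z),
    h0 ((D.d : G → ℂ) z), h0 ((D.e : G → ℂ) z), h0 ((D.f : G → ℂ) z)]

/-- the sum over a Sylow 3-subgroup on which the character is 1 off the identity -/
theorem sum_P (hG : Nat.card G = 7920) (D : Chars G) (i : Fin 3) (P : Sylow 3 G)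
    (h : ∀ x ∈ (P : Subgroup G), x ≠ 1 → (D.a i : G → ℂ) x = 1) :
    ∑ᶠ y : (P : Subgroup G), (D.a i : G → ℂ) (y : G) = 18 := by
  rw [sum_const_sub _ _ 1 h, deg_a, card_syl3 hG]; norm_num

end M11

end Cfsg.Agent.Lib.Helper76.MUChar
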