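import Mathlib
import Cfsg.Agent.Lib.Helper76.MUChar

/-!
# S0420 (helper68 blueprint), piece CHARP
-/

set_option autoImplicit false

namespace Cfsg.Agent.Lib.Helper76.MUCHARP

open Cfsg Cfsg.Agent.Lib.Helper68.M11UStmt Cfsg.Agent.Lib.Helper92.M11Stmt
open Cfsg.Agent.Lib.Helper76.MUChar

universe u

theorem main (hMono : Mono.{u}) : CharP.{u} := by
  intro G _ _ _ hG D i P hconj x hxP hx1
  classical
  have hP9 := card_syl3 hG P
  have hF : Fact (Nat.Prime 3) := ⟨Nat.prime_three⟩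
  obtain ⟨z', hz'⟩ := exists_prime_orderOf_dvd_card' (G := (P : Subgroup G)) 3
    (by rw [hP9]; norm_num)
  have hz3 : orderOf (z' : G) = 3 := by rw [Subgroup.orderOf_coe]; exact hz'
  have hzP : (z' : G) ∈ (P : Subgroup G) := z'.2
  have hz1 : (z' : G) ≠ 1 := by
    intro h
    rw [h, orderOf_one] at hz3
    omega
  generalize (z' : G) = z at hz3 hzP hz1
  have hconst : ∀ y ∈ (P : Subgroup G), y ≠ 1 → (D.a i : G → ℂ) y = (D.a i : G → ℂ) x := by
    intro y hy hy1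
    exact ((Cfsg.Agent.Lib.CT.Orth.isConj_iff_irr_eq y x).1 (hconj y hy x hxP hy1 hx1)) (D.a i)
  have hle : Subgroup.zpowers z ≤ (P : Subgroup G) := Subgroup.zpowers_le.2 hzP
  have hsumP : ∑ᶠ y : (P : Subgroup G), (D.a i : G → ℂ) (y : G)
      = 10 + 8 * (D.a i : G → ℂ) x := by
    rw [sum_const_sub _ _ _ hconst, hP9, deg_a]; norm_num
  have hsumZ : ∑ᶠ y : Subgroup.zpowers z, (D.a i : G → ℂ) (y : G)
      = 10 + 2 * (D.a i : G → ℂ) x := by
    rw [sum_const_sub (Subgroup.zpowers z) _ _ (fun y hy hy1 => hconst y (hle hy) hy1),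
      Nat.card_zpowers, hz3, deg_a]
    norm_num
  obtain ⟨n, m, hmn, h1, h2⟩ := hMono G (D.a i : G → ℂ)
    (Cfsg.Agent.Lib.CT.Wedderburn.isCharacter_of_irr (D.a i).2) _ _ hle
  rw [hsumZ, Nat.card_zpowers, hz3] at h1
  rw [hsumP, hP9] at h2
  push_cast at h1 h2
  have hzc : (D.a i : G → ℂ) z = (D.a i : G → ℂ) x := hconst z hzP hz1
  have hbound := normSq_a_le D i z
  have hcent := cent3_le hG z hz3
  rw [hzc] at hbound
  generalize (D.a i : G → ℂ) x = c at h1 h2 hbound ⊢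
  have hcr : c = (((3 * (n : ℝ) - 10) / 2 : ℝ) : ℂ) := by
    push_cast
    linear_combination h1 / 2
  have hnm : 4 * n = 3 * m + 10 := by
    have : (4 * (n : ℂ)) = 3 * (m : ℂ) + 10 := by linear_combination (1 / 3 : ℂ) * h2 - (4 / 3 : ℂ) * h1
    exact_mod_cast this
  have hcent' : (Nat.card (Subgroup.centralizer ({z} : Set G)) : ℝ) ≤ 18 := by exact_mod_cast hcent
  rw [hcr, Complex.normSq_ofReal] at hbound
  have hn6 : n ≤ 6 := by
    by_contra hcon
    have h7 : (7 : ℝ) ≤ n := by exact_mod_cast (by omega : 7 ≤ n)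
    nlinarith
  have hn4 : n = 4 := by omega
  rw [hcr, hn4]
  push_cast
  norm_num

example : Cfsg.Agent.Lib.Helper68.M11UStmt.Mono.{u} → Cfsg.Agent.Lib.Helper68.M11UStmt.CharP.{u} :=
  main

end Cfsg.Agent.Lib.Helper76.MUCHARP

#print axioms Cfsg.Agent.Lib.Helper76.MUCHARP.main
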