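import Mathlib
import Cfsg.Agent.Lib.Helper76.MUChar

/-!
# S0420 (helper68 blueprint): shared lemmas for the pieces CHART, CHARQ4
-/

set_option autoImplicit false
set_option linter.unusedSectionVars false

namespace Cfsg.Agent.Lib.Helper76.MUChar2

open Cfsg Cfsg.Agent.Lib.Helper68.M11UStmt Cfsg.Agent.Lib.Helper92.M11Stmt
open Cfsg.Agent.Lib.Helper76.MUChar

universe u

variable {G : Type u} [Group G] [Finite G]

theorem eq_one_of_coprime (P : Subgroup G) (q x : G)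
    (hco : Nat.Coprime (Nat.card P) (orderOf q))
    (hxP : x ∈ P) (hxq : x ∈ Subgroup.zpowers q) : x = 1 := by
  have h1 : orderOf x ∣ Nat.card P := Subgroup.orderOf_dvd_natCard P hxP
  have h2 : orderOf x ∣ orderOf q := orderOf_dvd_of_mem_zpowers hxq
  have h3 := Nat.dvd_gcd h1 h2
  rw [Nat.Coprime] at hco
  rw [hco] at h3
  exact orderOf_eq_one_iff.1 (Nat.dvd_one.1 h3)

theorem normalizes_zpowers (P : Subgroup G) (q : G) (h : ∀ x ∈ P, q * x * q⁻¹ ∈ P) :
    Normalizes (Subgroup.zpowers q) P := by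
  intro r hr x hx
  have hq : IsOfFinOrder q := isOfFinOrder_of_finite q
  rw [← hq.mem_powers_iff_mem_zpowers] at hr
  obtain ⟨n, rfl⟩ := hr
  induction n with
  | zero => simpa using hx
  | succ n ih =>
    have h' := h _ ih
    have e : q ^ (n + 1) * x * (q ^ (n + 1))⁻¹ = q * (q ^ n * x * (q ^ n)⁻¹) * q⁻¹ := by
      rw [pow_succ']; group
    rw [e]
    exact h'

theorem free_of_inverts (P : Subgroup G) (t : G) (hodd : Nat.Coprime (Nat.card P) 2)
    (ht : Inverts t P) : ∀ x ∈ P, t * x = x * t → x = 1 := by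
  intro x hx hcomm
  have h1 : x⁻¹ = x := by
    rw [← ht x hx, hcomm]; group
  have h2 : x ^ 2 = 1 := by
    rw [pow_two]
    nth_rewrite 1 [← h1]
    group
  have h3 : orderOf x ∣ 2 := orderOf_dvd_of_pow_eq_one h2
  have h4 : orderOf x ∣ Nat.card P := Subgroup.orderOf_dvd_natCard P hx
  have h5 := Nat.dvd_gcd h4 h3
  rw [Nat.Coprime] at hodd
  rw [hodd] at h5
  exact orderOf_eq_one_iff.1 (Nat.dvd_one.1 h5)

theorem sum_coset (hCC : ConjCoset.{u}) (ψ : IrrCharacter G) (P : Subgroup G) (q : G)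
    (hnorm : ∀ x ∈ P, q * x * q⁻¹ ∈ P) (hfree : ∀ x ∈ P, q * x = x * q → x = 1) :
    ∑ᶠ p : P, (ψ : G → ℂ) ((p : G) * q) = (Nat.card P : ℂ) * (ψ : G → ℂ) q := by
  have h : ∀ p : P, (ψ : G → ℂ) ((p : G) * q) = (ψ : G → ℂ) q := by
    intro p
    obtain ⟨g, hg, hgq⟩ := hCC G P q hnorm hfree p p.2
    rw [← hgq, irr_conj]
  have : Fintype P := Fintype.ofFinite P
  rw [finsum_eq_sum_of_fintype, Finset.sum_congr rfl (fun p _ => h p), Finset.sum_const,
    Finset.card_univ, Nat.card_eq_fintype_card, nsmul_eq_mul]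

theorem sum_sup (hSP : SumProd.{u}) (P : Subgroup G) (q : G)
    (hnorm : ∀ x ∈ P, q * x * q⁻¹ ∈ P)
    (hco : Nat.Coprime (Nat.card P) (orderOf q)) (f : G → ℂ) :
    Nat.card (P ⊔ Subgroup.zpowers q : Subgroup G) = Nat.card P * orderOf q ∧
    ∑ᶠ h : (P ⊔ Subgroup.zpowers q : Subgroup G), f (h : G)
      = ∑ k ∈ Finset.range (orderOf q), ∑ᶠ p : P, f ((p : G) * q ^ k) := by
  obtain ⟨h1, h2⟩ := hSP G P (Subgroup.zpowers q) (normalizes_zpowers P q hnorm)
    (fun x hxP hxq => eq_one_of_coprime P q x hco hxP hxq)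
  refine ⟨by rw [h1, Nat.card_zpowers], ?_⟩
  rw [h2 f]
  have : Fintype P := Fintype.ofFinite P
  have key : ∀ p : P, ∑ᶠ r : Subgroup.zpowers q, f ((p : G) * (r : G))
      = ∑ k ∈ Finset.range (orderOf q), f ((p : G) * q ^ k) :=
    fun p => sum_zpowers q (fun h => f ((p : G) * h))
  rw [finsum_eq_sum_of_fintype, Finset.sum_congr rfl (fun p _ => key p), Finset.sum_comm]
  refine Finset.sum_congr rfl (fun k _ => ?_)
  rw [finsum_eq_sum_of_fintype]

end Cfsg.Agent.Lib.Helper76.MUChar2
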