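import Mathlib
import Cfsg.Agent.Lib.Helper76.MUChar2

/-!
# S0420 (helper68 blueprint), piece CHARQ4
-/

set_option autoImplicit false

namespace Cfsg.Agent.Lib.Helper76.MUCHARQ4

open Cfsg Cfsg.Agent.Lib.Helper68.M11UStmt Cfsg.Agent.Lib.Helper92.M11Stmt
open Cfsg.Agent.Lib.Helper76.MUChar Cfsg.Agent.Lib.Helper76.MUChar2

universe u

theorem main (hMono : Mono.{u}) (hSP : SumProd.{u}) (hCC : ConjCoset.{u}) : CharQ4.{u} := by
  intro G _ _ _ hG D i P t q ht hinv hqq hqnorm hP hχt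
  have hP9 := card_syl3 hG P
  have ht1 : t ≠ 1 := by
    rintro rfl
    rw [orderOf_one] at ht
    omega
  have hq2 : q ^ 2 = t := by rw [pow_two, hqq]
  have hq4 : q ^ 4 = 1 := by
    have h : q ^ 4 = t ^ 2 := by rw [← hq2, ← pow_mul]
    rw [h, ← ht, pow_orderOf_eq_one]
  have hoq : orderOf q = 4 := by
    have h := orderOf_eq_prime_pow (x := q) (p := 2) (n := 1) (by rw [pow_one, hq2]; exact ht1)
      (by simpa using hq4)
    simpa using h
  have hq3 : q ^ 3 = q⁻¹ := by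
    apply eq_inv_of_mul_eq_one_left
    rw [← pow_succ, hq4]
  -- t
  have hcot : Nat.Coprime (Nat.card (P : Subgroup G)) (orderOf t) := by rw [hP9, ht]; norm_num
  have hnormt : ∀ x ∈ (P : Subgroup G), t * x * t⁻¹ ∈ (P : Subgroup G) := by
    intro x hx
    rw [hinv x hx]
    exact inv_mem hx
  have hfreet := free_of_inverts (P : Subgroup G) t (by rw [hP9]; norm_num) hinv
  -- q
  have hcoq : Nat.Coprime (Nat.card (P : Subgroup G)) (orderOf q) := by rw [hP9, hoq]; norm_num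
  have hfreeq : ∀ x ∈ (P : Subgroup G), q * x = x * q → x = 1 := by
    intro x hx h
    apply hfreet x hx
    rw [← hqq, mul_assoc, h, ← mul_assoc, h, mul_assoc]
  -- q⁻¹
  have hnormq' : ∀ x ∈ (P : Subgroup G), q⁻¹ * x * q⁻¹⁻¹ ∈ (P : Subgroup G) := fun x hx =>
    normalizes_zpowers (P : Subgroup G) q hqnorm q⁻¹ (inv_mem (Subgroup.mem_zpowers q)) x hx
  have hfreeq' : ∀ x ∈ (P : Subgroup G), q⁻¹ * x = x * q⁻¹ → x = 1 := by
    intro x hx h
    apply hfreeq x hx
    calc q * x = q * (x * q⁻¹) * q := by group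
      _ = q * (q⁻¹ * x) * q := by rw [h]
      _ = x * q := by group
  -- the sum over `P ⊔ ⟨t⟩`
  obtain ⟨hcardt, hsumt⟩ := sum_sup hSP (P : Subgroup G) t hnormt hcot (D.a i : G → ℂ)
  rw [ht] at hcardt hsumt
  rw [Finset.sum_range_succ, Finset.sum_range_one, pow_zero, pow_one] at hsumt
  simp only [mul_one] at hsumt
  rw [sum_P hG D i P hP, sum_coset hCC (D.a i) (P : Subgroup G) t hnormt hfreet, hP9, hχt]
    at hsumt
  -- the sum over `P ⊔ ⟨q⟩`
  obtain ⟨hcardq, hsumq⟩ := sum_sup hSP (P : Subgroup G) q hqnorm hcoq (D.a i : G → ℂ)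
  rw [hoq] at hcardq hsumq
  rw [Finset.sum_range_succ, Finset.sum_range_succ, Finset.sum_range_succ, Finset.sum_range_one,
    pow_zero, pow_one, hq2, hq3] at hsumq
  simp only [mul_one] at hsumq
  rw [sum_P hG D i P hP, sum_coset hCC (D.a i) (P : Subgroup G) t hnormt hfreet,
    sum_coset hCC (D.a i) (P : Subgroup G) q hqnorm hfreeq,
    sum_coset hCC (D.a i) (P : Subgroup G) q⁻¹ hnormq' hfreeq', hP9, hχt] at hsumq
  have hle : (P : Subgroup G) ⊔ Subgroup.zpowers t ≤ (P : Subgroup G) ⊔ Subgroup.zpowers q := by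
    apply sup_le_sup_left
    rw [Subgroup.zpowers_le, ← hq2]
    exact pow_mem (Subgroup.mem_zpowers q) 2
  obtain ⟨n, m, hmn, h1, h2⟩ := hMono G (D.a i : G → ℂ)
    (Cfsg.Agent.Lib.CT.Wedderburn.isCharacter_of_irr (D.a i).2) _ _ hle
  rw [hsumt, hcardt, hP9] at h1
  rw [hsumq, hcardq, hP9] at h2
  push_cast at h1 h2
  have hn : n = 2 := by
    have h : 18 * n = 36 := by
      have h' : (18 * (n : ℂ)) = 36 := by linear_combination -h1
      exact_mod_cast h'
    omega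
  refine ⟨m, by omega, ?_⟩
  linear_combination h2 / 9

example : Cfsg.Agent.Lib.Helper68.M11UStmt.Mono.{u} → Cfsg.Agent.Lib.Helper68.M11UStmt.SumProd.{u} →
    Cfsg.Agent.Lib.Helper68.M11UStmt.ConjCoset.{u} → Cfsg.Agent.Lib.Helper68.M11UStmt.CharQ4.{u} :=
  main

end Cfsg.Agent.Lib.Helper76.MUCHARQ4

#print axioms Cfsg.Agent.Lib.Helper76.MUCHARQ4.main
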