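import Mathlib
import Cfsg.Agent.Lib.Helper76.MUChar2

/-!
# S0420 (helper68 blueprint), piece CHART
-/

set_option autoImplicit false

namespace Cfsg.Agent.Lib.Helper76.MUCHART

open Cfsg Cfsg.Agent.Lib.Helper68.M11UStmt Cfsg.Agent.Lib.Helper92.M11Stmt
open Cfsg.Agent.Lib.Helper76.MUChar Cfsg.Agent.Lib.Helper76.MUChar2

universe u

theorem main (hMono : Mono.{u}) (hSP : SumProd.{u}) (hCC : ConjCoset.{u}) : CharT.{u} := by
  intro G _ _ _ hG D i P t ht hinv hP hpos
  have hP9 := card_syl3 hG P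
  have hco : Nat.Coprime (Nat.card (P : Subgroup G)) (orderOf t) := by rw [hP9, ht]; norm_num
  have hnorm : ∀ x ∈ (P : Subgroup G), t * x * t⁻¹ ∈ (P : Subgroup G) := by
    intro x hx
    rw [hinv x hx]
    exact inv_mem hx
  have hfree := free_of_inverts (P : Subgroup G) t (by rw [hP9]; norm_num) hinv
  obtain ⟨hcard, hsum⟩ := sum_sup hSP (P : Subgroup G) t hnorm hco (D.a i : G → ℂ)
  rw [ht] at hcard hsum
  rw [Finset.sum_range_succ, Finset.sum_range_one, pow_zero, pow_one] at hsum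
  simp only [mul_one] at hsum
  rw [sum_P hG D i P hP, sum_coset hCC (D.a i) (P : Subgroup G) t hnorm hfree, hP9] at hsum
  obtain ⟨n, m, hmn, h1, h2⟩ := hMono G (D.a i : G → ℂ)
    (Cfsg.Agent.Lib.CT.Wedderburn.isCharacter_of_irr (D.a i).2) (P : Subgroup G)
    ((P : Subgroup G) ⊔ Subgroup.zpowers t) le_sup_left
  rw [sum_P hG D i P hP, hP9] at h1
  rw [hsum, hcard, hP9] at h2
  push_cast at h1 h2
  have hn : n = 2 := by
    have h : 9 * n = 18 := by exact_mod_cast h1.symm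
    omega
  generalize (D.a i : G → ℂ) t = c at h2 hpos ⊢
  have hc : c = ((2 * (m : ℝ) - 2 : ℝ) : ℂ) := by
    push_cast
    linear_combination h2 / 9
  rw [hc, Complex.ofReal_re] at hpos
  have hm : m = 2 := by
    have h2m : 2 ≤ m := by
      by_contra hcon
      have : (m : ℝ) ≤ 1 := by exact_mod_cast (by omega : m ≤ 1)
      linarith
    omega
  rw [hc, hm]
  push_cast
  norm_num

example : Cfsg.Agent.Lib.Helper68.M11UStmt.Mono.{u} → Cfsg.Agent.Lib.Helper68.M11UStmt.SumProd.{u} →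
    Cfsg.Agent.Lib.Helper68.M11UStmt.ConjCoset.{u} → Cfsg.Agent.Lib.Helper68.M11UStmt.CharT.{u} :=
  main

end Cfsg.Agent.Lib.Helper76.MUCHART

#print axioms Cfsg.Agent.Lib.Helper76.MUCHART.main
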