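import Mathlib
import Cfsg.Agent.S4441
import Cfsg.Agent.S4499
import Cfsg.Agent.S0907
import Cfsg.Agent.S4466
import Cfsg.Agent.S0144
import Cfsg.Agent.S0493
import Cfsg.Agent.S0494
import Cfsg.Agent.S0495
import Cfsg.Agent.Lib.Helper78.PRQRed
import Cfsg.Agent.Lib.Helper58.PRQFive
import Cfsg.Agent.Lib.Helper1.PRQSeven
import Cfsg.Agent.Lib.Helper76.PQR
import Cfsg.Agent.Lib.Helper76.KleinDeg3
import Cfsg.Agent.Lib.Helper3.Orth
import Cfsg.Agent.Lib.Helper16.ZR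
import Cfsg.Agent.Lib.Helper85.BRLoc
import Cfsg.Agent.Lib.Helper75.KleinFour2
import Cfsg.Agent.Lib.CT.Knorr
import Cfsg.Agent.Lib.CT.ColumnId
import Cfsg.Agent.Lib.Helper80.Integrality
import Cfsg.Agent.Lib.Helper17.Sylow

/-!
Simple groups of order `3 p^a q^b` with `a ≤ 2` (Brauer–Tuan): they are `A₅` or `PSL(2,7)`.
-/

set_option autoImplicit false

namespace Cfsg.Agent.Lib.Helper76.BT3

open Cfsg
open scoped ComplexConjugate

/-! ### Arithmetic -/

theorem sq_add_one_ne (p q j : ℕ) (hp : p.Prime) (hq : q.Prime) (hp2 : p ≠ 2) :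
    p ^ 2 + 1 ≠ q ^ j := by
  intro h
  obtain ⟨k, hk⟩ := hp.odd_of_ne_two hp2
  have e : p ^ 2 + 1 = 4 * (k * k + k) + 2 := by rw [hk]; ring
  rw [e] at h
  have h2q : 2 ∣ q ^ j := by rw [← h]; omega
  have hq2 : q = 2 :=
    ((Nat.prime_dvd_prime_iff_eq Nat.prime_two hq).mp (Nat.prime_two.dvd_of_dvd_pow h2q)).symm
  subst hq2
  rcases j with _ | _ | j
  · simp at h
  · have hk0 : k * k + k = 0 := by omega
    have hk' : k = 0 := by nlinarith
    subst hk'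
    simp at hk
    exact hp.one_lt.ne' hk
  · have e1 : 2 ^ (j + 1 + 1) = 4 * 2 ^ j := by ring
    rw [e1] at h
    omega

theorem sq_ne_add_one (p q j : ℕ) (hp : p.Prime) (hq : q.Prime) (hp2 : p ≠ 2) (hp3 : p ≠ 3) :
    p ^ 2 ≠ q ^ j + 1 := by
  intro h
  have hp5 : 5 ≤ p := by
    have h2 := hp.two_le
    rcases Nat.lt_or_ge p 5 with h5 | h5
    · exfalso
      interval_cases p
      · exact hp2 rfl
      · exact hp3 rfl
      · exact absurd hp (by norm_num)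
    · exact h5
  obtain ⟨t, rfl⟩ : ∃ t, p = t + 2 := ⟨p - 2, by omega⟩
  have hfac : (t + 1) * (t + 3) = q ^ j := by
    have : (t + 2) ^ 2 = (t + 1) * (t + 3) + 1 := by ring
    omega
  have hq1 : q ∣ t + 1 := by
    obtain ⟨s, hs, hsd⟩ := Nat.exists_prime_and_dvd (show t + 1 ≠ 1 by omega)
    have h1 : s ∣ q ^ j := by rw [← hfac]; exact Dvd.dvd.mul_right hsd _
    have h2 := (Nat.prime_dvd_prime_iff_eq hs hq).mp (hs.dvd_of_dvd_pow h1)
    rw [← h2]; exact hsd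
  have hq2 : q ∣ t + 3 := by
    obtain ⟨s, hs, hsd⟩ := Nat.exists_prime_and_dvd (show t + 3 ≠ 1 by omega)
    have h1 : s ∣ q ^ j := by rw [← hfac]; exact Dvd.dvd.mul_left hsd _
    have h2 := (Nat.prime_dvd_prime_iff_eq hs hq).mp (hs.dvd_of_dvd_pow h1)
    rw [← h2]; exact hsd
  have hq22 : q ∣ 2 := by
    have e : t + 3 = (t + 1) + 2 := by omega
    rw [e] at hq2
    exact (Nat.dvd_add_right hq1).mp hq2
  have hqe : q = 2 := (Nat.prime_dvd_prime_iff_eq hq Nat.prime_two).mp hq22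
  subst hqe
  obtain ⟨u, -, hpu⟩ := (Nat.dvd_prime_pow Nat.prime_two).mp (Dvd.intro _ hfac : t + 1 ∣ 2 ^ j)
  obtain ⟨v, -, hpv⟩ := (Nat.dvd_prime_pow Nat.prime_two).mp (Dvd.intro_left _ hfac : t + 3 ∣ 2 ^ j)
  have h2 : 2 ^ v = 2 ^ u + 2 := by omega
  rcases u with _ | _ | u
  · simp at hpu; omega
  · simp at hpu; omega
  · rcases v with _ | _ | v
    · simp at h2
    · simp at h2
    · have e1 : 2 ^ (v + 1 + 1) = 4 * 2 ^ v := by ring
      have e2 : 2 ^ (u + 1 + 1) = 4 * 2 ^ u := by ring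
      rw [e1, e2] at h2
      omega

/-! ### Orders `p r q^b` -/

theorem card_60_or_168_aux {G : Type*} [Group G] [Finite G] [IsSimpleGroup G] (hG : ¬ IsCyclic G)
    (p q r b : ℕ) (hp : p.Prime) (hq : q.Prime) (hr : r.Prime) (hpq : p ≠ q) (hpr : p ≠ r)
    (hqr : q ≠ r) (hG' : Nat.card G = p * r * q ^ b) (hrp : r < p) :
    Nat.card G = 60 ∨ Nat.card G = 168 := by
  rcases Cfsg.Agent.Lib.Helper78.PRQRed.red hG p q r b hp hq hr hpq hpr hqr hG' hrp with
    ⟨rfl, rfl, rfl⟩ | ⟨rfl, rfl, rfl⟩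
  · left
    have hb := Cfsg.Agent.Lib.Helper58.PRQFive.five hG b hG'
    have hle : Nat.card G ≤ 100 := by
      rw [hG']
      have : 2 ^ b ≤ 2 ^ 2 := Nat.pow_le_pow_right (by norm_num) hb
      omega
    exact Cfsg.Agent.S0493.result hG hle
  · have hb := Cfsg.Agent.Lib.Helper1.PRQSeven.seven hG b hG'
    by_contra hne
    push Not at hne
    have hb2 : b ≤ 2 := by
      rcases Nat.lt_or_ge b 3 with h | h
      · omega
      · exfalso
        have : b = 3 := le_antisymm hb h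
        subst this
        exact hne.2 (by rw [hG']; norm_num)
    have hle : Nat.card G ≤ 100 := by
      rw [hG']
      have : 2 ^ b ≤ 2 ^ 2 := Nat.pow_le_pow_right (by norm_num) hb2
      omega
    exact hne.1 (Cfsg.Agent.S0493.result hG hle)

theorem card_60_or_168 {G : Type*} [Group G] [Finite G] [IsSimpleGroup G] (hG : ¬ IsCyclic G)
    (p q r b : ℕ) (hp : p.Prime) (hq : q.Prime) (hr : r.Prime) (hpq : p ≠ q) (hpr : p ≠ r)
    (hqr : q ≠ r) (hG' : Nat.card G = p * r * q ^ b) :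
    Nat.card G = 60 ∨ Nat.card G = 168 := by
  rcases lt_or_gt_of_ne hpr with h | h
  · exact card_60_or_168_aux hG r q p b hr hq hp (Ne.symm hqr) (Ne.symm hpr) (Ne.symm hpq)
      (by rw [hG']; ring) h
  · exact card_60_or_168_aux hG p q r b hp hq hr hpq hpr hqr hG' h

/-! ### Characters not vanishing at a self-centralizing element of order `3` -/

theorem vanish_outside {G : Type*} [Group G] [Finite G] (x : G)
    (hC : Nat.card (Subgroup.centralizer ({x} : Set G)) = 3)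
    (t ψ ψ' : IrrCharacter G) (h1 : t ≠ ψ) (h2 : t ≠ ψ') (h3 : ψ ≠ ψ')
    (ht : ‖(t : G → ℂ) x‖ = 1) (hψ : ‖(ψ : G → ℂ) x‖ = 1) (hψ' : ‖(ψ' : G → ℂ) x‖ = 1)
    (χ : IrrCharacter G) (hχ : (χ : G → ℂ) x ≠ 0) : χ = t ∨ χ = ψ ∨ χ = ψ' := by
  classical
  have := Cfsg.Agent.Lib.Helper3.Irr.finite_irrCharacter (G := G)
  let _ : Fintype (IrrCharacter G) := Fintype.ofFinite _
  have hso := Cfsg.Agent.Lib.Helper3.Orth.second_orthogonality_sum x x
  rw [if_pos (IsConj.refl x), hC] at hso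
  have hreal : ∑ φ : IrrCharacter G, Complex.normSq ((φ : G → ℂ) x) = 3 := by
    have h4 : ((∑ φ : IrrCharacter G, Complex.normSq ((φ : G → ℂ) x) : ℝ) : ℂ) = ((3 : ℝ) : ℂ) := by
      have hso' : ∑ φ : IrrCharacter G, (φ : G → ℂ) x * conj ((φ : G → ℂ) x) = 3 := by
        rw [hso]; norm_num
      push_cast
      rw [← hso']
      refine Finset.sum_congr rfl fun φ _ => ?_
      rw [Complex.mul_conj]
    exact_mod_cast h4
  by_contra hcon
  push Not at hcon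
  obtain ⟨c1, c2, c3⟩ := hcon
  have hsub := Finset.sum_le_sum_of_subset_of_nonneg
    (Finset.subset_univ ({χ, t, ψ, ψ'} : Finset (IrrCharacter G)))
    (fun i _ _ => Complex.normSq_nonneg ((i : G → ℂ) x))
  rw [hreal, Finset.sum_insert (by simp [c1, c2, c3]), Finset.sum_insert (by simp [h1, h2]),
    Finset.sum_pair h3] at hsub
  rw [Complex.normSq_eq_norm_sq, Complex.normSq_eq_norm_sq, Complex.normSq_eq_norm_sq,
    Complex.normSq_eq_norm_sq, ht, hψ, hψ'] at hsub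
  have hpos : 0 < ‖(χ : G → ℂ) x‖ := norm_pos_iff.mpr hχ
  nlinarith

/-! ### The `p`-block argument -/

theorem core {G : Type*} [Group G] [Finite G] (p q b : ℕ) (hp : p.Prime) (hq : q.Prime)
    (hpq : p ≠ q) (hp3 : p ≠ 3) (hG : Nat.card G = 3 * p ^ 2 * q ^ b) (x : G)
    (hx3 : orderOf x = 3) (ψp ψq : IrrCharacter G)
    (hvan : ∀ χ : IrrCharacter G, (χ : G → ℂ) x ≠ 0 →
      (χ : G → ℂ) = (fun _ => 1) ∨ χ = ψp ∨ χ = ψq)
    (hpx : (ψp : G → ℂ) x ≠ 0)
    (hpd : p ∣ charDegree (ψp : G → ℂ)) (hqd : ¬ p ∣ charDegree (ψq : G → ℂ)) :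
    p ^ 2 ∣ charDegree (ψp : G → ℂ) := by
  classical
  have : Fact p.Prime := ⟨hp⟩
  obtain ⟨M, hM⟩ := Cfsg.Agent.Lib.CT.Knorr.exists_isPModular p hp
  have hMp : M.IsPrime := hM.2.1.isPrime
  let S : Sylow p G := default
  have hnd : ¬ p ∣ 3 * q ^ b := by
    intro h
    rcases (Nat.Prime.dvd_mul hp).mp h with h | h
    · exact hp3 ((Nat.prime_dvd_prime_iff_eq hp Nat.prime_three).mp h)
    · exact hpq ((Nat.prime_dvd_prime_iff_eq hp hq).mp (hp.dvd_of_dvd_pow h))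
  have hS : Nat.card (S : Subgroup G) = p ^ 2 :=
    Cfsg.Agent.Lib.Helper17.Sylow.card_sylow_subgroup (p := p) (k := 2) (m := 3 * q ^ b)
      (by rw [hG]; ring) hnd S
  have hfac : (Nat.card G).factorization p = 2 := by
    have h1 := Sylow.card_eq_multiplicity S
    rw [hS] at h1
    exact (Nat.pow_right_injective hp.two_le h1).symm
  have hpG : p ∣ Nat.card G := by
    rw [hG]
    exact Dvd.dvd.mul_right (Dvd.dvd.mul_left (dvd_pow_self p two_ne_zero) 3) _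
  have hB : IsPBlock M (blockOf M (ψp : G → ℂ)) := ⟨ψp, rfl⟩
  have hmem : ψp ∈ blockOf M (ψp : G → ℂ) := Cfsg.Agent.Lib.Helper16.ZR.mem_blockOf_self hMp ψp
  have hdivall : ∀ χ ∈ blockOf M (ψp : G → ℂ), p ∣ charDegree (χ : G → ℂ) := by
    intro χ hχ
    have h1 := Cfsg.Agent.S4499.result p M hM hpG _ hB ψp hmem (by rw [hfac]; simpa using hpd) χ hχ
    rw [hfac] at h1
    simpa using h1
  have hvanish : ∀ g : G, p ∣ orderOf g → (ψp : G → ℂ) g = 0 := by
    intro g hg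
    have hxreg : ¬ p ∣ orderOf x := by
      rw [hx3]
      intro h
      exact hp3 ((Nat.prime_dvd_prime_iff_eq hp Nat.prime_three).mp h)
    have h0 := Cfsg.Agent.S0907.result p M hM _ hB x g hxreg hg
    rw [finsum_mem_def, finsum_eq_single _ ψp] at h0
    · rw [Set.indicator_of_mem hmem] at h0
      rcases mul_eq_zero.mp h0 with h | h
      · exact absurd h hpx
      · simpa using h
    · intro χ hχ
      by_cases hχB : χ ∈ blockOf M (ψp : G → ℂ)
      · rw [Set.indicator_of_mem hχB]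
        have hχx : (χ : G → ℂ) x = 0 := by
          by_contra hne
          rcases hvan χ hne with h | h | h
          · have hd := hdivall χ hχB
            rw [Cfsg.Agent.Lib.CT.Wedderburn.charDegree_eq_of_apply_one (n := 1)
              (by rw [h]; norm_num)] at hd
            exact hp.one_lt.ne' (Nat.dvd_one.mp hd)
          · exact hχ h
          · subst h; exact hqd (hdivall _ hχB)
        rw [hχx, zero_mul]
      · exact Set.indicator_of_notMem hχB _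
  obtain ⟨m, hm⟩ := Cfsg.Agent.Lib.Helper75.KleinFour2.restrict_const
    (Cfsg.Agent.Lib.CT.Wedderburn.isCharacter_of_irr ψp.2) (S : Subgroup G) 0 (by
      intro s hs hs1
      apply hvanish
      obtain ⟨k, hk⟩ := (IsPGroup.iff_orderOf.mp S.isPGroup') ⟨s, hs⟩
      rw [Subgroup.orderOf_mk] at hk
      have hk0 : k ≠ 0 := by
        rintro rfl
        rw [pow_zero, orderOf_eq_one_iff] at hk
        exact hs1 hk
      rw [hk]
      exact dvd_pow_self p hk0)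
  rw [mul_zero, add_zero, hS] at hm
  have hdeg := Cfsg.Agent.Lib.CT.Wedderburn.char_natCast_charDegree
    (Cfsg.Agent.Lib.CT.Wedderburn.isCharacter_of_irr ψp.2)
  rw [← hdeg] at hm
  have h5 : charDegree (ψp : G → ℂ) = p ^ 2 * m := by exact_mod_cast hm
  exact Dvd.intro _ h5.symm

/-! ### The principal `3`-block -/

theorem triple {G : Type*} [Group G] [Finite G] (M : Ideal AlgInt) (hM : IsPModular 3 M)
    (P : Sylow 3 G) (hP : Nat.card (P : Subgroup G) = 3)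
    (he : (Subgroup.centralizer ((P : Subgroup G) : Set G)).relIndex
      (Subgroup.normalizer ((P : Subgroup G) : Set G)) = 2)
    (x : G) (hxP : x ∈ (P : Subgroup G)) (hx3 : orderOf x = 3) :
    ∃ (c₁ c₂ c₃ : IrrCharacter G) (σ₁ σ₂ σ₃ : ℤ), c₁ ≠ c₂ ∧ c₁ ≠ c₃ ∧ c₂ ≠ c₃ ∧
      (∀ χ ∈ principalBlock M G, χ = c₁ ∨ χ = c₂ ∨ χ = c₃) ∧
      (σ₁ = 1 ∨ σ₁ = -1) ∧ (σ₂ = 1 ∨ σ₂ = -1) ∧ (σ₃ = 1 ∨ σ₃ = -1) ∧
      (c₁ : G → ℂ) x = σ₁ ∧ (c₂ : G → ℂ) x = σ₂ ∧ (c₃ : G → ℂ) x = σ₃ ∧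
      ¬ 3 ∣ charDegree (c₁ : G → ℂ) ∧ ¬ 3 ∣ charDegree (c₂ : G → ℂ) ∧
      ¬ 3 ∣ charDegree (c₃ : G → ℂ) ∧
      σ₁ * (charDegree (c₁ : G → ℂ) : ℤ) + σ₂ * (charDegree (c₂ : G → ℂ) : ℤ)
        + σ₃ * (charDegree (c₃ : G → ℂ) : ℤ) = 0 := by
  classical
  have : Fact (Nat.Prime 3) := ⟨Nat.prime_three⟩
  letI : Fintype G := Fintype.ofFinite G
  have hx1 : x ≠ 1 := by intro h; rw [h, orderOf_one] at hx3; omega
  obtain ⟨X, Y, hB, hdisj, hX2, hY1, εX, ε, hX, hε, hYdeg, -, hYrel⟩ :=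
    Cfsg.Agent.S4441.result 3 M hM (by norm_num) P hP 2 he
  rw [Nat.card_coe_set_eq, Set.ncard_eq_two] at hX2
  obtain ⟨χ₁, χ₂, h12, rfl⟩ := hX2
  have hY1' : Y.ncard = 1 := by rw [← Nat.card_coe_set_eq, hY1]
  rw [Set.ncard_eq_one] at hY1'
  obtain ⟨θ, rfl⟩ := hY1'
  have hθmem : θ ∉ ({χ₁, χ₂} : Set (IrrCharacter G)) := Set.disjoint_singleton_right.mp hdisj
  have hθ1 : χ₁ ≠ θ := by rintro rfl; exact hθmem (by simp)
  have hθ2 : χ₂ ≠ θ := by rintro rfl; exact hθmem (by simp)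
  obtain ⟨hs1, hd1, hv1⟩ := hX χ₁ (by simp)
  obtain ⟨hs2, hd2, hv2⟩ := hX χ₂ (by simp)
  have hreg1 : ¬ 3 ∣ orderOf (1 : G) := by rw [orderOf_one]; norm_num
  have hx1v : (χ₁ : G → ℂ) x = (εX χ₁ : ℂ) := by
    have := hv1 x hxP hx1 1 (one_mem _) hreg1
    rwa [mul_one] at this
  have hx2v : (χ₂ : G → ℂ) x = (εX χ₂ : ℂ) := by
    have := hv2 x hxP hx1 1 (one_mem _) hreg1
    rwa [mul_one] at this
  have hrel1 := hYrel θ (Set.mem_singleton θ) 1 hreg1
  rw [finsum_mem_pair h12] at hrel1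
  have horth := Cfsg.Agent.S0907.result 3 M hM (principalBlock M G)
    (Cfsg.Agent.Lib.CT.ColumnId.isPBlock_principal M) 1 x hreg1 (by rw [hx3])
  rw [hB, finsum_mem_union hdisj (Set.toFinite _) (Set.toFinite _), finsum_mem_pair h12,
    finsum_mem_singleton, hx1v, hx2v] at horth
  simp only [map_intCast] at horth
  have hθ1ne : (θ : G → ℂ) 1 ≠ 0 := Cfsg.Agent.Lib.CT.Wedderburn.irr_apply_one_ne_zero θ.2
  have hθx : (θ : G → ℂ) x = ((-ε : ℤ) : ℂ) := by
    have h5 : (θ : G → ℂ) 1 * (conj ((θ : G → ℂ) x) + ε) = 0 := by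
      linear_combination horth + hrel1
    have h6 : conj ((θ : G → ℂ) x) = -(ε : ℂ) := by
      rcases mul_eq_zero.mp h5 with h | h
      · exact absurd h hθ1ne
      · linear_combination h
    have h7 := congrArg conj h6
    rw [Complex.conj_conj] at h7
    rw [h7]
    simp
  have hc1 := Cfsg.Agent.Lib.CT.Wedderburn.char_natCast_charDegree
    (Cfsg.Agent.Lib.CT.Wedderburn.isCharacter_of_irr χ₁.2)
  have hc2 := Cfsg.Agent.Lib.CT.Wedderburn.char_natCast_charDegree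
    (Cfsg.Agent.Lib.CT.Wedderburn.isCharacter_of_irr χ₂.2)
  have hc3 := Cfsg.Agent.Lib.CT.Wedderburn.char_natCast_charDegree
    (Cfsg.Agent.Lib.CT.Wedderburn.isCharacter_of_irr θ.2)
  rw [← hc1, ← hc2, ← hc3] at hrel1
  have hrelZ : ε * (charDegree (θ : G → ℂ) : ℤ) = εX χ₁ * (charDegree (χ₁ : G → ℂ) : ℤ)
      + εX χ₂ * (charDegree (χ₂ : G → ℂ) : ℤ) := by
    exact_mod_cast hrel1
  refine ⟨χ₁, χ₂, θ, εX χ₁, εX χ₂, -ε, h12, hθ1, hθ2, ?_, hs1, hs2, ?_, hx1v, hx2v, hθx,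
    ?_, ?_, ?_, ?_⟩
  · intro χ hχ
    rw [hB] at hχ
    simp only [Set.mem_union, Set.mem_insert_iff, Set.mem_singleton_iff] at hχ
    rcases hχ with (h | h) | h
    · exact Or.inl h
    · exact Or.inr (Or.inl h)
    · exact Or.inr (Or.inr h)
  · rcases hε with h | h <;> simp [h]
  · intro h3
    have h3' : (3 : ℤ) ∣ (charDegree (χ₁ : G → ℂ) : ℤ) := by exact_mod_cast h3
    have h4 := hd1.dvd
    rcases hs1 with h | h <;> rw [h] at h4 <;> omega
  · intro h3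
    have h3' : (3 : ℤ) ∣ (charDegree (χ₂ : G → ℂ) : ℤ) := by exact_mod_cast h3
    have h4 := hd2.dvd
    rcases hs2 with h | h <;> rw [h] at h4 <;> omega
  · intro h3
    have h3' : (3 : ℤ) ∣ (charDegree (θ : G → ℂ) : ℤ) := by exact_mod_cast h3
    have h4 := (hYdeg θ (Set.mem_singleton θ)).dvd
    push_cast at h4
    rcases hε with h | h <;> rw [h] at h4 <;> omega
  · linarith

theorem pick {G : Type*} [Group G] [Finite G] [IsSimpleGroup G]
    (hnc : ¬ ∀ a b : G, a * b = b * a) (x : G) (a b : IrrCharacter G) (σa σb : ℤ) (hab : a ≠ b)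
    (ha1 : (a : G → ℂ) ≠ (fun _ => 1)) (hb1 : (b : G → ℂ) ≠ (fun _ => 1))
    (hσa : σa = 1 ∨ σa = -1) (hσb : σb = 1 ∨ σb = -1)
    (hax : (a : G → ℂ) x = σa) (hbx : (b : G → ℂ) x = σb)
    (h3a : ¬ 3 ∣ charDegree (a : G → ℂ)) (h3b : ¬ 3 ∣ charDegree (b : G → ℂ))
    (hrel : 1 + σa * (charDegree (a : G → ℂ) : ℤ) + σb * (charDegree (b : G → ℂ) : ℤ) = 0) :
    ∃ ψ ψ' : IrrCharacter G, ψ ≠ ψ' ∧ (ψ : G → ℂ) ≠ (fun _ => 1) ∧
      (ψ' : G → ℂ) ≠ (fun _ => 1) ∧ ‖(ψ : G → ℂ) x‖ = 1 ∧ ‖(ψ' : G → ℂ) x‖ = 1 ∧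
      ¬ 3 ∣ charDegree (ψ : G → ℂ) ∧ ¬ 3 ∣ charDegree (ψ' : G → ℂ) ∧
      charDegree (ψ : G → ℂ) + 1 = charDegree (ψ' : G → ℂ) := by
  have hna := (Cfsg.Agent.S4466.faithful_of_ne hnc a ha1).2
  have hnb := (Cfsg.Agent.S4466.faithful_of_ne hnc b hb1).2
  have hpa := Cfsg.Agent.Lib.CT.Wedderburn.irr_charDegree_pos a.2
  have hpb := Cfsg.Agent.Lib.CT.Wedderburn.irr_charDegree_pos b.2
  have hnorm : ∀ (c : IrrCharacter G) (σ : ℤ), (σ = 1 ∨ σ = -1) → (c : G → ℂ) x = σ →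
      ‖(c : G → ℂ) x‖ = 1 := by
    intro c σ hσ hc
    rw [hc]
    rcases hσ with h | h <;> simp [h]
  have ha := hnorm a σa hσa hax
  have hb := hnorm b σb hσb hbx
  rcases hσa with h | h <;> rcases hσb with h' | h' <;> subst h <;> subst h'
  · exfalso; omega
  · exact ⟨a, b, hab, ha1, hb1, ha, hb, h3a, h3b, by omega⟩
  · exact ⟨b, a, Ne.symm hab, hb1, ha1, hb, ha, h3b, h3a, by omega⟩
  · exfalso; omega

theorem b0_three_chars {G : Type*} [Group G] [Finite G] [IsSimpleGroup G]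
    (hnc : ¬ ∀ a b : G, a * b = b * a) (M : Ideal AlgInt) (hM : IsPModular 3 M)
    (P : Sylow 3 G) (hP : Nat.card (P : Subgroup G) = 3)
    (he : (Subgroup.centralizer ((P : Subgroup G) : Set G)).relIndex
      (Subgroup.normalizer ((P : Subgroup G) : Set G)) = 2)
    (x : G) (hxP : x ∈ (P : Subgroup G)) (hx3 : orderOf x = 3) :
    ∃ ψ ψ' : IrrCharacter G, ψ ≠ ψ' ∧ (ψ : G → ℂ) ≠ (fun _ => 1) ∧
      (ψ' : G → ℂ) ≠ (fun _ => 1) ∧ ‖(ψ : G → ℂ) x‖ = 1 ∧ ‖(ψ' : G → ℂ) x‖ = 1 ∧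
      ¬ 3 ∣ charDegree (ψ : G → ℂ) ∧ ¬ 3 ∣ charDegree (ψ' : G → ℂ) ∧
      charDegree (ψ : G → ℂ) + 1 = charDegree (ψ' : G → ℂ) := by
  obtain ⟨c₁, c₂, c₃, σ₁, σ₂, σ₃, h12, h13, h23, hall, hσ1, hσ2, hσ3, hv1, hv2, hv3, hd1, hd2,
    hd3, hrel⟩ := triple M hM P hP he x hxP hx3
  have hMp : M.IsPrime := hM.2.1.isPrime
  have htriv := Cfsg.Agent.Lib.CT.ThirdMain.triv_mem_principalBlock (G := G) hMp
  have hne : ∀ c : IrrCharacter G, c ≠ Cfsg.Agent.Lib.CT.ThirdMain.triv G →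
      (c : G → ℂ) ≠ (fun _ => 1) := by
    intro c hc h
    exact hc (Subtype.ext h)
  have hσ : ∀ σ : ℤ,
      ((Cfsg.Agent.Lib.CT.ThirdMain.triv G : IrrCharacter G) : G → ℂ) x = (σ : ℂ) → σ = 1 := by
    intro σ h
    have h1 : (1 : ℂ) = (σ : ℂ) := h
    exact_mod_cast h1.symm
  have hdt : charDegree ((Cfsg.Agent.Lib.CT.ThirdMain.triv G : IrrCharacter G) : G → ℂ) = 1 :=
    Cfsg.Agent.Lib.CT.Wedderburn.charDegree_eq_of_apply_one (n := 1)
      (by simp [Cfsg.Agent.Lib.CT.ThirdMain.coe_triv])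
  rcases hall _ htriv with h | h | h
  · subst h
    have h1 := hσ σ₁ hv1
    subst h1
    rw [hdt] at hrel
    exact pick hnc x c₂ c₃ σ₂ σ₃ h23 (hne c₂ (Ne.symm h12)) (hne c₃ (Ne.symm h13)) hσ2 hσ3
      hv2 hv3 hd2 hd3 (by push_cast at hrel ⊢; linarith)
  · subst h
    have h1 := hσ σ₂ hv2
    subst h1
    rw [hdt] at hrel
    exact pick hnc x c₁ c₃ σ₁ σ₃ h13 (hne c₁ h12) (hne c₃ (Ne.symm h23)) hσ1 hσ3
      hv1 hv3 hd1 hd3 (by push_cast at hrel ⊢; linarith)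
  · subst h
    have h1 := hσ σ₃ hv3
    subst h1
    rw [hdt] at hrel
    exact pick hnc x c₁ c₂ σ₁ σ₂ h12 (hne c₁ h13) (hne c₂ h23) hσ1 hσ2
      hv1 hv2 hd1 hd2 (by push_cast at hrel ⊢; linarith)

theorem finish (p q b dp dq : ℕ) (hp : p.Prime) (hq : q.Prime)
    (h1 : dp ∣ p ^ 2 * q ^ b) (h2 : dq ∣ p ^ 2 * q ^ b) (hdq0 : dq ≠ 0)
    (hqdp : ¬ q ∣ dp) (hpdq : ¬ p ∣ dq) (hsq : p ^ 2 ∣ dp) :
    dp = p ^ 2 ∧ ∃ j, dq = q ^ j := by
  constructor
  · have hcop : Nat.Coprime dp (q ^ b) :=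
      Nat.Coprime.pow_right b ((Nat.Prime.coprime_iff_not_dvd hq).mpr hqdp).symm
    exact Nat.dvd_antisymm (hcop.dvd_of_dvd_mul_right h1) hsq
  · refine ⟨_, Nat.eq_prime_pow_of_unique_prime_dvd hdq0 ?_⟩
    intro s hs hsd
    have h3 : s ∣ p ^ 2 * q ^ b := dvd_trans hsd h2
    rcases (Nat.Prime.dvd_mul hs).mp h3 with h | h
    · have h4 := (Nat.prime_dvd_prime_iff_eq hs hp).mp (hs.dvd_of_dvd_pow h)
      subst h4
      exact absurd hsd hpdq
    · exact (Nat.prime_dvd_prime_iff_eq hs hq).mp (hs.dvd_of_dvd_pow h)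

/-- There is no non-abelian simple group of order `3 p² q^b` with `p` an odd prime. -/
theorem no_p_sq {G : Type*} [Group G] [Finite G] [IsSimpleGroup G]
    (hna : ∃ x y : G, x * y ≠ y * x) (p q b : ℕ) (hp : p.Prime) (hq : q.Prime) (hpq : p ≠ q)
    (hp2 : p ≠ 2) (hp3 : p ≠ 3) (hq3 : q ≠ 3) (hG : Nat.card G = 3 * p ^ 2 * q ^ b) : False := by
  classical
  have : Fact (Nat.Prime 3) := ⟨Nat.prime_three⟩
  have hnc' : ¬ ∀ a b : G, a * b = b * a := by
    obtain ⟨x, y, hxy⟩ := hna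
    exact fun h => hxy (h x y)
  let P : Sylow 3 G := default
  have hnd : ¬ 3 ∣ p ^ 2 * q ^ b := by
    intro h
    rcases (Nat.Prime.dvd_mul Nat.prime_three).mp h with h | h
    · exact hp3 ((Nat.prime_dvd_prime_iff_eq Nat.prime_three hp).mp
        (Nat.prime_three.dvd_of_dvd_pow h)).symm
    · exact hq3 ((Nat.prime_dvd_prime_iff_eq Nat.prime_three hq).mp
        (Nat.prime_three.dvd_of_dvd_pow h)).symm
  have hP : Nat.card (P : Subgroup G) = 3 := by
    have h1 := Cfsg.Agent.Lib.Helper17.Sylow.card_sylow_subgroup (p := 3) (k := 1)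
      (m := p ^ 2 * q ^ b) (by rw [hG]; ring) hnd P
    simpa using h1
  have hCP : Subgroup.centralizer ((P : Subgroup G) : Set G) = (P : Subgroup G) :=
    Cfsg.Agent.Lib.Helper76.PQR.main p q 3 2 b hp hq hpq hp3 hq3 (by rw [hG]; ring) P
  have he2 := Cfsg.Agent.Lib.Helper85.BRLoc.relIndex_dvd_pred 3 P hP
  obtain ⟨x0, hx0⟩ := exists_prime_orderOf_dvd_card' 3
    (by rw [hP] : 3 ∣ Nat.card (P : Subgroup G))
  obtain ⟨x, hxP, hx3⟩ : ∃ x : G, x ∈ (P : Subgroup G) ∧ orderOf x = 3 :=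
    ⟨(x0 : G), x0.2, by rw [Subgroup.orderOf_coe]; exact hx0⟩
  have he : (Subgroup.centralizer ((P : Subgroup G) : Set G)).relIndex
      (Subgroup.normalizer ((P : Subgroup G) : Set G)) = 1 ∨
      (Subgroup.centralizer ((P : Subgroup G) : Set G)).relIndex
      (Subgroup.normalizer ((P : Subgroup G) : Set G)) = 2 := by
    have hle := Nat.le_of_dvd (by norm_num) he2
    have hpos : (Subgroup.centralizer ((P : Subgroup G) : Set G)).relIndex
      (Subgroup.normalizer ((P : Subgroup G) : Set G)) ≠ 0 := by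
      unfold Subgroup.relIndex
      exact Subgroup.index_ne_zero_of_finite
    omega
  rcases he with he1 | he2'
  · -- Burnside's transfer theorem
    have hNC : Subgroup.normalizer ((P : Subgroup G) : Set G)
        ≤ Subgroup.centralizer ((P : Subgroup G) : Set G) := Subgroup.relIndex_eq_one.mp he1
    have hcomp := MonoidHom.ker_transferSylow_isComplement' P hNC
    have hcard := hcomp.card_mul_card
    have hker : ((MonoidHom.transferSylow P hNC).ker).Normal := inferInstance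
    rcases hker.eq_bot_or_eq_top with h | h
    · rw [h, Subgroup.card_bot, hP, hG] at hcard
      have h1 : p ^ 2 * q ^ b = 1 := by nlinarith
      have h2 : p ^ 2 = 1 := Nat.eq_one_of_mul_eq_one_right h1
      have h3 := hp.one_lt
      nlinarith
    · rw [h, Subgroup.card_top, hP] at hcard
      have := Nat.card_pos (α := G)
      omega
  · obtain ⟨M, hM⟩ := Cfsg.Agent.Lib.CT.Knorr.exists_isPModular 3 Nat.prime_three
    obtain ⟨ψ, ψ', hne, hψ1, hψ'1, hψx, hψ'x, h3ψ, h3ψ', hdeg⟩ :=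
      b0_three_chars hnc' M hM P hP he2' x hxP hx3
    -- the centralizer of `x`
    have hzp : Subgroup.zpowers x = (P : Subgroup G) :=
      Subgroup.eq_of_le_of_card_ge (Subgroup.zpowers_le.mpr hxP)
        (by rw [Nat.card_zpowers, hx3, hP])
    have hCx' : Subgroup.centralizer ({x} : Set G)
        = Subgroup.centralizer ((P : Subgroup G) : Set G) := by
      apply le_antisymm
      · intro c hc
        rw [Subgroup.mem_centralizer_iff]
        intro y hy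
        have hy' : y ∈ Subgroup.zpowers x := by rw [hzp]; exact hy
        obtain ⟨k, rfl⟩ := Subgroup.mem_zpowers_iff.mp hy'
        have hcx : Commute x c := (Subgroup.mem_centralizer_singleton_iff.mp hc).symm
        exact (hcx.zpow_left k).eq
      · exact Subgroup.centralizer_le (Set.singleton_subset_iff.mpr hxP)
    have hCx : Nat.card (Subgroup.centralizer ({x} : Set G)) = 3 := by rw [hCx', hCP, hP]
    have htx : ‖((Cfsg.Agent.Lib.CT.ThirdMain.triv G : IrrCharacter G) : G → ℂ) x‖ = 1 := by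
      simp [Cfsg.Agent.Lib.CT.ThirdMain.coe_triv]
    have ht1 : Cfsg.Agent.Lib.CT.ThirdMain.triv G ≠ ψ := by
      intro h; exact hψ1 (by rw [← h]; rfl)
    have ht2 : Cfsg.Agent.Lib.CT.ThirdMain.triv G ≠ ψ' := by
      intro h; exact hψ'1 (by rw [← h]; rfl)
    have hvan : ∀ χ : IrrCharacter G, (χ : G → ℂ) x ≠ 0 →
        (χ : G → ℂ) = (fun _ => 1) ∨ χ = ψ ∨ χ = ψ' := by
      intro χ hχ
      rcases vanish_outside x hCx (Cfsg.Agent.Lib.CT.ThirdMain.triv G) ψ ψ' ht1 ht2 hne htx hψx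
        hψ'x χ hχ with h | h | h
      · left; rw [h]; rfl
      · exact Or.inr (Or.inl h)
      · exact Or.inr (Or.inr h)
    have hψx0 : (ψ : G → ℂ) x ≠ 0 := by
      intro h; rw [h, norm_zero] at hψx; exact zero_ne_one hψx
    have hψ'x0 : (ψ' : G → ℂ) x ≠ 0 := by
      intro h; rw [h, norm_zero] at hψ'x; exact zero_ne_one hψ'x
    -- arithmetic of the degrees
    have hG' : Nat.card G = 3 * (p ^ 2 * q ^ b) := by rw [hG]; ring
    have hf1 : charDegree (ψ : G → ℂ) ∣ p ^ 2 * q ^ b := by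
      have h1 := Cfsg.Agent.Lib.Helper80.Integrality.charDegree_dvd_card ψ
      rw [hG'] at h1
      exact ((Nat.Prime.coprime_iff_not_dvd Nat.prime_three).mpr h3ψ).symm.dvd_of_dvd_mul_left h1
    have hf2 : charDegree (ψ' : G → ℂ) ∣ p ^ 2 * q ^ b := by
      have h1 := Cfsg.Agent.Lib.Helper80.Integrality.charDegree_dvd_card ψ'
      rw [hG'] at h1
      exact ((Nat.Prime.coprime_iff_not_dvd Nat.prime_three).mpr h3ψ').symm.dvd_of_dvd_mul_left h1
    have hn1 := (Cfsg.Agent.S4466.faithful_of_ne hnc' ψ hψ1).2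
    have hn2 := (Cfsg.Agent.S4466.faithful_of_ne hnc' ψ' hψ'1).2
    have hpos1 := Cfsg.Agent.Lib.CT.Wedderburn.irr_charDegree_pos ψ.2
    have hpos2 := Cfsg.Agent.Lib.CT.Wedderburn.irr_charDegree_pos ψ'.2
    have hcases : ∀ s : ℕ, s.Prime → s ∣ p ^ 2 * q ^ b → s = p ∨ s = q := by
      intro s hs h
      rcases (Nat.Prime.dvd_mul hs).mp h with h | h
      · exact Or.inl ((Nat.prime_dvd_prime_iff_eq hs hp).mp (hs.dvd_of_dvd_pow h))
      · exact Or.inr ((Nat.prime_dvd_prime_iff_eq hs hq).mp (hs.dvd_of_dvd_pow h))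
    obtain ⟨r, hr, hrd⟩ := Nat.exists_prime_and_dvd hn1
    obtain ⟨r', hr', hrd'⟩ := Nat.exists_prime_and_dvd hn2
    have hconsec : ∀ s : ℕ, s.Prime → s ∣ charDegree (ψ : G → ℂ) →
        ¬ s ∣ charDegree (ψ' : G → ℂ) := by
      intro s hs h1 h2
      rw [← hdeg] at h2
      exact hs.one_lt.ne' (Nat.dvd_one.mp ((Nat.dvd_add_right h1).mp h2))
    rcases hcases r hr (dvd_trans hrd hf1) with h | h
    · rw [h] at hrd
      rcases hcases r' hr' (dvd_trans hrd' hf2) with h' | h' <;> rw [h'] at hrd'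
      · exact hconsec p hp hrd hrd'
      · -- `p ∣ deg ψ`, `q ∣ deg ψ'`
        have hsq := core p q b hp hq hpq hp3 hG x hx3 ψ ψ' hvan hψx0 hrd (hconsec p hp hrd)
        obtain ⟨e1, j, e2⟩ := finish p q b _ _ hp hq hf1 hf2 hpos2.ne'
          (fun h => hconsec q hq h hrd') (hconsec p hp hrd) hsq
        rw [e1, e2] at hdeg
        exact sq_add_one_ne p q j hp hq hp2 hdeg
    · rw [h] at hrd
      rcases hcases r' hr' (dvd_trans hrd' hf2) with h' | h' <;> rw [h'] at hrd'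
      · -- `q ∣ deg ψ`, `p ∣ deg ψ'`
        have hvan' : ∀ χ : IrrCharacter G, (χ : G → ℂ) x ≠ 0 →
            (χ : G → ℂ) = (fun _ => 1) ∨ χ = ψ' ∨ χ = ψ := by
          intro χ hχ
          rcases hvan χ hχ with h | h | h
          · exact Or.inl h
          · exact Or.inr (Or.inr h)
          · exact Or.inr (Or.inl h)
        have hpψ : ¬ p ∣ charDegree (ψ : G → ℂ) := fun h => hconsec p hp h hrd'
        have hsq := core p q b hp hq hpq hp3 hG x hx3 ψ' ψ hvan' hψ'x0 hrd' hpψ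
        obtain ⟨e1, j, e2⟩ := finish p q b _ _ hp hq hf2 hf1 hpos1.ne'
          (hconsec q hq hrd) hpψ hsq
        rw [e1, e2] at hdeg
        exact sq_ne_add_one p q j hp hq hp2 hp3 hdeg.symm
      · exact hconsec q hq hrd hrd'

/-- **Brauer–Tuan**: a non-abelian simple group of order `3 p^a q^b` with `a ≤ 2` is `A₅` or
`PSL(2,7)`. -/
theorem part_two {G : Type*} [Group G] [Finite G] [IsSimpleGroup G]
    (hna : ∃ x y : G, x * y ≠ y * x) (p q a b : ℕ) (hp : p.Prime) (hq : q.Prime) (hpq : p ≠ q)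
    (ha : a ≤ 2) (hG : Nat.card G = 3 * p ^ a * q ^ b) :
    Nonempty (G ≃* alternatingGroup (Fin 5)) ∨
      Nonempty (G ≃* Matrix.ProjectiveSpecialLinearGroup (Fin 2) (ZMod 7)) := by
  classical
  have hnc' : ¬ ∀ a b : G, a * b = b * a := by
    obtain ⟨x, y, hxy⟩ := hna
    exact fun h => hxy (h x y)
  have hns : ¬ Group.IsSolvable G := fun h => hnc' (IsSimpleGroup.comm_iff_isSolvable.mpr h)
  have hncyc : ¬ IsCyclic G := fun h =>
    hnc' (fun a b => (IsCyclic.commGroup (α := G)).mul_comm a b)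
  have hp3 : p ≠ 3 := by
    rintro rfl
    exact hns (Cfsg.Agent.S0144.result 3 q (a + 1) b Nat.prime_three hq (by rw [hG]; ring))
  have hq3 : q ≠ 3 := by
    rintro rfl
    exact hns (Cfsg.Agent.S0144.result p 3 a (b + 1) hp Nat.prime_three (by rw [hG]; ring))
  interval_cases a
  · exact absurd (Cfsg.Agent.S0144.result 3 q 1 b Nat.prime_three hq (by rw [hG]; ring)) hns
  · rcases card_60_or_168 hncyc p q 3 b hp hq Nat.prime_three hpq hp3 hq3
      (by rw [hG]; ring) with h | h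
    · exact Or.inl (Cfsg.Agent.S0494.result h)
    · right
      have : Fact (Nat.Prime 7) := ⟨by norm_num⟩
      exact Cfsg.Agent.S0495.result h (F := ZMod 7) (ZMod.card 7)
  · by_cases hp2 : p = 2
    · subst hp2
      left
      exact Cfsg.Agent.Lib.Helper76.KleinDeg3.part_one hna 3 q 1 b Nat.prime_three hq
        (Ne.symm hq3) (by rw [hG]; ring)
    · exact (no_p_sq hna p q b hp hq hpq hp2 hp3 hq3 hG).elim

end Cfsg.Agent.Lib.Helper76.BT3
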