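import Mathlib
import Cfsg.Prelude.Def_Characters
import Cfsg.Agent.Lib.Helper32.D8Stmt
import Cfsg.Agent.Lib.CT.FrobRec
import Cfsg.Agent.Lib.Helper46.D8CSD1

/-!
# S3716 piece CSD2 (third seat, helper76)

`main (hCS3 : CS3) (hBB : BBINV) (hDUAL : DUAL) : CSD2`: the class-pair table of the
`x*y`-side when `a ~ a*b`, from `CS3` applied to the dual configuration (same transport as
`Helper46.D8CSD1`).
-/

set_option autoImplicit false

namespace Cfsg.Agent.Lib.Helper76.D8CSD2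

open Cfsg
open Cfsg.Agent.Lib.Helper32.D8Stmt
open Cfsg.Agent.Lib.Helper46.D8CSD1 (cz_conj isConj_conj_left isConj_conj_right tab_dual)

universe u

theorem main (hCS3 : CS3.{u}) (hBB : BBINV.{u}) (hDUAL : DUAL.{u}) : CSD2.{u} := by
  intro G _ _ T N x y a b w hC f' g' hO h1 h2
  obtain ⟨hC', e1, e2, e3, -, -⟩ := hDUAL hC
  have k1 : ¬ IsConj (w * a * b) b := by
    rw [e1]
    intro hc
    rw [isConj_conj_left] at hc
    have e3' := e3
    rw [e3'] at hc
    rw [isConj_conj_right] at hc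
    exact h1 hc.symm
  have k2 : IsConj b (w * a * b * w) := by
    rw [e2]
    have hc : IsConj (w * a * w⁻¹) (a * b) := (isConj_conj_left w a (a * b)).2 h2
    rw [← e3] at hc
    exact hc
  obtain ⟨t1, t2⟩ := hCS3 hC' f' g' hO k1 k2
  have c1 : cz (w * a * b) = cz w := by rw [e1]; exact cz_conj a w
  have c2 : cz b = cz a := by
    have : cz (w * a * w⁻¹) = cz a := cz_conj w a
    rw [← e3] at this
    exact this
  rw [c1, c2] at t1 t2
  have hcf1 : IsClassFunction G (th1 (x * y) f') :=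
    Cfsg.Agent.Lib.CT.FrobRec.indFun_isClassFunction _ _
  have hcf2 : IsClassFunction G (th2 (x * y) f' g') :=
    Cfsg.Agent.Lib.CT.FrobRec.indFun_isClassFunction _ _
  have hcomm : 3 * cz w * cz a / (2 * (Nat.card G : ℂ)) =
      3 * cz a * cz w / (2 * (Nat.card G : ℂ)) := by ring
  have t1' : Tab (th1 (x * y) f') (a * w * a⁻¹) (w * a * w⁻¹)
      (cz w ^ 2 / (2 * (Nat.card G : ℂ))) (3 * cz a * cz w / (2 * (Nat.card G : ℂ)))
      (11 * cz a ^ 2 / (2 * (Nat.card G : ℂ))) := by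
    rw [← hcomm, ← e1, ← e3]; exact t1
  have t2' : Tab (th2 (x * y) f' g') (a * w * a⁻¹) (w * a * w⁻¹)
      (cz w ^ 2 / (2 * (Nat.card G : ℂ))) (-(3 * cz a * cz w / (2 * (Nat.card G : ℂ))))
      (11 * cz a ^ 2 / (2 * (Nat.card G : ℂ))) := by
    rw [← hcomm, ← e1, ← e3]; exact t2
  exact ⟨tab_dual hBB _ hcf1 a w _ _ _ t1', tab_dual hBB _ hcf2 a w _ _ _ t2'⟩

#print axioms main

end Cfsg.Agent.Lib.Helper76.D8CSD2
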