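import Mathlib
import Cfsg.Agent.Lib.Helper32.D8Stmt
import Cfsg.Agent.Lib.Helper49.S9FIB2

/-! S3716 piece FIB2b (second seat helper76): `Helper49.S9FIB2.single` twice. -/

set_option autoImplicit false

namespace Cfsg.Agent.Lib.Helper76.D8FIB2b

open Cfsg
open Cfsg.Agent.Lib.Helper32
open scoped ComplexConjugate

universe u

theorem main : D8Stmt.FIB2b.{u} := by
  intro G _ _ F u v
  classical
  have h1 : ∀ g₁ : G, ∑ g₂ : G, F (g₁ * u * g₁⁻¹) (g₂ * v * g₂⁻¹) =
      (Nat.card (Subgroup.centralizer ({v} : Set G)) : ℂ) *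
        ∑ z ∈ Finset.univ.filter (fun z : G => IsConj v z), F (g₁ * u * g₁⁻¹) z :=
    fun g₁ => Cfsg.Agent.Lib.Helper49.S9FIB2.single (fun w => F (g₁ * u * g₁⁻¹) w) v
  simp only [h1]
  rw [← Finset.mul_sum]
  have h2 := Cfsg.Agent.Lib.Helper49.S9FIB2.single
    (fun w => ∑ z ∈ Finset.univ.filter (fun z : G => IsConj v z), F w z) u
  rw [h2]
  unfold D8Stmt.cz
  ring

#print axioms main

end Cfsg.Agent.Lib.Helper76.D8FIB2b
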