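import Mathlib
import Cfsg.Agent.Lib.Helper26.J3Stmt

/-!
# S3366 piece COORD: the normal form `ι u * z ^ c * κ A` is a bijection onto `X`.
-/

set_option autoImplicit false

namespace Cfsg.Agent.Lib.Helper76.J3COORD

open Cfsg.Agent.Lib.Helper26.J3Stmt

universe u

theorem main : COORD.{u} := by
  intro X _ hH hZ t K ι z κ hT hS hF hκinj hκK hκι
  obtain ⟨hfin, hES, hR27, hexp, ⟨φ⟩, hO2, hE⟩ := hH
  obtain ⟨hZ3, hZR, hZcomm, hZcen, hZcentral⟩ := hZ
  obtain ⟨hKt, hKR, hK24⟩ := hS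
  obtain ⟨hιR, hιt, hzZ, hz1, hιsurj, hιinj, hιmul⟩ := hF
  refine ⟨ι, z, κ, ?_, ?_, ?_, hιmul, hκι⟩
  · have hinj : Function.Injective
        (fun p : V × ZMod 3 × SL => ι p.1 * z ^ p.2.1.val * κ p.2.2) := by
      rintro ⟨u, c, A⟩ ⟨u', c', A'⟩ h
      simp only at h
      have hr : ι u * z ^ c.val ∈ R X :=
        (R X).mul_mem (hιR u) ((R X).pow_mem (hZR hzZ) _)
      have hr' : ι u' * z ^ c'.val ∈ R X :=
        (R X).mul_mem (hιR u') ((R X).pow_mem (hZR hzZ) _)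
      have h1 : (ι u' * z ^ c'.val)⁻¹ * (ι u * z ^ c.val) = κ A' * (κ A)⁻¹ := by
        rw [inv_mul_eq_iff_eq_mul, ← mul_assoc, ← h, mul_assoc, mul_inv_cancel, mul_one]
      have h2 : (ι u' * z ^ c'.val)⁻¹ * (ι u * z ^ c.val) ∈ K ⊓ R X := by
        refine ⟨?_, (R X).mul_mem ((R X).inv_mem hr') hr⟩
        rw [h1]
        exact K.mul_mem (hκK A') (K.inv_mem (hκK A))
      rw [hKR, Subgroup.mem_bot] at h2
      have h3 : ι u * z ^ c.val = ι u' * z ^ c'.val := (inv_mul_eq_one.1 h2).symm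
      have h4 : κ A' * (κ A)⁻¹ = 1 := by rw [← h1, h2]
      have h5 : κ A' = κ A := mul_inv_eq_one.1 h4
      obtain ⟨h6, h7⟩ := hιinj u u' c c' h3
      rw [h6, h7, hκinj h5]
    have : Finite X := hfin
    apply hinj.bijective_of_nat_card_le
    have hX : Nat.card X = Nat.card (X ⧸ R X) * Nat.card (R X) :=
      Subgroup.card_eq_card_quotient_mul_card_subgroup (R X)
    have hQ : Nat.card (X ⧸ R X) = Nat.card SL := Nat.card_congr φ.toEquiv
    have hV : Nat.card V = 9 := by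
      rw [Nat.card_eq_fintype_card]
      simp [V, ZMod.card]
    have hz3 : Nat.card (ZMod 3) = 3 := by
      rw [Nat.card_eq_fintype_card, ZMod.card]
    rw [hX, hQ, hR27, Nat.card_prod, Nat.card_prod, hV, hz3]
    omega
  · exact hexp z (hZR hzZ)
  · exact hZcentral z hzZ

#print axioms main

end Cfsg.Agent.Lib.Helper76.J3COORD
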