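import Mathlib
import Cfsg.Agent.Lib.Helper88.MCStmt

set_option autoImplicit false

/-!
# S4245 / SYLCYC  (helper76, second seat)
-/

namespace Cfsg.Agent.Lib.Helper76.MCSYLCYC

open Cfsg.Agent.Lib.Helper88.MCStmt

universe u

theorem main : SylCyc.{u} := by
  intro G _ _ A p s hp hp2 hAidx B _ hcyc r hr hodd
  haveI : Fact (Nat.Prime 2) := ⟨Nat.prime_two⟩
  -- the order of `G`
  have hcardG : Nat.card G = 2 ^ r * (Nat.card ↥B * p ^ s) := by
    have h1 := Subgroup.card_mul_index A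
    have h2 := Subgroup.card_eq_card_quotient_mul_card_subgroup B
    rw [← h1, h2, hr, hAidx, mul_assoc]
  have hmodd : Odd (Nat.card ↥B * p ^ s) := Odd.mul hodd (Odd.pow (hp.odd_of_ne_two hp2))
  have hm0 : Nat.card ↥B * p ^ s ≠ 0 := by
    intro h; rw [h] at hmodd; exact absurd hmodd (by decide)
  have hfac : (Nat.card G).factorization 2 = r := by
    rw [hcardG, Nat.factorization_mul (pow_ne_zero r (by norm_num)) hm0, Finsupp.add_apply,
      Nat.Prime.factorization_pow Nat.prime_two, Finsupp.single_eq_same,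
      Nat.factorization_eq_zero_of_not_dvd hmodd.not_two_dvd_nat, add_zero]
  -- a generator of `A ⧸ B`
  haveI := hcyc
  obtain ⟨q, hq⟩ := IsCyclic.exists_generator (α := ↥A ⧸ B)
  obtain ⟨g, rfl⟩ := QuotientGroup.mk_surjective q
  have hoq : orderOf (g : ↥A ⧸ B) = 2 ^ r := by
    rw [orderOf_eq_card_of_forall_mem_zpowers hq, hr]
  have hdvd : 2 ^ r ∣ orderOf g := by
    rw [← hoq]
    exact orderOf_map_dvd (QuotientGroup.mk' B) g
  have hg0 : orderOf g ≠ 0 := (orderOf_pos g).ne'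
  have hot : orderOf (g ^ (orderOf g / 2 ^ r)) = 2 ^ r := orderOf_pow_orderOf_div hg0 hdvd
  have hot' : orderOf ((g ^ (orderOf g / 2 ^ r) : ↥A) : G) = 2 ^ r := by
    rw [Subgroup.orderOf_coe]; exact hot
  have hcard : Nat.card (Subgroup.zpowers ((g ^ (orderOf g / 2 ^ r) : ↥A) : G)) =
      2 ^ (Nat.card G).factorization 2 := by
    rw [Nat.card_zpowers, hot', hfac]
  refine ⟨Sylow.ofCard (Subgroup.zpowers ((g ^ (orderOf g / 2 ^ r) : ↥A) : G)) hcard, ?_, ?_⟩
  · rw [Sylow.coe_ofCard]; infer_instance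
  · rw [Sylow.coe_ofCard, Nat.card_zpowers, hot']

#print axioms main

end Cfsg.Agent.Lib.Helper76.MCSYLCYC
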