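import Mathlib
import Cfsg.Agent.Lib.Helper68.MixStmt

/-!
# S4017 piece BSTAR: two Sylow `p`-subgroups sharing an element `e ≠ 1` that commutes with an
involution are equal.
-/

set_option autoImplicit false

namespace Cfsg.Agent.Lib.Helper76.MixBSTAR

open Cfsg.Agent.Lib.Helper68.MixStmt

universe u

theorem p_ne_two {p a : ℕ} (hpa : p + 1 = 2 ^ a) (ha : 2 ≤ a) : p ≠ 2 := by
  intro h
  have h1 : 2 ^ 2 ≤ 2 ^ a := Nat.pow_le_pow_right (by norm_num) ha
  omega

/-- a `p`-element of `X` lies in the normal `p`-subgroup `V` of index `2^a`. -/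
theorem mem_npc {G : Type u} [Group G] [Finite G] {p a : ℕ} (hp : p.Prime) (hp2 : p ≠ 2)
    {X V : Subgroup G} (hVX : V ≤ X) (hnorm : ∀ g ∈ X, ∀ v ∈ V, g * v * g⁻¹ ∈ V)
    (hcard : Nat.card X = 2 ^ a * Nat.card V) {w : G} (hwX : w ∈ X)
    (hw : ∃ k : ℕ, orderOf w = p ^ k) : w ∈ V := by
  obtain ⟨k, hk⟩ := hw
  have hVn : (V.subgroupOf X).Normal := by
    constructor
    intro n hn g
    rw [Subgroup.mem_subgroupOf] at hn ⊢
    exact hnorm g.1 g.2 n.1 hn
  have hcV : Nat.card (V.subgroupOf X) = Nat.card V :=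
    Nat.card_congr (Subgroup.subgroupOfEquivOfLe hVX).toEquiv
  have hidx : (V.subgroupOf X).index = 2 ^ a := by
    have h1 := Subgroup.card_mul_index (V.subgroupOf X)
    rw [hcV, hcard, mul_comm] at h1
    exact Nat.eq_of_mul_eq_mul_right Nat.card_pos h1
  have h2 : w ^ (2 ^ a) ∈ V := by
    have h3 := Subgroup.pow_index_mem (V.subgroupOf X) (⟨w, hwX⟩ : X)
    rw [hidx, Subgroup.mem_subgroupOf] at h3
    simpa using h3
  have h4 : w ^ (p ^ k) = 1 := by rw [← hk]; exact pow_orderOf_eq_one w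
  have hcop : Nat.Coprime (2 ^ a) (p ^ k) :=
    Nat.Coprime.pow _ _ ((Nat.coprime_primes Nat.prime_two hp).2 (Ne.symm hp2))
  have h5 : ((2 ^ a : ℕ) : ℤ) * Nat.gcdA (2 ^ a) (p ^ k) +
      ((p ^ k : ℕ) : ℤ) * Nat.gcdB (2 ^ a) (p ^ k) = 1 := by
    have h6 := Nat.gcd_eq_gcd_ab (2 ^ a) (p ^ k)
    rw [Nat.Coprime.gcd_eq_one hcop] at h6
    exact_mod_cast h6.symm
  have h7 : w = (w ^ (2 ^ a)) ^ (Nat.gcdA (2 ^ a) (p ^ k)) *
      (w ^ (p ^ k)) ^ (Nat.gcdB (2 ^ a) (p ^ k)) := by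
    rw [← zpow_natCast, ← zpow_natCast, ← zpow_mul, ← zpow_mul, ← zpow_add, h5, zpow_one]
  rw [h7, h4, one_zpow, mul_one]
  exact V.zpow_mem h2 _

theorem le_normalizer_of_conj {G : Type u} [Group G] (H K : Subgroup G)
    (hK : ∀ m ∈ K, ∀ o ∈ H, m * o * m⁻¹ ∈ H) : K ≤ Subgroup.normalizer (H : Set G) := by
  intro m hm
  rw [Subgroup.mem_normalizer_iff]
  intro o
  constructor
  · exact hK m hm o
  · intro h
    have h1 := hK m⁻¹ (K.inv_mem hm) _ h
    have h2 : m⁻¹ * (m * o * m⁻¹) * m⁻¹⁻¹ = o := by group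
    rwa [h2] at h1

theorem isPElt_of_mem_sylow {G : Type u} [Group G] {p : ℕ} [Fact p.Prime] (W : Sylow p G) {w : G}
    (hw : w ∈ W) : IsPElt p w := by
  obtain ⟨k, hk⟩ := IsPGroup.iff_orderOf.1 W.isPGroup' ⟨w, hw⟩
  rw [Subgroup.orderOf_mk] at hk
  exact ⟨k, hk⟩

/-- exponent 2 implies commutative. -/
theorem comm_of_exp_two {G : Type u} [Group G] (H : Subgroup G) (hexp : ∀ s ∈ H, s * s = 1)
    {x z : G} (hx : x ∈ H) (hz : z ∈ H) : x * z = z * x := by
  have h1 := hexp x hx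
  have h2 := hexp z hz
  have h3 := hexp (x * z) (H.mul_mem hx hz)
  have h4 : x * z = z⁻¹ * x⁻¹ := by
    have : x * z * (x * z) = 1 := h3
    rw [← mul_inv_rev]
    exact eq_inv_of_mul_eq_one_left this
  have h5 : z⁻¹ = z := (eq_inv_of_mul_eq_one_left h2).symm
  have h6 : x⁻¹ = x := (eq_inv_of_mul_eq_one_left h1).symm
  rw [h4, h5, h6]

theorem key (hLEMM : LEMM.{u}) (hNCENT : NCENT.{u}) (hINVN : INVN.{u}) (hCONJ : CONJ.{u})
    (hSIMPLE : SIMPLE.{u}) (hEXP : EXP.{u})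
    {G : Type u} [Group G] [Finite G] {p a : ℕ} {Q : Subgroup G} {y : G} (ctx : BCtx G p a Q y)
    (hnoP : ∀ x ∈ Subgroup.centralizer (Q : Set G), IsPElt p x → x = 1)
    {e s : G} (hene : e ≠ 1) (hs : orderOf s = 2) (hes : e * s = s * e) (hpe : IsPElt p e)
    (O : Subgroup G)
    (hOn : ∀ m ∈ Subgroup.centralizer ({e} : Set G), ∀ o ∈ O, m * o * m⁻¹ ∈ O)
    (hO2 : IsPGroup 2 O)
    (w : G) (hw : w ∈ Subgroup.centralizer ({e} : Set G)) (hwp : IsPElt p w) :
    ∀ o ∈ O, w * o = o * w := by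
  classical
  intro o ho
  have hp := ctx.hp
  have hp2 : p ≠ 2 := p_ne_two ctx.hpa ctx.ha
  have : Fact p.Prime := ⟨hp⟩
  have : Fact (2 : ℕ).Prime := ⟨Nat.prime_two⟩
  by_cases hObot : O = ⊥
  · rw [hObot, Subgroup.mem_bot] at ho
    rw [ho, mul_one, one_mul]
  -- `O ≤ Q^h`
  have hQS : Nat.card Q = 2 ^ (Nat.card G).factorization 2 := by rw [ctx.hQ, ctx.hfac]
  let QS : Sylow 2 G := Sylow.ofCard Q hQS
  obtain ⟨S, hOS⟩ := IsPGroup.exists_le_sylow hO2
  obtain ⟨h, hh⟩ := MulAction.exists_smul_eq G QS S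
  have hcoe : (S : Subgroup G) = Q.map (MulAut.conj h).toMonoidHom := by
    rw [← hh]; rfl
  rw [hcoe] at hOS
  have ctx' := hCONJ G p a Q y ctx h
  have hexp := hEXP G p a _ _ ctx'
  -- `X := N_G(O)`
  have hMX : Subgroup.centralizer ({e} : Set G) ≤ Subgroup.normalizer (O : Set G) :=
    le_normalizer_of_conj O _ hOn
  have hQX : Q.map (MulAut.conj h).toMonoidHom ≤ Subgroup.normalizer (O : Set G) := by
    apply le_normalizer_of_conj
    intro m hm o' ho'
    have h1 : m * o' = o' * m := comm_of_exp_two _ hexp hm (hOS ho')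
    rw [h1, mul_inv_cancel_right]
    exact ho'
  have hsimp : IsSimpleGroup G := hSIMPLE G p a Q y ctx
  have hXtop : Subgroup.normalizer (O : Set G) ≠ ⊤ := by
    intro hX
    rw [Subgroup.normalizer_eq_top_iff] at hX
    rcases hX.eq_bot_or_eq_top with h1 | h1
    · exact hObot h1
    · obtain ⟨n, hn⟩ := IsPGroup.iff_card.1 hO2
      rw [h1, Subgroup.card_top] at hn
      have h2 : p ∣ 2 ^ n := hn ▸ ctx.hpG
      exact hp2 ((Nat.prime_dvd_prime_iff_eq hp Nat.prime_two).1 (hp.dvd_of_dvd_pow h2))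
  have heM : e ∈ Subgroup.centralizer ({e} : Set G) := by
    rw [Subgroup.mem_centralizer_iff]
    intro x hx
    rw [Set.mem_singleton_iff] at hx
    rw [hx]
  have hsM : s ∈ Subgroup.centralizer ({e} : Set G) := by
    rw [Subgroup.mem_centralizer_iff]
    intro x hx
    rw [Set.mem_singleton_iff] at hx
    rw [hx]
    exact hes
  rcases hLEMM G p a _ _ ctx' _ hXtop hQX with hXN | ⟨V, hVX, hVp, hVn, hVcard⟩
  · exfalso
    have hsN := hXN (hMX hsM)
    have heN := hXN (hMX heM)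
    have hsQ := hINVN G p a _ _ ctx' s hsN ⟨1, by rw [hs, pow_one]⟩
    have hs1 : s ≠ 1 := by
      intro h1
      rw [h1, orderOf_one] at hs
      omega
    have heC := hNCENT G p a _ _ ctx' e heN s hsQ hs1 hes
    apply hene
    have hx : h⁻¹ * e * h ∈ Subgroup.centralizer (Q : Set G) := by
      rw [Subgroup.mem_centralizer_iff]
      intro q hq
      rw [Subgroup.mem_centralizer_iff] at heC
      have h1 := heC (h * q * h⁻¹) (by
        show h * q * h⁻¹ ∈ Q.map (MulAut.conj h).toMonoidHom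
        exact ⟨q, hq, rfl⟩)
      have h2 : q * (h⁻¹ * e * h) = h⁻¹ * (h * q * h⁻¹ * e) * h := by group
      have h3 : h⁻¹ * e * h * q = h⁻¹ * (e * (h * q * h⁻¹)) * h := by group
      rw [h2, h3, h1]
    have hxp : IsPElt p (h⁻¹ * e * h) := by
      obtain ⟨k, hk⟩ := hpe
      refine ⟨k, ?_⟩
      rw [← hk]
      have h1 := orderOf_injective (MulAut.conj h⁻¹).toMonoidHom (MulAut.conj h⁻¹).injective e
      rw [← h1]
      congr 1
      simp
    have h1 := hnoP _ hx hxp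
    have h2 : e = h * (h⁻¹ * e * h) * h⁻¹ := by group
    rw [h2, h1]
    group
  · have hwV : w ∈ V := mem_npc hp hp2 hVX hVn hVcard (hMX hw) hwp
    have h1 : w * o * w⁻¹ * o⁻¹ ∈ V := by
      have h2 := hVn o (Subgroup.le_normalizer ho) w⁻¹ (V.inv_mem hwV)
      have h3 := V.mul_mem hwV h2
      have h4 : w * (o * w⁻¹ * o⁻¹) = w * o * w⁻¹ * o⁻¹ := by group
      rwa [h4] at h3
    have h5 : w * o * w⁻¹ * o⁻¹ ∈ O := O.mul_mem (hOn w hw o ho) (O.inv_mem ho)
    have hdisj := IsPGroup.disjoint_of_ne p 2 hp2 V O hVp hO2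
    have h6 : w * o * w⁻¹ * o⁻¹ = 1 := by
      have := (Subgroup.disjoint_def.1 hdisj) h1 h5
      exact this
    have h7 : w * o = (w * o * w⁻¹ * o⁻¹) * (o * w) := by group
    rw [h7, h6, one_mul]

theorem main (hFIT : FIT.{u}) (hLEMM : LEMM.{u}) (hNCENT : NCENT.{u}) (hINVN : INVN.{u})
    (hCONJ : CONJ.{u}) (hSIMPLE : SIMPLE.{u}) (hEXP : EXP.{u}) : BSTAR.{u} := by
  intro G _ _ p a Q y ctx hnoP W₁ W₂ e s he1 he2 hene hs hes
  classical
  have hp := ctx.hp
  have hp2 : p ≠ 2 := p_ne_two ctx.hpa ctx.ha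
  have : Fact p.Prime := ⟨hp⟩
  have hpe : IsPElt p e := isPElt_of_mem_sylow W₁ he1
  -- `M := C_G(e)`
  have hWM : ∀ W : Sylow p G, e ∈ W → (W : Subgroup G) ≤ Subgroup.centralizer ({e} : Set G) := by
    intro W heW w hw
    rw [Subgroup.mem_centralizer_iff]
    intro x hx
    rw [Set.mem_singleton_iff] at hx
    rw [hx]
    have := ctx.hab W
    exact congrArg Subtype.val (mul_comm' (⟨e, heW⟩ : W) ⟨w, hw⟩)
  have hsM : s ∈ Subgroup.centralizer ({e} : Set G) := by
    rw [Subgroup.mem_centralizer_iff]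
    intro x hx
    rw [Set.mem_singleton_iff] at hx
    rw [hx]
    exact hes
  have hMtop : Subgroup.centralizer ({e} : Set G) ≠ ⊤ := by
    intro hM
    have hcent : ∀ g : G, g * e = e * g := by
      intro g
      have h1 : g ∈ Subgroup.centralizer ({e} : Set G) := by rw [hM]; exact Subgroup.mem_top g
      rw [Subgroup.mem_centralizer_iff] at h1
      exact (h1 e rfl).symm
    have hn : (Subgroup.zpowers e).Normal := by
      constructor
      intro n hn g
      obtain ⟨k, rfl⟩ := Subgroup.mem_zpowers_iff.1 hn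
      have h1 : g * e ^ k * g⁻¹ = e ^ k := by
        have h2 : Commute g e := hcent g
        rw [(h2.zpow_right k).eq, mul_inv_cancel_right]
      rw [h1]
      exact Subgroup.zpow_mem_zpowers e k
    obtain ⟨k, hk⟩ := hpe
    have hpz : IsPGroup p (Subgroup.zpowers e) :=
      IsPGroup.of_card (n := k) (by rw [Nat.card_zpowers, hk])
    have h1 := ctx.hOp _ hn hpz
    exact hene (Subgroup.zpowers_eq_bot.1 h1)
  have h2M : 2 ∣ Nat.card (Subgroup.centralizer ({e} : Set G)) := by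
    have h1 := orderOf_dvd_natCard (⟨s, hsM⟩ : Subgroup.centralizer ({e} : Set G))
    rwa [Subgroup.orderOf_mk, hs] at h1
  have hPQ : PQNum p 2 (Nat.card (Subgroup.centralizer ({e} : Set G))) :=
    ctx.hE _ hMtop h2M
  -- normality of both Sylows in `M`
  have hnormal : ∀ (W : Sylow p G) (heW : e ∈ W),
      ((W.subtype (hWM W heW) : Sylow p (Subgroup.centralizer ({e} : Set G))) :
        Subgroup (Subgroup.centralizer ({e} : Set G))).Normal := by
    intro W heW
    have hmem : ∀ x : Subgroup.centralizer ({e} : Set G),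
        x ∈ W.subtype (hWM W heW) → (x : G) ∈ W := by
      intro x hx
      have h1 : x ∈ ((W.subtype (hWM W heW) : Sylow p (Subgroup.centralizer ({e} : Set G))) :
        Subgroup (Subgroup.centralizer ({e} : Set G))) := hx
      rw [Sylow.coe_subtype, Subgroup.mem_subgroupOf] at h1
      exact h1
    refine hFIT _ p (W.subtype (hWM W heW)) hp hp2 hPQ ?_ ?_
    · have := ctx.hab W
      refine ⟨⟨fun x z => ?_⟩⟩
      apply Subtype.ext
      apply Subtype.ext
      have h3 : (x.1.1 : G) * z.1.1 = z.1.1 * x.1.1 := congrArg Subtype.val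
        (mul_comm' (⟨x.1.1, hmem x.1 x.2⟩ : W) ⟨z.1.1, hmem z.1 z.2⟩)
      exact h3
    · intro O hOn hO2 w hw o ho
      apply Subtype.ext
      have hkey := key hLEMM hNCENT hINVN hCONJ hSIMPLE hEXP ctx hnoP hene hs hes hpe
        (O.map (Subgroup.centralizer ({e} : Set G)).subtype) ?_
        (hO2.map _) w.1 w.2 (isPElt_of_mem_sylow W (hmem w hw)) o.1 ⟨o, ho, rfl⟩
      · exact hkey
      · rintro m hm _ ⟨o', ho', rfl⟩
        exact ⟨⟨m, hm⟩ * o' * ⟨m, hm⟩⁻¹, hOn.conj_mem o' ho' ⟨m, hm⟩, rfl⟩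
  have hn1 := hnormal W₁ he1
  have hn2 := hnormal W₂ he2
  obtain ⟨m, hm⟩ := MulAction.exists_smul_eq (Subgroup.centralizer ({e} : Set G))
    (W₁.subtype (hWM W₁ he1)) (W₂.subtype (hWM W₂ he2))
  rw [Sylow.smul_eq_of_normal] at hm
  have h1 : ((W₁.subtype (hWM W₁ he1) : Sylow p (Subgroup.centralizer ({e} : Set G))) :
        Subgroup (Subgroup.centralizer ({e} : Set G))) =
      ((W₂.subtype (hWM W₂ he2) : Sylow p (Subgroup.centralizer ({e} : Set G))) :
        Subgroup (Subgroup.centralizer ({e} : Set G))) := congrArg _ hm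
  rw [Sylow.coe_subtype, Sylow.coe_subtype] at h1
  apply Sylow.ext
  have h2 := congrArg (Subgroup.map (Subgroup.centralizer ({e} : Set G)).subtype) h1
  rwa [Subgroup.map_subgroupOf_eq_of_le (hWM W₁ he1),
    Subgroup.map_subgroupOf_eq_of_le (hWM W₂ he2)] at h2

#print axioms main

end Cfsg.Agent.Lib.Helper76.MixBSTAR
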