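import Mathlib
import Cfsg.Agent.Lib.Helper68.MixStmt

/-!
# S4017 piece BURN: Burnside's normal complement for a proper subgroup `X ⊇ Q` with
`X ∩ N_G(Q) ≤ C_G(Q)`
-/

set_option autoImplicit false

namespace Cfsg.Agent.Lib.Helper76.MixBURN

open Cfsg.Agent.Lib.Helper68.MixStmt

universe u

theorem finish {G : Type u} [Group G] {p a : ℕ} (X : Subgroup G) (K : Subgroup X)
    (hKn : K.Normal) (hKp : IsPGroup p K) (hcard : Nat.card K * 2 ^ a = Nat.card X) :
    HasNPC p a X := by
  have hinj : Function.Injective (X.subtype) := Subgroup.subtype_injective X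
  refine ⟨K.map X.subtype, ?_, ?_, ?_, ?_⟩
  · rintro _ ⟨k, -, rfl⟩
    exact k.2
  · exact hKp.map X.subtype
  · rintro g hg _ ⟨k, hk, rfl⟩
    refine ⟨⟨g, hg⟩ * k * ⟨g, hg⟩⁻¹, hKn.conj_mem k hk ⟨g, hg⟩, ?_⟩
    simp
  · rw [Subgroup.card_map_of_injective hinj, ← hcard, mul_comm]

theorem main : BURN.{u} := by
  intro G _ _ p a Q y ctx X hX hQX hNC
  classical
  have hG0 : Nat.card G ≠ 0 := Nat.card_pos.ne'
  haveI : Fact (2 : ℕ).Prime := ⟨Nat.prime_two⟩
  have hno : ¬ 2 ^ (a + 1) ∣ Nat.card G := by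
    intro h
    have h1 := (Nat.prime_two.pow_dvd_iff_le_factorization hG0).1 h
    rw [ctx.hfac] at h1
    omega
  have hXG : Nat.card X ∣ Nat.card G := Subgroup.card_subgroup_dvd_card X
  have hQ'card : Nat.card (Q.subgroupOf X) = 2 ^ a := by
    rw [Nat.card_congr (Subgroup.subgroupOfEquivOfLe hQX).toEquiv, ctx.hQ]
  have hQ'p : IsPGroup 2 (Q.subgroupOf X) := IsPGroup.of_card hQ'card
  have hidx : ¬ 2 ∣ (Q.subgroupOf X).index := by
    intro h
    apply hno
    have h1 := Subgroup.card_mul_index (Q.subgroupOf X)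
    rw [hQ'card] at h1
    have h2 : 2 ^ (a + 1) ∣ Nat.card X := by
      rw [← h1, pow_succ]
      exact Nat.mul_dvd_mul_left _ h
    exact h2.trans hXG
  let P : Sylow 2 X := hQ'p.toSylow hidx
  have hPcoe : (P : Subgroup X) = Q.subgroupOf X := rfl
  have hPN : Subgroup.normalizer ((P : Subgroup X) : Set X) ≤
      Subgroup.centralizer ((P : Subgroup X) : Set X) := by
    intro x hx
    rw [Subgroup.mem_normalizer_iff] at hx
    have hxN : (x : G) ∈ Subgroup.normalizer (Q : Set G) := by
      rw [Subgroup.mem_normalizer_iff]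
      intro h
      constructor
      · intro hh
        have h1 := (hx ⟨h, hQX hh⟩).1 (by rw [hPcoe]; exact Subgroup.mem_subgroupOf.2 hh)
        rw [hPcoe, Subgroup.mem_subgroupOf] at h1
        simpa using h1
      · intro hh
        have hhX : h ∈ X := by
          have h1 : (x : G)⁻¹ * ((x : G) * h * (x : G)⁻¹) * (x : G) ∈ X :=
            X.mul_mem (X.mul_mem (X.inv_mem x.2) (hQX hh)) x.2
          have h2 : (x : G)⁻¹ * ((x : G) * h * (x : G)⁻¹) * (x : G) = h := by group
          rwa [h2] at h1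
        have h1 := (hx ⟨h, hhX⟩).2 (by
          rw [hPcoe, Subgroup.mem_subgroupOf]
          simpa using hh)
        rw [hPcoe, Subgroup.mem_subgroupOf] at h1
        exact h1
    have hxC := hNC ⟨x.2, hxN⟩
    rw [Subgroup.mem_centralizer_iff]
    intro u hu
    have hu' : (u : G) ∈ Q := by
      have h1 : u ∈ Q.subgroupOf X := hu
      exact Subgroup.mem_subgroupOf.1 h1
    have h1 := Subgroup.mem_centralizer_iff.1 hxC (u : G) hu'
    exact Subtype.ext h1
  obtain ⟨K, hKn, hcompl⟩ : ∃ K : Subgroup X, K.Normal ∧ K.IsComplement' (P : Subgroup X) :=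
    ⟨_, inferInstance, MonoidHom.ker_transferSylow_isComplement' P hPN⟩
  have hcard : Nat.card K * Nat.card (P : Subgroup X) = Nat.card X := hcompl.card_mul_card
  have hPcard : Nat.card (P : Subgroup X) = 2 ^ a := hQ'card
  rw [hPcard] at hcard
  have hK0 : Nat.card K ≠ 0 := Nat.card_pos.ne'
  -- `X` has even order
  have ha1 : 1 ≤ a := le_trans (by norm_num) ctx.ha
  have hXeven : 2 ∣ Nat.card X := by
    rw [← hcard]
    exact Dvd.dvd.mul_left (dvd_pow_self 2 (by omega)) _
  have hPQ := ctx.hE X hX hXeven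
  have hKpow : ∀ {d : ℕ}, d.Prime → d ∣ Nat.card K → d = p := by
    intro d hd hdK
    have hdX : d ∣ Nat.card X := by
      rw [← hcard]
      exact Dvd.dvd.mul_right hdK _
    rcases hPQ d hd hdX with h | h
    · exact h
    · exfalso
      apply hno
      rw [h] at hdK
      have h2 : 2 ^ (a + 1) ∣ Nat.card X := by
        rw [← hcard, pow_succ, mul_comm (2 ^ a) 2]
        exact Nat.mul_dvd_mul_right hdK _
      exact h2.trans hXG
  have hKcard := Nat.eq_prime_pow_of_unique_prime_dvd hK0 hKpow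
  haveI : Fact p.Prime := ⟨ctx.hp⟩
  have hKp : IsPGroup p K := IsPGroup.of_card hKcard
  exact finish X K hKn hKp hcard

#print axioms main

end Cfsg.Agent.Lib.Helper76.MixBURN
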