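import Mathlib
import Cfsg.Agent.Lib.Helper76.S8Glue

/-!
# S3589 piece BLOCKMM: in characteristic 2, `N ⊥ N ≅ H²` for `N = z₁² + a z₁ z₂ + b z₂²`, `a ≠ 0`
-/

set_option autoImplicit false

namespace Cfsg.Agent.Lib.Helper76.S8BLOCKMM

open Cfsg.Agent.Lib.Helper45.S8Stmt Cfsg.Agent.Lib.Helper76.S8Glue

universe u

/-- `T (z, w) = (x₁, y₁, x₂, y₂) = (z₁ + w₁, z₁ + w₁ + a z₂, z₂ + w₂, b z₂ + b w₂ + a w₁)` -/
noncomputable def T (F : Type u) [Field F] (a b : F) (ha : a ≠ 0) :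
    (((Fin 0 ⊕ Fin 0) ⊕ Fin 2 → F) × ((Fin 0 ⊕ Fin 0) ⊕ Fin 2 → F)) ≃ₗ[F]
      (Fin 2 ⊕ Fin 2 → F) where
  toFun p := Sum.elim
    ![p.1 (Sum.inr 0) + p.2 (Sum.inr 0), p.1 (Sum.inr 1) + p.2 (Sum.inr 1)]
    ![p.1 (Sum.inr 0) + p.2 (Sum.inr 0) + a * p.1 (Sum.inr 1),
      b * p.1 (Sum.inr 1) + b * p.2 (Sum.inr 1) + a * p.2 (Sum.inr 0)]
  invFun v :=
    (Sum.elim (fun _ => 0) ![v (Sum.inl 0) - (v (Sum.inr 1) - b * v (Sum.inl 1)) / a,
        (v (Sum.inr 0) - v (Sum.inl 0)) / a],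
      Sum.elim (fun _ => 0) ![(v (Sum.inr 1) - b * v (Sum.inl 1)) / a,
        v (Sum.inl 1) - (v (Sum.inr 0) - v (Sum.inl 0)) / a])
  map_add' p q := by
    funext x
    rcases x with i | i <;> fin_cases i <;> simp <;> ring
  map_smul' c p := by
    funext x
    rcases x with i | i <;> fin_cases i <;> simp <;> ring
  left_inv p := by
    apply Prod.ext
    · funext x
      rcases x with (i | i) | i
      · exact i.elim0
      · exact i.elim0
      · fin_cases i <;> simp <;> field_simp <;> ring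
    · funext x
      rcases x with (i | i) | i
      · exact i.elim0
      · exact i.elim0
      · fin_cases i <;> simp <;> field_simp <;> ring
  right_inv v := by
    funext x
    rcases x with i | i <;> fin_cases i <;> simp <;> field_simp <;> ring

theorem main : BlockMM.{u} := by
  intro F _ _ a b ha N₁ N₂ h₁ h₂
  refine glue _ _ _ (T F a b ha) ?_ N₁ N₂ h₁ h₂
  intro u w
  have h2 : (2 : F) = 0 := CharP.cast_eq_zero F 2
  unfold Cfsg.quadFormPlus Cfsg.quadFormMinus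
  simp only [T, LinearEquiv.coe_mk, LinearMap.coe_mk, AddHom.coe_mk, Fin.sum_univ_two,
    Finset.univ_eq_empty, Finset.sum_empty, Sum.elim_inl, Sum.elim_inr, Matrix.cons_val_zero,
    Matrix.cons_val_one, zero_add]
  linear_combination (u (Sum.inr 0) * w (Sum.inr 0) + a * w (Sum.inr 0) * u (Sum.inr 1) +
    b * u (Sum.inr 1) * w (Sum.inr 1)) * h2

#print axioms main

end Cfsg.Agent.Lib.Helper76.S8BLOCKMM
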