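import Mathlib
import Cfsg.Agent.Lib.Helper76.S8Glue

/-!
# S3589 piece BLOCKPP: block sum `H^k₁ ⊥ H^k₂ = H^(k₁+k₂)`
-/

set_option autoImplicit false

namespace Cfsg.Agent.Lib.Helper76.S8BLOCKPP

open Cfsg.Agent.Lib.Helper45.S8Stmt Cfsg.Agent.Lib.Helper76.S8Glue

universe u

/-- the block-sum linear equivalence `H^k₁ × H^k₂ ≃ H^(k₁+k₂)` -/
def T (F : Type u) [Field F] (k₁ k₂ : ℕ) :
    ((Fin k₁ ⊕ Fin k₁ → F) × (Fin k₂ ⊕ Fin k₂ → F)) ≃ₗ[F] (Fin (k₁ + k₂) ⊕ Fin (k₁ + k₂) → F) where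
  toFun p := Sum.elim
    (fun i => Fin.addCases (fun i₁ => p.1 (Sum.inl i₁)) (fun i₂ => p.2 (Sum.inl i₂)) i)
    (fun i => Fin.addCases (fun i₁ => p.1 (Sum.inr i₁)) (fun i₂ => p.2 (Sum.inr i₂)) i)
  invFun v :=
    (Sum.elim (fun i => v (Sum.inl (Fin.castAdd k₂ i))) (fun i => v (Sum.inr (Fin.castAdd k₂ i))),
      Sum.elim (fun i => v (Sum.inl (Fin.natAdd k₁ i))) (fun i => v (Sum.inr (Fin.natAdd k₁ i))))
  map_add' p q := by
    funext x
    rcases x with i | i
    · refine Fin.addCases (fun j => ?_) (fun j => ?_) i <;> simp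
    · refine Fin.addCases (fun j => ?_) (fun j => ?_) i <;> simp
  map_smul' c p := by
    funext x
    rcases x with i | i
    · refine Fin.addCases (fun j => ?_) (fun j => ?_) i <;> simp
    · refine Fin.addCases (fun j => ?_) (fun j => ?_) i <;> simp
  left_inv p := by
    apply Prod.ext
    · funext x
      rcases x with i | i <;> simp
    · funext x
      rcases x with i | i <;> simp
  right_inv v := by
    funext x
    rcases x with i | i
    · refine Fin.addCases (fun j => ?_) (fun j => ?_) i <;> simp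
    · refine Fin.addCases (fun j => ?_) (fun j => ?_) i <;> simp

theorem main : BlockPP.{u} := by
  intro F _ k₁ k₂ N₁ N₂ h₁ h₂
  refine glue _ _ _ (T F k₁ k₂) ?_ N₁ N₂ h₁ h₂
  intro u w
  unfold Cfsg.quadFormPlus
  rw [Fin.sum_univ_add]
  simp [T]

#print axioms main

end Cfsg.Agent.Lib.Helper76.S8BLOCKPP
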