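import Mathlib

/-!
# Symmetric local algebras with small centre are commutative

`comm_of_center_le_four`: a finite-dimensional symmetric local algebra over an algebraically
closed field whose centre is spanned by four elements is commutative (Külshammer).
-/

set_option autoImplicit false

namespace Cfsg.Agent.Lib.Helper76.SymLocal

open Submodule

section Basic

variable {F Λ : Type*} [Field F] [Ring Λ] [Algebra F Λ]

/-- The kernel of the augmentation, as an `F`-subspace. -/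
def rad (π : Λ →ₐ[F] F) : Submodule F Λ := LinearMap.ker π.toLinearMap

theorem mem_rad {π : Λ →ₐ[F] F} {x : Λ} : x ∈ rad π ↔ π x = 0 := by
  simp [rad]

theorem sub_mem_rad (π : Λ →ₐ[F] F) (x : Λ) : x - algebraMap F Λ (π x) ∈ rad π := by
  rw [mem_rad]; simp

theorem rad_mul_top (π : Λ →ₐ[F] F) : rad π * ⊤ ≤ rad π := by
  rw [Submodule.mul_le]
  intro x hx y _
  rw [mem_rad] at hx ⊢
  simp [hx]

theorem top_mul_rad (π : Λ →ₐ[F] F) : ⊤ * rad π ≤ rad π := by
  rw [Submodule.mul_le]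
  intro x _ y hy
  rw [mem_rad] at hy ⊢
  simp [hy]

theorem mul_mono {A B C D : Submodule F Λ} (h1 : A ≤ B) (h2 : C ≤ D) : A * C ≤ B * D := by
  rw [Submodule.mul_le]
  intro x hx y hy
  exact Submodule.mul_mem_mul (h1 hx) (h2 hy)

theorem pow_mul_top (π : Λ →ₐ[F] F) {n : ℕ} (hn : 1 ≤ n) : rad π ^ n * ⊤ ≤ rad π ^ n := by
  obtain ⟨m, rfl⟩ : ∃ m, n = m + 1 := ⟨n - 1, by omega⟩
  rw [pow_succ, mul_assoc]
  exact mul_mono le_rfl (rad_mul_top π)

theorem top_mul_pow (π : Λ →ₐ[F] F) {n : ℕ} (hn : 1 ≤ n) : ⊤ * rad π ^ n ≤ rad π ^ n := by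
  obtain ⟨m, rfl⟩ : ∃ m, n = m + 1 := ⟨n - 1, by omega⟩
  rw [pow_succ', ← mul_assoc]
  exact mul_mono (top_mul_rad π) le_rfl

theorem pow_anti (π : Λ →ₐ[F] F) {n k : ℕ} (hn : 1 ≤ n) (hnk : n ≤ k) :
    rad π ^ k ≤ rad π ^ n := by
  obtain ⟨d, rfl⟩ : ∃ d, k = n + d := ⟨k - n, by omega⟩
  rw [pow_add]
  exact (mul_mono le_rfl le_top).trans (pow_mul_top π hn)

theorem mul_mem_pow_add (π : Λ →ₐ[F] F) {i j : ℕ} {x y : Λ} (hx : x ∈ rad π ^ i)
    (hy : y ∈ rad π ^ j) : x * y ∈ rad π ^ (i + j) := by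
  rw [pow_add]
  exact Submodule.mul_mem_mul hx hy

theorem mem_pow_one (π : Λ →ₐ[F] F) {x : Λ} : x ∈ rad π ^ 1 ↔ x ∈ rad π := by
  rw [pow_one]

/-- The ideal-theoretic nilpotency hypothesis gives nilpotency of the subspace powers. -/
theorem pow_eq_bot_of_ideal (π : Λ →ₐ[F] F) {N : ℕ}
    (hN : (RingHom.ker (π : Λ →+* F)) ^ N = ⊥) : rad π ^ N = ⊥ := by
  have key : ∀ n : ℕ, ∀ x ∈ rad π ^ n, x ∈ (RingHom.ker (π : Λ →+* F)) ^ n := by
    intro n
    induction n with
    | zero =>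
      intro x _
      rw [Submodule.pow_zero, Submodule.one_eq_span]
      exact Submodule.mem_span_singleton.mpr ⟨x, by simp⟩
    | succ n ih =>
      intro x hx
      rw [pow_succ] at hx
      refine Submodule.mul_induction_on hx ?_ ?_
      · intro a ha b hb
        rw [Submodule.pow_succ]
        refine Submodule.mul_mem_mul (ih a ha) ?_
        rw [RingHom.mem_ker]
        exact mem_rad.mp hb
      · intro a b ha hb
        exact Ideal.add_mem _ ha hb
  rw [eq_bot_iff]
  intro x hx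
  have := key N x hx
  rw [hN] at this
  simpa using this

/-- If `J^i ≤ J^(i+1)` then `J^i = 0`, for nilpotent `J`. -/
theorem pow_eq_bot_of_le (π : Λ →ₐ[F] F) {N : ℕ} (hN : rad π ^ N = ⊥) {i : ℕ}
    (h : rad π ^ i ≤ rad π ^ (i + 1)) : rad π ^ i = ⊥ := by
  have key : ∀ k : ℕ, rad π ^ i ≤ rad π ^ (i + k) := by
    intro k
    induction k with
    | zero => simp
    | succ k ih =>
      refine h.trans ?_
      have : rad π ^ (i + 1) = rad π ^ i * rad π := pow_succ _ _
      rw [this, show i + (k + 1) = (i + k) + 1 by ring, pow_succ]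
      exact mul_mono ih le_rfl
  rw [eq_bot_iff]
  refine (key N).trans ?_
  rw [add_comm, pow_add, hN, Submodule.bot_mul]

end Basic

section Main

variable {F Λ : Type*} [Field F] [Ring Λ] [Algebra F Λ]

theorem mul_mem_sq {π : Λ →ₐ[F] F} {x y : Λ} (hx : x ∈ rad π) (hy : y ∈ rad π) :
    x * y ∈ rad π ^ 2 := by
  rw [pow_two]; exact Submodule.mul_mem_mul hx hy

theorem mul_mem_succ_left {π : Λ →ₐ[F] F} {n : ℕ} {x y : Λ} (hx : x ∈ rad π)
    (hy : y ∈ rad π ^ n) : x * y ∈ rad π ^ (n + 1) := by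
  rw [pow_succ']; exact Submodule.mul_mem_mul hx hy

theorem mul_mem_succ_right {π : Λ →ₐ[F] F} {n : ℕ} {x y : Λ} (hx : x ∈ rad π ^ n)
    (hy : y ∈ rad π) : x * y ∈ rad π ^ (n + 1) := by
  rw [pow_succ]; exact Submodule.mul_mem_mul hx hy

theorem sq_le_rad (π : Λ →ₐ[F] F) : rad π ^ 2 ≤ rad π := by
  have := pow_anti π (n := 1) (k := 2) le_rfl (by norm_num)
  rwa [pow_one] at this

/-- Every element is a scalar plus an element of the radical. -/
theorem exists_decomp_rad (π : Λ →ₐ[F] F) (x : Λ) :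
    ∃ ξ : F, ∃ j ∈ rad π, x = ξ • (1 : Λ) + j :=
  ⟨π x, x - algebraMap F Λ (π x), sub_mem_rad π x, by
    rw [Algebra.algebraMap_eq_smul_one]; abel⟩

/-- The span of all commutators. -/
def comm (F Λ : Type*) [Field F] [Ring Λ] [Algebra F Λ] : Submodule F Λ :=
  Submodule.span F {z | ∃ x y : Λ, z = x * y - y * x}

theorem comm_mem (x y : Λ) : x * y - y * x ∈ comm F Λ :=
  Submodule.subset_span ⟨x, y, rfl⟩

theorem comm_le_sq (π : Λ →ₐ[F] F) : comm F Λ ≤ rad π ^ 2 := by
  refine Submodule.span_le.mpr ?_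
  rintro z ⟨x, y, rfl⟩
  obtain ⟨ξ, jx, hjx, rfl⟩ := exists_decomp_rad π x
  obtain ⟨η, jy, hjy, rfl⟩ := exists_decomp_rad π y
  have h : (ξ • (1 : Λ) + jx) * (η • (1 : Λ) + jy) - (η • (1 : Λ) + jy) * (ξ • (1 : Λ) + jx)
      = jx * jy - jy * jx := by
    simp only [mul_add, add_mul, smul_mul_assoc, mul_smul_comm, one_mul, mul_one]
    module
  rw [SetLike.mem_coe, h]
  exact Submodule.sub_mem _ (mul_mem_sq hjx hjy) (mul_mem_sq hjy hjx)

theorem lam_comm (lam : Λ →ₗ[F] F) (hsym : ∀ x y, lam (x * y) = lam (y * x)) :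
    ∀ k ∈ comm F Λ, lam k = 0 := by
  intro k hk
  refine Submodule.span_induction ?_ ?_ ?_ ?_ hk
  · rintro z ⟨x, y, rfl⟩
    rw [map_sub, hsym x y, sub_self]
  · simp
  · intro x y _ _ hx hy
    rw [map_add, hx, hy, add_zero]
  · intro a x _ hx
    rw [map_smul, hx, smul_zero]

/-- Step (b): an element orthogonal to the four spanning elements of the centre lies in the
span of the commutators. -/
theorem mem_comm_of_ortho [FiniteDimensional F Λ] (lam : Λ →ₗ[F] F)
    (hsym : ∀ x y, lam (x * y) = lam (y * x))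
    (hnd : ∀ x, x ≠ 0 → ∃ y, lam (x * y) ≠ 0)
    (c : Fin 4 → Λ) (hcen : ∀ w : Λ, (∀ x, w * x = x * w) → ∃ t : Fin 4 → F, w = ∑ i, t i • c i)
    (x : Λ) (hx : ∀ i, lam (c i * x) = 0) : x ∈ comm F Λ := by
  classical
  set B : LinearMap.BilinForm F Λ := (LinearMap.mul F Λ).compr₂ lam with hB
  have hBa : ∀ u v : Λ, B u v = lam (u * v) := fun u v => by
    rw [hB, LinearMap.compr₂_apply, LinearMap.mul_apply']
  have hrefl : B.IsRefl := by
    intro u v h
    rw [hBa] at h ⊢
    rw [hsym, h]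
  have hndB : B.Nondegenerate := by
    refine ⟨?_, ?_⟩
    · intro u hu
      by_contra hne
      obtain ⟨y, hy⟩ := hnd u hne
      exact hy (by rw [← hBa]; exact hu y)
    · intro u hu
      by_contra hne
      obtain ⟨y, hy⟩ := hnd u hne
      exact hy (by rw [hsym, ← hBa]; exact hu y)
  rw [← LinearMap.BilinForm.orthogonal_orthogonal hndB hrefl (comm F Λ),
    LinearMap.BilinForm.mem_orthogonal_iff]
  intro w hw
  rw [LinearMap.BilinForm.mem_orthogonal_iff] at hw
  have hwc : ∀ z, w * z = z * w := by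
    intro z
    by_contra hne
    obtain ⟨y, hy⟩ := hnd (w * z - z * w) (sub_ne_zero.mpr hne)
    apply hy
    have h1 := hw (z * y - y * z) (comm_mem z y)
    rw [hBa] at h1
    have e1 : lam (w * z * y) = lam (z * y * w) := by
      rw [mul_assoc, hsym]
    have e2 : lam (z * w * y) = lam (y * z * w) := by
      rw [mul_assoc z w y, hsym z (w * y), mul_assoc w y z, hsym w (y * z)]
    rw [sub_mul, map_sub, e1, e2, ← map_sub, ← sub_mul]
    exact h1
  obtain ⟨t, ht⟩ := hcen w hwc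
  rw [hBa, ht, Finset.sum_mul, map_sum]
  refine Finset.sum_eq_zero fun i _ => ?_
  rw [smul_mul_assoc, map_smul, hx i, smul_zero]

/-- Step (★): any five elements have a non-trivial linear combination in the span of the
commutators. -/
theorem exists_comb [FiniteDimensional F Λ] (lam : Λ →ₗ[F] F)
    (hsym : ∀ x y, lam (x * y) = lam (y * x))
    (hnd : ∀ x, x ≠ 0 → ∃ y, lam (x * y) ≠ 0)
    (c : Fin 4 → Λ) (hcen : ∀ w : Λ, (∀ x, w * x = x * w) → ∃ t : Fin 4 → F, w = ∑ i, t i • c i)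
    (xs : Fin 5 → Λ) : ∃ t : Fin 5 → F, t ≠ 0 ∧ ∑ i, t i • xs i ∈ comm F Λ := by
  classical
  set f : (Fin 5 → F) →ₗ[F] (Fin 4 → F) :=
    LinearMap.pi fun i => (lam.comp (LinearMap.mulLeft F (c i))).comp
      (Fintype.linearCombination F xs) with hf
  have hker : LinearMap.ker f ≠ ⊥ := by
    apply LinearMap.ker_ne_bot_of_finrank_lt
    simp
  obtain ⟨t, ht, ht0⟩ := (Submodule.ne_bot_iff _).mp hker
  refine ⟨t, ht0, mem_comm_of_ortho lam hsym hnd c hcen _ ?_⟩
  intro i
  have := congrFun (LinearMap.mem_ker.mp ht) i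
  rw [hf] at this
  rw [Finset.mul_sum, map_sum]
  simpa [Fintype.linearCombination_apply, Finset.mul_sum] using this

/-- Step (c): if the radical is generated by one element modulo its square, the algebra is
commutative. -/
theorem comm_of_gen (π : Λ →ₐ[F] F) {N : ℕ} (hN : rad π ^ N = ⊥)
    (h : ∀ a ∈ rad π, ∀ b ∈ rad π, ∃ α β : F, (α ≠ 0 ∨ β ≠ 0) ∧ α • a + β • b ∈ rad π ^ 2) :
    ∀ x y : Λ, x * y = y * x := by
  by_cases hJ : rad π ≤ rad π ^ 2
  · have h1 : rad π ^ 1 = ⊥ := pow_eq_bot_of_le π hN (by rw [pow_one]; exact hJ)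
    rw [pow_one] at h1
    intro x y
    obtain ⟨ξ, jx, hjx, rfl⟩ := exists_decomp_rad π x
    obtain ⟨η, jy, hjy, rfl⟩ := exists_decomp_rad π y
    rw [h1, Submodule.mem_bot] at hjx hjy
    subst hjx; subst hjy
    simp only [add_zero, smul_mul_assoc, mul_smul_comm, one_mul]
    rw [smul_comm]
  · obtain ⟨a, ha, ha2⟩ := SetLike.not_le_iff_exists.mp hJ
    have hgen : ∀ b ∈ rad π, ∃ μ : F, b - μ • a ∈ rad π ^ 2 := by
      intro b hb
      obtain ⟨α, β, hne, hmem⟩ := h a ha b hb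
      have hβ : β ≠ 0 := by
        rintro rfl
        rcases hne with hα | hβ
        · apply ha2
          have := Submodule.smul_mem _ α⁻¹ hmem
          simpa [smul_smul, inv_mul_cancel₀ hα] using this
        · exact hβ rfl
      refine ⟨-(β⁻¹ * α), ?_⟩
      have := Submodule.smul_mem _ β⁻¹ hmem
      convert this using 1
      rw [smul_add, smul_smul, smul_smul, inv_mul_cancel₀ hβ, one_smul, neg_smul]
      abel
    set A := Algebra.adjoin F ({a} : Set Λ) with hA
    have haA : a ∈ A := Algebra.subset_adjoin (Set.mem_singleton a)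
    have key : ∀ i : ℕ, 1 ≤ i → ∀ x ∈ rad π ^ i,
        ∃ μ : F, x - μ • a ^ i ∈ rad π ^ (i + 1) := by
      intro i hi
      induction i, hi using Nat.le_induction with
      | base =>
        intro x hx
        rw [pow_one] at hx
        obtain ⟨μ, hμ⟩ := hgen x hx
        exact ⟨μ, by rwa [pow_one]⟩
      | succ i hi ih =>
        intro x hx
        rw [pow_succ] at hx
        refine Submodule.mul_induction_on hx ?_ ?_
        · intro u hu v hv
          obtain ⟨μ, hμ⟩ := ih u hu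
          obtain ⟨ν, hν⟩ := hgen v hv
          refine ⟨μ * ν, ?_⟩
          have e : u * v - (μ * ν) • a ^ (i + 1)
              = (u - μ • a ^ i) * v + (μ • a ^ i) * (v - ν • a) := by
            rw [pow_succ]
            simp only [sub_mul, mul_sub, smul_mul_assoc, mul_smul_comm]
            module
          rw [e]
          refine Submodule.add_mem _ (mul_mem_succ_right hμ hv) ?_
          have h1 : μ • a ^ i ∈ rad π ^ i :=
            Submodule.smul_mem _ _ (Submodule.pow_mem_pow _ ha i)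
          have h2 := mul_mem_pow_add π h1 hν
          exact h2
        · rintro u v ⟨μ, hμ⟩ ⟨ν, hν⟩
          refine ⟨μ + ν, ?_⟩
          have := Submodule.add_mem _ hμ hν
          convert this using 1
          module
    have hle : ∀ k i : ℕ, 1 ≤ i → N ≤ i + k → ∀ x ∈ rad π ^ i, x ∈ A := by
      intro k
      induction k with
      | zero =>
        intro i hi hNi x hx
        have : rad π ^ i = ⊥ := by
          obtain ⟨d, rfl⟩ : ∃ d, i = N + d := ⟨i - N, by omega⟩
          rw [pow_add, hN, Submodule.bot_mul]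
        rw [this, Submodule.mem_bot] at hx
        rw [hx]
        exact zero_mem _
      | succ k ih =>
        intro i hi hNi x hx
        obtain ⟨μ, hμ⟩ := key i hi x hx
        have h1 := ih (i + 1) (by omega) (by omega) _ hμ
        have h2 : μ • a ^ i ∈ A := Subalgebra.smul_mem _ (pow_mem haA i) μ
        have := add_mem h1 h2
        simpa using this
    have hall : ∀ x : Λ, x ∈ A := by
      intro x
      obtain ⟨ξ, j, hj, rfl⟩ := exists_decomp_rad π x
      refine add_mem ?_ (hle N 1 le_rfl (by omega) j (by rwa [pow_one]))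
      exact Subalgebra.smul_mem _ (one_mem _) ξ
    have hAa : A ≤ Subalgebra.centralizer F ({a} : Set Λ) := by
      refine Algebra.adjoin_le ?_
      rintro _ rfl
      rw [SetLike.mem_coe, Subalgebra.mem_centralizer_iff]
      rintro g rfl
      rfl
    have hAc : A ≤ Subalgebra.centralizer F (A : Set Λ) := by
      refine Algebra.adjoin_le ?_
      rintro _ rfl
      rw [SetLike.mem_coe, Subalgebra.mem_centralizer_iff]
      intro g hg
      have h3 := hAa hg
      rw [Subalgebra.mem_centralizer_iff] at h3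
      exact (h3 _ rfl).symm
    intro x y
    have := hAc (hall x)
    rw [Subalgebra.mem_centralizer_iff] at this
    exact (this y (hall y)).symm

/-- Steps (e)-(g), first half: structure of the radical filtration relative to a pair `a, b`
of elements of the radical that are independent modulo its square. -/
theorem pair_structure (π : Λ →ₐ[F] F) (lam : Λ →ₗ[F] F)
    (hlamK : ∀ k ∈ comm F Λ, lam k = 0)
    (hE : ∀ xs : Fin 5 → Λ, ∃ t : Fin 5 → F, t ≠ 0 ∧ ∑ i, t i • xs i ∈ comm F Λ)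
    {s : Λ} (hs : s ∈ rad π ^ 3) (hls : lam s ≠ 0)
    {a b : Λ} (ha : a ∈ rad π) (hb : b ∈ rad π)
    (hind : ∀ α β : F, α • a + β • b ∈ rad π ^ 2 → α = 0 ∧ β = 0) :
    (∀ x ∈ rad π, ∃ α β : F, x - (α • a + β • b) ∈ rad π ^ 2) ∧
    (∀ x ∈ rad π ^ 2, ∃ γ : F, x - γ • (a * b - b * a) ∈ rad π ^ 3) := by
  have hKJ2 : comm F Λ ≤ rad π ^ 2 := comm_le_sq π
  have hJ2J : rad π ^ 2 ≤ rad π := sq_le_rad π
  have hs2 : s ∈ rad π ^ 2 := pow_anti π (n := 2) (k := 3) (by norm_num) (by norm_num) hs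
  have hπK : ∀ k ∈ comm F Λ, π k = 0 := fun k hk => mem_rad.mp (hJ2J (hKJ2 hk))
  have hπa : π a = 0 := mem_rad.mp ha
  have hπb : π b = 0 := mem_rad.mp hb
  have hπs : π s = 0 := mem_rad.mp (hJ2J hs2)
  -- (E1)
  have E1 : ∀ x : Λ, ∃ ξ α β σ : F,
      x - (ξ • (1 : Λ) + α • a + β • b + σ • s) ∈ comm F Λ := by
    intro x
    obtain ⟨t, ht0, hmem⟩ := hE ![1, a, b, s, x]
    rw [Fin.sum_univ_five] at hmem
    simp only [Matrix.cons_val_zero, Matrix.cons_val_one, Matrix.cons_val] at hmem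
    by_cases h4 : t 4 = 0
    · exfalso
      rw [h4, zero_smul, add_zero] at hmem
      have h0 : t 0 = 0 := by
        have := hπK _ hmem
        simpa [hπa, hπb, hπs] using this
      rw [h0, zero_smul, zero_add] at hmem
      have h12 : t 1 • a + t 2 • b ∈ rad π ^ 2 := by
        have := Submodule.sub_mem _ (hKJ2 hmem) (Submodule.smul_mem _ (t 3) hs2)
        simpa using this
      obtain ⟨h1, h2⟩ := hind _ _ h12
      rw [h1, h2, zero_smul, zero_smul, zero_add, zero_add] at hmem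
      have h3 : t 3 = 0 := by
        have := hlamK _ hmem
        rw [map_smul, smul_eq_mul] at this
        exact (mul_eq_zero.mp this).resolve_right hls
      apply ht0
      funext i
      fin_cases i <;> simp [h0, h1, h2, h3, h4]
    · refine ⟨-((t 4)⁻¹ * t 0), -((t 4)⁻¹ * t 1), -((t 4)⁻¹ * t 2), -((t 4)⁻¹ * t 3), ?_⟩
      have := Submodule.smul_mem _ (t 4)⁻¹ hmem
      convert this using 1
      simp only [smul_add, smul_smul, inv_mul_cancel₀ h4, one_smul, neg_smul]
      abel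
  -- (D1)
  have D1 : ∀ x ∈ rad π, ∃ α β : F, x - (α • a + β • b) ∈ rad π ^ 2 := by
    intro x hx
    obtain ⟨ξ, α, β, σ, hd⟩ := E1 x
    have hξ : ξ = 0 := by
      have := hπK _ hd
      simpa [hπa, hπb, hπs, mem_rad.mp hx] using this
    subst hξ
    refine ⟨α, β, ?_⟩
    have := Submodule.add_mem _ (hKJ2 hd) (Submodule.smul_mem _ σ hs2)
    convert this using 1
    rw [zero_smul]
    abel
  -- (E3)
  have E3 : ∀ k ∈ comm F Λ, ∃ γ : F, k - γ • (a * b - b * a) ∈ rad π ^ 3 := by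
    intro k hk
    refine Submodule.span_induction ?_ ?_ ?_ ?_ hk
    · rintro z ⟨u, v, rfl⟩
      obtain ⟨ξu, αu, βu, σu, hdu⟩ := E1 u
      obtain ⟨ξv, αv, βv, σv, hdv⟩ := E1 v
      set ju := u - (ξu • (1 : Λ) + αu • a + βu • b + σu • s) + σu • s with hju
      set jv := v - (ξv • (1 : Λ) + αv • a + βv • b + σv • s) + σv • s with hjv
      have hju2 : ju ∈ rad π ^ 2 :=
        Submodule.add_mem _ (hKJ2 hdu) (Submodule.smul_mem _ σu hs2)
      have hjv2 : jv ∈ rad π ^ 2 :=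
        Submodule.add_mem _ (hKJ2 hdv) (Submodule.smul_mem _ σv hs2)
      set pu := αu • a + βu • b with hpu
      set pv := αv • a + βv • b with hpv
      have hpuJ : pu ∈ rad π :=
        Submodule.add_mem _ (Submodule.smul_mem _ _ ha) (Submodule.smul_mem _ _ hb)
      have hpvJ : pv ∈ rad π :=
        Submodule.add_mem _ (Submodule.smul_mem _ _ ha) (Submodule.smul_mem _ _ hb)
      have eu : u = ξu • (1 : Λ) + pu + ju := by rw [hju, hpu]; abel
      have ev : v = ξv • (1 : Λ) + pv + jv := by rw [hjv, hpv]; abel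
      refine ⟨αu * βv - βu * αv, ?_⟩
      have e : u * v - v * u - (αu * βv - βu * αv) • (a * b - b * a)
          = (pu * jv - jv * pu) + (ju * pv - pv * ju) + (ju * jv - jv * ju) := by
        rw [eu, ev, hpu, hpv]
        simp only [mul_add, add_mul, smul_mul_assoc, mul_smul_comm, one_mul,
          mul_one, smul_add, smul_sub]
        module
      rw [e]
      refine Submodule.add_mem _ (Submodule.add_mem _ (Submodule.sub_mem _ ?_ ?_)
        (Submodule.sub_mem _ ?_ ?_)) (Submodule.sub_mem _ ?_ ?_)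
      · exact mul_mem_succ_left hpuJ hjv2
      · exact mul_mem_succ_right hjv2 hpuJ
      · exact mul_mem_succ_right hju2 hpvJ
      · exact mul_mem_succ_left hpvJ hju2
      · exact mul_mem_succ_left (hJ2J hju2) hjv2
      · exact mul_mem_succ_left (hJ2J hjv2) hju2
    · exact ⟨0, by simp⟩
    · rintro x y _ _ ⟨γ₁, h₁⟩ ⟨γ₂, h₂⟩
      refine ⟨γ₁ + γ₂, ?_⟩
      have := Submodule.add_mem _ h₁ h₂
      convert this using 1
      module
    · rintro r x _ ⟨γ, h⟩
      refine ⟨r * γ, ?_⟩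
      have := Submodule.smul_mem _ r h
      convert this using 1
      module
  refine ⟨D1, ?_⟩
  intro x hx
  obtain ⟨ξ, α, β, σ, hd⟩ := E1 x
  have hξ : ξ = 0 := by
    have := hπK _ hd
    simpa [hπa, hπb, hπs, mem_rad.mp (hJ2J hx)] using this
  subst hξ
  have hab : α • a + β • b ∈ rad π ^ 2 := by
    have := Submodule.sub_mem _ (Submodule.sub_mem _ hx (hKJ2 hd)) (Submodule.smul_mem _ σ hs2)
    convert this using 1
    rw [zero_smul]
    abel
  obtain ⟨hα, hβ⟩ := hind _ _ hab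
  subst hα; subst hβ
  obtain ⟨γ, hγ⟩ := E3 _ hd
  refine ⟨γ, ?_⟩
  have := Submodule.add_mem _ hγ (Submodule.smul_mem _ σ hs)
  convert this using 1
  simp only [zero_smul]
  abel

/-- A finite-dimensional symmetric local algebra over an algebraically closed field whose
centre is spanned by four elements is commutative. -/
theorem comm_of_center_le_four {F Λ : Type*} [Field F] [IsAlgClosed F] [Ring Λ] [Algebra F Λ]
    [FiniteDimensional F Λ] (lam : Λ →ₗ[F] F) (hsym : ∀ x y, lam (x * y) = lam (y * x))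
    (hnd : ∀ x, x ≠ 0 → ∃ y, lam (x * y) ≠ 0)
    (π : Λ →ₐ[F] F) (hnil : ∃ N : ℕ, (RingHom.ker (π : Λ →+* F)) ^ N = ⊥)
    (c : Fin 4 → Λ) (hcen : ∀ w : Λ, (∀ x, w * x = x * w) → ∃ t : Fin 4 → F, w = ∑ i, t i • c i) :
    ∀ x y : Λ, x * y = y * x := by
  classical
  by_contra hne
  push Not at hne
  obtain ⟨x₀, y₀, hxy⟩ := hne
  obtain ⟨N, hN'⟩ := hnil
  have hN : rad π ^ N = ⊥ := pow_eq_bot_of_ideal π hN'
  have hlamK := lam_comm lam hsym
  have hE := exists_comb lam hsym hnd c hcen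
  have hKJ2 : comm F Λ ≤ rad π ^ 2 := comm_le_sq π
  set k₀ := x₀ * y₀ - y₀ * x₀ with hk₀
  have hk₀K : k₀ ∈ comm F Λ := comm_mem x₀ y₀
  have hk₀ne : k₀ ≠ 0 := sub_ne_zero.mpr hxy
  have hex : ∃ n, rad π ^ n = ⊥ := ⟨N, hN⟩
  set n₀ := Nat.find hex with hn₀
  have hn₀bot : rad π ^ n₀ = ⊥ := Nat.find_spec hex
  have hmin : ∀ n, n < n₀ → rad π ^ n ≠ ⊥ := fun n hn => Nat.find_min hex hn
  have hJ2ne : rad π ^ 2 ≠ ⊥ := by
    intro h
    rw [h] at hKJ2
    exact hk₀ne ((Submodule.mem_bot F).mp (hKJ2 hk₀K))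
  have hn3 : 3 ≤ n₀ := by
    by_contra hlt
    apply hJ2ne
    obtain ⟨d, hd⟩ : ∃ d, 2 = n₀ + d := ⟨2 - n₀, by omega⟩
    rw [hd, pow_add, hn₀bot, Submodule.bot_mul]
  obtain ⟨m, hm⟩ : ∃ m, n₀ = m + 1 := ⟨n₀ - 1, by omega⟩
  have hm2 : 2 ≤ m := by omega
  have hlam_top : ∀ u ∈ rad π ^ m, u ≠ 0 → lam u ≠ 0 := by
    intro u hu hu0
    obtain ⟨y, hy⟩ := hnd u hu0
    obtain ⟨η, j, hj, rfl⟩ := exists_decomp_rad π y
    have huj : u * j = 0 := by
      have := mul_mem_succ_right hu hj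
      rw [← hm, hn₀bot] at this
      exact (Submodule.mem_bot F).mp this
    rw [mul_add, huj, add_zero, mul_smul_comm, mul_one, map_smul, smul_eq_mul] at hy
    exact right_ne_zero_of_mul hy
  have hm3 : 3 ≤ m := by
    by_contra hlt
    have hm' : m = 2 := by omega
    subst hm'
    exact hlam_top k₀ (hKJ2 hk₀K) hk₀ne (hlamK k₀ hk₀K)
  obtain ⟨s, hsm, hs0⟩ := (Submodule.ne_bot_iff _).mp (hmin m (by omega))
  have hs3 : s ∈ rad π ^ 3 := pow_anti π (by norm_num) hm3 hsm
  have hls : lam s ≠ 0 := hlam_top s hsm hs0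
  have hJ3ne : rad π ^ 3 ≠ ⊥ := fun h =>
    hs0 (by rw [h] at hs3; exact (Submodule.mem_bot F).mp hs3)
  -- an independent pair
  have hpair : ∃ a ∈ rad π, ∃ b ∈ rad π,
      ∀ α β : F, α • a + β • b ∈ rad π ^ 2 → α = 0 ∧ β = 0 := by
    by_contra hno
    push Not at hno
    apply hxy
    refine comm_of_gen π hN ?_ x₀ y₀
    intro a ha b hb
    obtain ⟨α, β, hmem, hne⟩ := hno a ha b hb
    refine ⟨α, β, ?_, hmem⟩
    by_contra h
    push Not at h
    exact hne h.1 h.2
  obtain ⟨a₀, ha₀, b₀, hb₀, hind₀⟩ := hpair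
  obtain ⟨D1₀, D2₀⟩ := pair_structure π lam hlamK hE hs3 hls ha₀ hb₀ hind₀
  -- a good pair: `a * a ∈ J ^ 3`
  have hgood : ∃ a ∈ rad π, ∃ b ∈ rad π,
      (∀ α β : F, α • a + β • b ∈ rad π ^ 2 → α = 0 ∧ β = 0) ∧ a * a ∈ rad π ^ 3 := by
    obtain ⟨α, hα⟩ := D2₀ (a₀ * a₀) (mul_mem_sq ha₀ ha₀)
    obtain ⟨β₁, hβ₁⟩ := D2₀ (a₀ * b₀) (mul_mem_sq ha₀ hb₀)
    obtain ⟨β₂, hβ₂⟩ := D2₀ (b₀ * a₀) (mul_mem_sq hb₀ ha₀)
    obtain ⟨δ, hδ⟩ := D2₀ (b₀ * b₀) (mul_mem_sq hb₀ hb₀)
    by_cases hα0 : α = 0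
    · refine ⟨a₀, ha₀, b₀, hb₀, hind₀, ?_⟩
      rw [hα0, zero_smul, sub_zero] at hα
      exact hα
    · have hdeg : (Polynomial.C α * Polynomial.X ^ 2 + Polynomial.C (β₁ + β₂) * Polynomial.X
          + Polynomial.C δ).degree ≠ 0 := by
        rw [Polynomial.degree_quadratic hα0]
        norm_num
      obtain ⟨r, hr⟩ := IsAlgClosed.exists_root _ hdeg
      have hr' : α * r ^ 2 + (β₁ + β₂) * r + δ = 0 := by
        simpa [Polynomial.IsRoot.def] using hr
      refine ⟨r • a₀ + b₀, Submodule.add_mem _ (Submodule.smul_mem _ _ ha₀) hb₀, a₀, ha₀, ?_, ?_⟩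
      · intro α' β' h
        have h' : (α' * r + β') • a₀ + α' • b₀ ∈ rad π ^ 2 := by
          convert h using 1
          module
        obtain ⟨h1, h2⟩ := hind₀ _ _ h'
        subst h2
        simpa using h1
      · have e : (r • a₀ + b₀) * (r • a₀ + b₀)
            = (r ^ 2) • (a₀ * a₀ - α • (a₀ * b₀ - b₀ * a₀))
              + r • ((a₀ * b₀ - β₁ • (a₀ * b₀ - b₀ * a₀)) + (b₀ * a₀ - β₂ • (a₀ * b₀ - b₀ * a₀)))
              + (b₀ * b₀ - δ • (a₀ * b₀ - b₀ * a₀))
              + (α * r ^ 2 + (β₁ + β₂) * r + δ) • (a₀ * b₀ - b₀ * a₀) := by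
          simp only [mul_add, add_mul, smul_mul_assoc, mul_smul_comm]
          module
        rw [e, hr', zero_smul, add_zero]
        exact Submodule.add_mem _ (Submodule.add_mem _ (Submodule.smul_mem _ _ hα)
          (Submodule.smul_mem _ _ (Submodule.add_mem _ hβ₁ hβ₂))) hδ
  obtain ⟨a, ha, b, hb, hind, haa⟩ := hgood
  obtain ⟨D1, D2⟩ := pair_structure π lam hlamK hE hs3 hls ha hb hind
  set cc := a * b - b * a with hcc
  have hcc2 : cc ∈ rad π ^ 2 := Submodule.sub_mem _ (mul_mem_sq ha hb) (mul_mem_sq hb ha)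
  obtain ⟨β₁, hβ₁⟩ := D2 (a * b) (mul_mem_sq ha hb)
  obtain ⟨β₂, hβ₂⟩ := D2 (b * a) (mul_mem_sq hb ha)
  obtain ⟨δ, hδ⟩ := D2 (b * b) (mul_mem_sq hb hb)
  have hβ : β₁ - β₂ = 1 := by
    by_contra hne
    have h1 : (1 - (β₁ - β₂)) • cc ∈ rad π ^ 3 := by
      have := Submodule.sub_mem _ hβ₁ hβ₂
      convert this using 1
      rw [hcc]
      module
    have hc3 : cc ∈ rad π ^ 3 := by
      have h0 : (1 - (β₁ - β₂)) ≠ 0 := sub_ne_zero.mpr (Ne.symm hne)
      have := Submodule.smul_mem _ (1 - (β₁ - β₂))⁻¹ h1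
      rwa [smul_smul, inv_mul_cancel₀ h0, one_smul] at this
    apply hJ2ne
    refine pow_eq_bot_of_le π hN ?_
    intro x hx
    obtain ⟨γ, hγ⟩ := D2 x hx
    have := Submodule.add_mem _ hγ (Submodule.smul_mem _ γ hc3)
    simpa using this
  set r₁ := a * b - β₁ • cc with hr₁
  set r₂ := b * a - β₂ • cc with hr₂
  set r₃ := b * b - δ • cc with hr₃
  have eab : a * b = β₁ • cc + r₁ := by rw [hr₁]; abel
  have eba : b * a = β₂ • cc + r₂ := by rw [hr₂]; abel
  have ebb : b * b = δ • cc + r₃ := by rw [hr₃]; abel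
  have h4l : ∀ {x y : Λ}, x ∈ rad π → y ∈ rad π ^ 3 → x * y ∈ rad π ^ 4 :=
    fun hx hy => mul_mem_succ_left hx hy
  have h4r : ∀ {x y : Λ}, x ∈ rad π ^ 3 → y ∈ rad π → x * y ∈ rad π ^ 4 :=
    fun hx hy => mul_mem_succ_right hx hy
  have i1 : β₁ • (a * cc) ∈ rad π ^ 4 := by
    have e : β₁ • (a * cc) = (a * a) * b - a * r₁ := by
      rw [mul_assoc, eab, mul_add, mul_smul_comm]
      abel
    rw [e]
    exact Submodule.sub_mem _ (h4r haa hb) (h4l ha hβ₁)
  have i2 : β₂ • (cc * a) ∈ rad π ^ 4 := by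
    have e : β₂ • (cc * a) = b * (a * a) - r₂ * a := by
      rw [← mul_assoc, eba, add_mul, smul_mul_assoc]
      abel
    rw [e]
    exact Submodule.sub_mem _ (h4l hb haa) (h4r hβ₂ ha)
  have i3 : β₂ • (a * cc) - β₁ • (cc * a) ∈ rad π ^ 4 := by
    have e : β₂ • (a * cc) - β₁ • (cc * a) = r₁ * a - a * r₂ := by
      have h : a * (b * a) = (a * b) * a := (mul_assoc a b a).symm
      rw [eba, eab, mul_add, add_mul, mul_smul_comm, smul_mul_assoc] at h
      calc β₂ • (a * cc) - β₁ • (cc * a)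
          = (β₂ • (a * cc) + a * r₂) - a * r₂ - β₁ • (cc * a) := by abel
        _ = (β₁ • (cc * a) + r₁ * a) - a * r₂ - β₁ • (cc * a) := by rw [h]
        _ = r₁ * a - a * r₂ := by abel
    rw [e]
    exact Submodule.sub_mem _ (h4r hβ₁ ha) (h4l ha hβ₂)
  have hac : a * cc ∈ rad π ^ 4 ∧ cc * a ∈ rad π ^ 4 := by
    by_cases hb1 : β₁ = 0
    · have hb2 : β₂ = -1 := by
        rw [hb1] at hβ
        linear_combination -hβ
      have hca : cc * a ∈ rad π ^ 4 := by
        have := i2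
        rw [hb2, neg_smul, one_smul] at this
        exact (Submodule.neg_mem_iff _).mp this
      refine ⟨?_, hca⟩
      have := i3
      rw [hb1, hb2, zero_smul, sub_zero, neg_smul, one_smul] at this
      exact (Submodule.neg_mem_iff _).mp this
    · have hac : a * cc ∈ rad π ^ 4 := by
        have := Submodule.smul_mem _ β₁⁻¹ i1
        rwa [smul_smul, inv_mul_cancel₀ hb1, one_smul] at this
      refine ⟨hac, ?_⟩
      have h := Submodule.sub_mem _ (Submodule.smul_mem _ β₂ hac) i3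
      rw [sub_sub_cancel] at h
      have := Submodule.smul_mem _ β₁⁻¹ h
      rwa [smul_smul, inv_mul_cancel₀ hb1, one_smul] at this
  obtain ⟨hac, hca⟩ := hac
  have i4 : β₂ • (b * cc) ∈ rad π ^ 4 := by
    have e : β₂ • (b * cc) = δ • (cc * a) + r₃ * a - b * r₂ := by
      have h : b * (b * a) = (b * b) * a := (mul_assoc b b a).symm
      rw [eba, ebb, mul_add, add_mul, mul_smul_comm, smul_mul_assoc] at h
      calc β₂ • (b * cc) = (β₂ • (b * cc) + b * r₂) - b * r₂ := by abel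
        _ = δ • (cc * a) + r₃ * a - b * r₂ := by rw [h]
    rw [e]
    exact Submodule.sub_mem _ (Submodule.add_mem _ (Submodule.smul_mem _ _ hca) (h4r hδ ha))
      (h4l hb hβ₂)
  have i5 : β₁ • (cc * b) ∈ rad π ^ 4 := by
    have e : β₁ • (cc * b) = δ • (a * cc) + a * r₃ - r₁ * b := by
      have h : (a * b) * b = a * (b * b) := mul_assoc a b b
      rw [eab, ebb, mul_add, add_mul, mul_smul_comm, smul_mul_assoc] at h
      calc β₁ • (cc * b) = (β₁ • (cc * b) + r₁ * b) - r₁ * b := by abel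
        _ = δ • (a * cc) + a * r₃ - r₁ * b := by rw [h]
    rw [e]
    exact Submodule.sub_mem _ (Submodule.add_mem _ (Submodule.smul_mem _ _ hac) (h4l ha hδ))
      (h4r hβ₁ hb)
  apply hJ3ne
  refine pow_eq_bot_of_le π hN ?_
  by_cases hb2 : β₂ = 0
  · have hb1 : β₁ = 1 := by
      rw [hb2] at hβ
      linear_combination hβ
    have hcb : cc * b ∈ rad π ^ 4 := by
      have := i5
      rwa [hb1, one_smul] at this
    have e3 : rad π ^ 3 = rad π ^ 2 * rad π := pow_succ _ 2
    rw [e3, Submodule.mul_le]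
    intro y hy x hx
    obtain ⟨γ, hγ⟩ := D2 y hy
    obtain ⟨α', β', hx2⟩ := D1 x hx
    have e : y * x = (y - γ • cc) * x + γ • (α' • (cc * a) + β' • (cc * b)
        + cc * (x - (α' • a + β' • b))) := by
      simp only [sub_mul, mul_sub, mul_add, smul_mul_assoc, mul_smul_comm]
      module
    rw [e]
    refine Submodule.add_mem _ (h4r hγ hx) (Submodule.smul_mem _ _ (Submodule.add_mem _
      (Submodule.add_mem _ (Submodule.smul_mem _ _ hca) (Submodule.smul_mem _ _ hcb)) ?_))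
    have h22 := mul_mem_pow_add π hcc2 hx2
    exact h22
  · have hbc : b * cc ∈ rad π ^ 4 := by
      have := Submodule.smul_mem _ β₂⁻¹ i4
      rwa [smul_smul, inv_mul_cancel₀ hb2, one_smul] at this
    have e3 : rad π ^ 3 = rad π * rad π ^ 2 := pow_succ' _ 2
    rw [e3, Submodule.mul_le]
    intro x hx y hy
    obtain ⟨γ, hγ⟩ := D2 y hy
    obtain ⟨α', β', hx2⟩ := D1 x hx
    have e : x * y = x * (y - γ • cc) + γ • (α' • (a * cc) + β' • (b * cc)
        + (x - (α' • a + β' • b)) * cc) := by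
      simp only [sub_mul, mul_sub, add_mul, smul_mul_assoc, mul_smul_comm]
      module
    rw [e]
    refine Submodule.add_mem _ (h4l hx hγ) (Submodule.smul_mem _ _ (Submodule.add_mem _
      (Submodule.add_mem _ (Submodule.smul_mem _ _ hac) (Submodule.smul_mem _ _ hbc)) ?_))
    have h22 := mul_mem_pow_add π hx2 hcc2
    exact h22

end Main

end Cfsg.Agent.Lib.Helper76.SymLocal
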